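import Cfsg.Agent.Dih.Sec1

/-! MacWilliams' four-generator theorem. -/

set_option autoImplicit false
set_option linter.unusedVariables false
set_option linter.unusedSectionVars false

namespace Cfsg.Agent.Dih

open Cfsg.Agent.PLoc Cfsg.Agent.Inv Subgroup
open scoped commutatorElement

variable {G : Type*} [Group G]

/-- centralizer of `m` modulo `C` -/
def cmod (C : Subgroup G) [hC : C.Normal] (m : G) : Subgroup G where
  carrier := {t | ⁅m, t⁆ ∈ C}
  one_mem' := by simp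
  mul_mem' := fun {a b} ha hb => by
    show ⁅m, a * b⁆ ∈ C
    rw [comm_mul_r]; exact mul_mem ha (hC.conj_mem _ hb _)
  inv_mem' := fun {a} ha => by
    show ⁅m, a⁻¹⁆ ∈ C
    have := hC.conj_mem _ (inv_mem ha) a⁻¹
    convert this using 1
    simp only [commutatorElement_def]; group

theorem mem_cmod {C : Subgroup G} [C.Normal] {m t : G} : t ∈ cmod C m ↔ ⁅m, t⁆ ∈ C := Iff.rfl

theorem comm_symm_mem {C : Subgroup G} {a b : G} (h : ⁅a, b⁆ ∈ C) : ⁅b, a⁆ ∈ C := by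
  rw [← commutatorElement_inv]; exact inv_mem h

theorem cent_kf_index [Finite G] (hG : IsPGroup 2 G) {V : Subgroup G} (hV : IsKleinFour V)
    [hn : V.Normal] : ∃ z ∈ V, z ≠ 1 ∧ (∀ g, g * z = z * g) ∧ ∃ v ∈ V, v ≠ 1 ∧ v ≠ z ∧
      (∀ g ∉ centralizer (V : Set G), g * v * g⁻¹ = z * v) ∧
      (centralizer (V : Set G)).index ≤ 2 := by
  have h1 := PLoc.inf_center_ne_bot hG (N := V) fun e => by
    have := kf_card hV; rw [e] at this; simp at this
  obtain ⟨⟨z, hz, hzc⟩, h2⟩ := (ne_bot_iff_exists_ne_one).1 h1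
  have hz1 : z ≠ 1 := fun e => h2 (Subtype.ext e)
  have hzc' : ∀ g, g * z = z * g := mem_center_iff.1 hzc
  obtain ⟨v, hv, hv1, hvz⟩ := kf_exists_ne hV z
  have h3 : ∀ g ∉ centralizer (V : Set G), g * v * g⁻¹ = z * v := fun g hg => by
    rcases kf_cases hV hz hv hz1 hv1 hvz.symm (hn.conj_mem v hv g) with e | e | e | e
    · exact (hv1 (by simpa using e)).elim
    · refine (hvz ?_).elim
      rw [mul_inv_eq_iff_eq_mul, ← hzc', mul_left_cancel_iff] at e; exact e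
    · exact (hg (kf_mem_centralizer hV hz hv hz1 hv1 hvz.symm (hzc' g).symm
        (mul_inv_eq_iff_eq_mul.1 e).symm)).elim
    · exact e
  refine ⟨z, hz, hz1, hzc', v, hv, hv1, hvz, h3, ?_⟩
  rw [← relIndex_top_right]
  refine relIndex_le_two fun x _ y _ hx hy =>
    kf_mem_centralizer hV hz hv hz1 hv1 hvz.symm (hzc' _).symm ?_
  have e := (h3 x hx).trans (h3 y hy).symm
  calc v * (x⁻¹ * y) = x⁻¹ * (x * v * x⁻¹) * y := by group
    _ = _ := by rw [e]; group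

structure MW (V W : Subgroup G) : Prop where
  p : IsPGroup 2 G
  kf : IsKleinFour V
  nV : V.Normal
  nW : W.Normal
  le : V ≤ W
  ab : ∀ a ∈ W, ∀ b ∈ W, a * b = b * a
  sqW : ∀ w ∈ W, w * w ∈ V
  alp : ∀ x ∈ centralizer (W : Set G), x * x ∈ V → x ∈ W
  om : ∀ w ∈ W, w * w = 1 → w ∈ V
  noE8 : ∀ x ∈ centralizer (V : Set G), x * x = 1 → (∀ s : G, ⁅s, x⁆ ∈ V) → x ∈ V

namespace MW

variable [Finite G] {V W : Subgroup G}

local notation "C" => centralizer (SetLike.coe W)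
local notation "T" => centralizer (SetLike.coe V)

theorem nC (h : MW V W) : (C).Normal := by have := h.nW; infer_instance

theorem nT (h : MW V W) : (T).Normal := by have := h.nV; infer_instance

theorem CT (h : MW V W) : C ≤ T := centralizer_le h.le

theorem WC (h : MW V W) : W ≤ C := fun a ha b hb => h.ab b hb a ha

theorem pow_W (h : MW V W) {c : G} (hc : c ∈ C) (hv : c ∉ V) :
    ∃ i : ℕ, c ^ i ∈ W ∧ c ^ i ∉ V := by
  obtain ⟨i, h1, h2⟩ := Core.exists_pow_not_mem_pow_mem h.p hv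
  exact ⟨_, h.alp _ (pow_mem hc _) (pow_two (c ^ 2 ^ i) ▸ h2), h1⟩

/-- `t` inverts no element of order 4 -/
def NI (V W : Subgroup G) (t : G) : Prop := ∀ w ∈ W, t * w * t⁻¹ = w⁻¹ → w ∈ V

/-- `t` centralizes no element of order 4 -/
def NF (V W : Subgroup G) (t : G) : Prop := ∀ w ∈ W, t * w * t⁻¹ = w → w ∈ V

theorem of_NI (h : MW V W) {t c : G} (ht : NI V W t) (hc : c ∈ C) (e : t * c * t⁻¹ = c⁻¹) :
    c ∈ V := by
  by_contra hv
  obtain ⟨i, h1, h2⟩ := h.pow_W hc hv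
  exact h2 (ht _ h1 (by rw [← conj_pow, e, inv_pow]))

theorem of_NF (h : MW V W) {t c : G} (ht : NF V W t) (hc : c ∈ C) (e : t * c * t⁻¹ = c) :
    c ∈ V := by
  by_contra hv
  obtain ⟨i, h1, h2⟩ := h.pow_W hc hv
  exact h2 (ht _ h1 (by rw [← conj_pow, e]))

theorem conj_C (h : MW V W) {c w : G} (hc : c ∈ C) (hw : w ∈ W) : c * w * c⁻¹ = w := by
  rw [← hc w hw]; group

theorem conj_T (h : MW V W) {c w : G} (hc : c ∈ T) (hw : w ∈ V) : c * w * c⁻¹ = w := by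
  rw [← hc w hw]; group

theorem NI_C (h : MW V W) {c : G} (hc : c ∈ C) : NI V W c := fun w hw e => by
  rw [h.conj_C hc hw] at e
  exact h.om w hw (mul_eq_one_iff_eq_inv.2 e)

theorem sq_inj (h : MW V W) {x y : G} (hx : x ∈ C) (hy : y ∈ C) (e : x * x = y * y) :
    x⁻¹ * y ∈ V := by
  refine h.of_NI (h.NI_C hx) (mul_mem (inv_mem hx) hy) ?_
  calc x * (x⁻¹ * y) * x⁻¹ = y⁻¹ * (y * y) * x⁻¹ := by group
    _ = _ := by rw [← e]; group

theorem comm_V (h : MW V W) {t w : G} (ht : t ∈ T) (hw : w ∈ W) : ⁅t, w⁆ ∈ V := by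
  have h1 := h.nW.conj_mem w hw t
  refine h.om _ (mul_mem h1 (inv_mem hw)) ?_
  have h2 := h.ab _ h1 _ (inv_mem hw)
  calc t * w * t⁻¹ * w⁻¹ * (t * w * t⁻¹ * w⁻¹)
      = t * w * t⁻¹ * (w⁻¹ * (t * w * t⁻¹)) * w⁻¹ := by group
    _ = t * (w * w) * t⁻¹ * (w * w)⁻¹ := by rw [← h2]; group
    _ = 1 := by rw [h.conj_T ht (h.sqW w hw)]; group

theorem sq_C (h : MW V W) {t : G} (ht : t ∈ T) : t * t ∈ C := fun w hw => by
  have h1 := h.comm_V ht hw
  have h2 : t * w * t⁻¹ = ⁅t, w⁆ * w := by rw [commutatorElement_def]; group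
  rw [eq_comm, ← mul_inv_eq_iff_eq_mul]
  calc t * t * w * (t * t)⁻¹ = t * (t * w * t⁻¹) * t⁻¹ := by group
    _ = t * ⁅t, w⁆ * t⁻¹ * (t * w * t⁻¹) := by rw [h2]; group
    _ = w := by rw [h.conj_T ht h1, h2, ← mul_assoc, kf_sq h.kf h1, one_mul]

theorem sq_of_NF (h : MW V W) {t : G} (ht : t ∈ T) (hf : NF V W t) : t * t ∈ V :=
  h.of_NF hf (h.sq_C ht) (by group)

theorem NF_mul (h : MW V W) {t c : G} (hf : NF V W t) (hc : c ∈ C) : NF V W (t * c) :=
  fun w hw e => hf w hw (by rw [← e]; conv_lhs => rw [e, ← h.conj_C hc hw]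
                            group)

theorem NI_mul (h : MW V W) {t c : G} (hf : NI V W t) (hc : c ∈ C) : NI V W (t * c) :=
  fun w hw e => hf w hw (by rw [← e]; conv_lhs => rw [← h.conj_C hc hw]
                            group)

theorem inv_of_NF (h : MW V W) {t c : G} (ht : t ∈ T) (hf : NF V W t) (hc : c ∈ C) :
    t * c * t⁻¹ * c ∈ V := by
  have h1 := h.sq_of_NF (mul_mem ht (h.CT hc)) (h.NF_mul hf hc)
  have h2 := h.sq_of_NF ht hf
  have h3 := mul_mem h1 (h.nV.conj_mem _ (inv_mem h2) c⁻¹)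
  convert h3 using 1; group

theorem cent_of_NF (h : MW V W) {s t c : G} (hs : s ∈ T) (ht : t ∈ T) (hf : NF V W t)
    (hf' : NF V W (s * t)) (hc : c ∈ C) : ⁅s, c⁆ ∈ V := by
  have hd := h.nC.conj_mem c hc t⁻¹
  have h1 := h.inv_of_NF ht hf hd
  have h2 := h.inv_of_NF (mul_mem hs ht) hf' hd
  have h3 := mul_mem h2 (inv_mem h1)
  convert h3 using 1
  rw [commutatorElement_def]; group

theorem b_le (h : MW V W) {H N : Subgroup G} (hs : SqIn H N) :
    N.relIndex (H ⊓ C) ≤ 4 ∧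
      (N.relIndex (H ⊓ C) = 4 → ∀ n ∈ N, n ∈ H ⊓ C → ∃ x ∈ H ⊓ C, x * x = n) := by
  rw [← kf_card h.kf]
  exact relIndex_le_of_sq (fun x hx => hs.sq x hx.1) fun x hx y hy e => h.sq_inj hx.2 hy.2 e

theorem comm_of_invol (h : MW V W) {x g : G} (hx : NI V W x) (hx2 : x * x = 1)
    (hg : ⁅g, x⁆ ∈ C) : ⁅g, x⁆ ∈ V := by
  refine h.of_NI hx hg ?_
  have e : x⁻¹ = x := inv_eq_of_mul_eq_one_right hx2
  simp only [commutatorElement_def, mul_inv_rev, inv_inv, e]
  calc _ = x * g * x * g⁻¹ * (x * x) := by group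
    _ = _ := by rw [hx2]; group

/-- the case `|W : V| ≤ 2` -/
theorem small (h : MW V W) {w₁ : G} (h1 : w₁ ∈ W) (h2 : ∀ w ∈ W, w ∈ V ∨ w₁⁻¹ * w ∈ V) :
    SR 16 G := fun H N hs => by
  have := h.nC
  have := h.nV
  have hb := (h.b_le hs).1
  have e := hs.chain C
  have inj : ∀ x ∈ T, ∀ y ∈ T, ⁅x, w₁⁆ = ⁅y, w₁⁆ → x⁻¹ * y ∈ C := fun x hx y hy e w hw => by
    have h3 : w₁ * (x⁻¹ * y) = x⁻¹ * y * w₁ := by
      simp only [commutatorElement_def, mul_left_inj] at e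
      calc _ = x⁻¹ * (x * w₁ * x⁻¹) * y := by group
        _ = _ := by rw [e]; group
    have h4 := mul_mem (inv_mem hx) hy
    rcases h2 w hw with h5 | h5
    · exact h4 w h5
    · have := h4 _ h5
      calc _ = w₁ * (w₁⁻¹ * w * (x⁻¹ * y)) := by group
        _ = w₁ * (x⁻¹ * y) * (w₁⁻¹ * w) := by rw [this]; group
        _ = _ := by rw [h3]; group
  have ha : (N ⊔ H ⊓ C).relIndex H ≤ 4 := by
    by_cases hT : H ≤ T
    · refine (relIndex_le_of_inf' le_sup_right).trans ?_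
      rw [← kf_card h.kf]
      exact relIndex_le_sub (fun x => ⁅x, w₁⁆) (fun x hx => h.comm_V (hT hx) h1)
        fun x hx y hy => inj x (hT hx) y (hT hy)
    obtain ⟨m, hm, hmT⟩ := SetLike.not_le_iff_exists.1 hT
    obtain ⟨-, -, -, -, -, -, -, -, -, hi⟩ := cent_kf_index h.p h.kf
    have hs' := hs.up C
    rw [hs'.chain T]
    have h3 : ((N ⊔ H ⊓ C) ⊔ H ⊓ T).relIndex H ≤ 2 := (relIndex_le_of_inf le_sup_right).trans hi
    have h4 := relIndex_le_cent (X := H ⊓ T) (Z := C) (K := N ⊔ H ⊓ C) (D := cmod C m) (m := m)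
      le_normalizer_of_normal
      (fun x hx => ⟨hs'.comm hm hx.1, hs'.le (hs'.comm hm hx.1),
        Subgroup.mul_mem _ (h.nT.conj_mem x hx.2 m) (Subgroup.inv_mem _ hx.2)⟩)
      (fun x hx => le_sup_right (b := H ⊓ C) ⟨hx.2.1, hx.1⟩) fun x _ hx => hx
    have h5 := relIndex_le_sub (D := C) (X := cmod C m ⊓ (H ⊓ T)) (Y := V ⊓ centralizer {m})
      (fun x => ⁅x, w₁⁆) (fun x hx => mem_inf.2 ⟨h.comm_V hx.2.2 h1, ?_⟩)
      fun x hx y hy => inj x hx.2.2 y hy.2.2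
    · have h6 : Nat.card (V ⊓ centralizer {m} : Subgroup G) < 4 := by
        rw [← kf_card h.kf]
        refine card_lt_of_lt (lt_of_le_of_ne inf_le_left fun e => hmT fun v hv => ?_)
        rw [← e] at hv
        exact mem_centralizer_singleton_iff.1 hv.2
      have := card_cases h.p (V ⊓ centralizer {m})
      exact Nat.mul_le_mul (n₂ := 2) (by omega) h3
    · rw [mem_centralizer_singleton_iff, eq_comm, ← mul_inv_eq_iff_eq_mul]
      have h6 := h.nW.conj_mem w₁ h1 m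
      have h7 : m * x * m⁻¹ = ⁅m, x⁆ * x := by rw [commutatorElement_def]; group
      have h8 : ⁅x, m * w₁ * m⁻¹⁆ = ⁅x, w₁⁆ := by
        rcases h2 _ h6 with h9 | h9
        · have h10 : w₁ ∈ V := by simpa [mul_assoc] using h.nV.conj_mem _ h9 m⁻¹
          rw [commutatorElement_eq_one_iff_mul_comm.2 (hx.2.2 _ h9).symm,
            commutatorElement_eq_one_iff_mul_comm.2 (hx.2.2 _ h10).symm]
        · rw [show m * w₁ * m⁻¹ = w₁ * (w₁⁻¹ * (m * w₁ * m⁻¹)) by group, comm_mul_r,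
            commutatorElement_eq_one_iff_mul_comm.2 (hx.2.2 _ h9).symm]
          simp
      rw [conjugate_commutatorElement, h7, comm_mul_l, h8,
        commutatorElement_eq_one_iff_mul_comm.2 (hx.1 _ h6).symm, mul_one]
      exact h.conj_C hx.1 (h.le (h.comm_V hx.2.2 h1))
  rw [e]
  exact Nat.mul_le_mul hb ha

end MW

abbrev E2 := ZMod 2 × ZMod 2

/-- apply a 2×2 matrix given by its columns -/
def app2 (m : E2 × E2) (u : E2) : E2 := u.1 • m.1 + u.2 • m.2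

def gam (u : E2) : E2 := (u.1 + u.2, u.2)

def cjm (m : E2 × E2) : E2 × E2 := (gam (app2 m (gam (1, 0))), gam (app2 m (gam (0, 1))))

theorem exists_coord {V : Subgroup G} (hV : IsKleinFour V) {z v : G} (hz : z ∈ V) (hv : v ∈ V)
    (hz1 : z ≠ 1) (hv1 : v ≠ 1) (hvz : v ≠ z) : ∃ co : G → E2,
    (∀ x ∈ V, ∀ y ∈ V, co (x * y) = co x + co y) ∧ (∀ x ∈ V, ∀ y ∈ V, co x = co y → x = y) ∧
      co 1 = 0 ∧ co z = (1, 0) ∧ co v = (0, 1) := by
  classical
  have h1 : z * v ≠ 1 := fun e => hvz (by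
    rw [eq_inv_of_mul_eq_one_right e]; exact inv_eq_of_mul_eq_one_right (kf_sq hV hz))
  have h2 : z * v ≠ z := by simpa using hv1
  have h3 : z * v ≠ v := by simpa using hz1
  have e1 := kf_sq hV hz
  have e2 := kf_sq hV hv
  have e3 := kf_comm hV hv hz
  have e4 : z * (z * v) = v := by rw [← mul_assoc, e1, one_mul]
  have e5 : v * (z * v) = z := by rw [← mul_assoc, e3, mul_assoc, e2, mul_one]
  have e6 : z * v * z = v := by rw [mul_assoc, e3, e4]
  have e7 : z * v * v = z := by rw [mul_assoc, e2, mul_one]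
  have e8 := kf_sq hV (mul_mem hz hv)
  let co : G → E2 := fun x =>
    if x = 1 then 0 else if x = z then (1, 0) else if x = v then (0, 1) else (1, 1)
  have c1 : co 1 = 0 := by simp [co]
  have c2 : co z = (1, 0) := by simp [co, hz1]
  have c3 : co v = (0, 1) := by simp [co, hv1, hvz]
  have c4 : co (z * v) = (1, 1) := by simp only [co, h1, h2, h3, if_false]
  refine ⟨co, fun x hx y hy => ?_, fun x hx y hy => ?_, c1, c2, c3⟩ <;>
  rcases kf_cases hV hz hv hz1 hv1 hvz.symm hx with rfl | rfl | rfl | rfl <;>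
  rcases kf_cases hV hz hv hz1 hv1 hvz.symm hy with rfl | rfl | rfl | rfl <;>
  simp only [one_mul, mul_one, e1, e2, e3, e4, e5, e6, e7, e8, c1, c2, c3, c4] <;>
  first | decide | (intro h; first | trivial | exact absurd h (by decide))

theorem two_E2 : ∀ m : E2 × E2, m + m = 0 := by decide

/-- matrices of the action of `C(V)` on `W ≅ C₄ × C₄` -/
structure MC (V W : Subgroup G) (φ : G → E2 × E2) : Prop extends MW V W where
  add : ∀ s ∈ centralizer (V : Set G), ∀ t ∈ centralizer (V : Set G), φ (s * t) = φ s + φ t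
  ker : ∀ t ∈ centralizer (V : Set G), φ t = 0 ↔ t ∈ centralizer (W : Set G)
  out : ∀ g ∉ centralizer (V : Set G), ∀ t ∈ centralizer (V : Set G),
    φ (g * t * g⁻¹) = cjm (φ t)
  nf : ∀ t ∈ centralizer (V : Set G), (∀ u, app2 (φ t) u = 0 → u = 0) → MW.NF V W t
  ni : ∀ t ∈ centralizer (V : Set G), (∀ u, app2 (φ t) u = u → u = 0) → MW.NI V W t
  sur : ∀ t ∈ centralizer (V : Set G), (∀ u, app2 (φ t) u = u → u = 0) → ∀ v ∈ V,
    ∃ w ∈ W, t * w * t⁻¹ * w = v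

theorem MW.exists_MC [Finite G] {V W : Subgroup G} (h : MW V W)
    (hs : ∀ v ∈ V, ∃ w ∈ W, w * w = v) : ∃ φ, MC V W φ := by
  have := h.nV
  obtain ⟨z, hz, hz1, hzc, v, hv, hv1, hvz, hout, -⟩ := cent_kf_index h.p h.kf
  obtain ⟨co, cadd, cinj, c1, c2, c3⟩ := exists_coord h.kf hz hv hz1 hv1 hvz
  obtain ⟨w₁, h1, e1⟩ := hs z hz
  obtain ⟨w₂, h2, e2⟩ := hs v hv
  let φ : G → E2 × E2 := fun t => (co ⁅t, w₁⁆, co ⁅t, w₂⁆)
  have hl : ∀ s ∈ centralizer (V : Set G), ∀ t ∈ centralizer (V : Set G), ∀ w ∈ W,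
      co ⁅s * t, w⁆ = co ⁅s, w⁆ + co ⁅t, w⁆ := fun s hs t ht w hw => by
    rw [comm_mul_l, h.conj_T hs (h.comm_V ht hw), cadd _ (h.comm_V ht hw) _ (h.comm_V hs hw),
      add_comm]
  have hr : ∀ t ∈ centralizer (V : Set G), ∀ w ∈ W, ∀ w' ∈ W,
      ⁅t, w * w'⁆ = ⁅t, w⁆ * ⁅t, w'⁆ := fun t ht w hw w' hw' => by
    rw [comm_mul_r, h.conj_T (h.CT (h.WC hw)) (h.comm_V ht hw')]
  have hsq : ∀ t ∈ centralizer (V : Set G), ∀ w ∈ W, ∀ w' ∈ W, w * w = w' * w' →
      ⁅t, w'⁆ = ⁅t, w⁆ := fun t ht w hw w' hw' e => by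
    have h3 := h.sq_inj (h.WC hw) (h.WC hw') e
    rw [show w' = w * (w⁻¹ * w') by group, hr t ht w hw _ (h.le h3),
      commutatorElement_eq_one_iff_mul_comm.2 (ht _ h3).symm, mul_one]
  have key : ∀ t ∈ centralizer (V : Set G), ∀ w ∈ W,
      co ⁅t, w⁆ = app2 (φ t) (co (w * w)) := fun t ht w hw => by
    rcases kf_cases h.kf hz hv hz1 hv1 hvz.symm (h.sqW w hw) with e | e | e | e
    · rw [hsq t ht 1 (one_mem _) w hw (by rw [e, mul_one]), e, commutatorElement_one_right, c1]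
      simp [app2]
    · rw [hsq t ht w₁ h1 w hw (by rw [e, e1]), e, c2]; simp [app2, φ]
    · rw [hsq t ht w₂ h2 w hw (by rw [e, e2]), e, c3]; simp [app2, φ]
    · rw [hsq t ht (w₁ * w₂) (mul_mem h1 h2) w hw (by
        rw [e, ← e1, ← e2, mul_assoc, mul_assoc, ← mul_assoc w₂, h.ab _ h2 _ h1, mul_assoc]),
        e, hr t ht _ h1 _ h2, cadd _ (h.comm_V ht h1) _ (h.comm_V ht h2), cadd _ hz _ hv, c2, c3]
      simp [app2, φ]
  have hg : ∀ g ∉ centralizer (V : Set G), ∀ x ∈ V, co (g * x * g⁻¹) = gam (co x) :=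
    fun g hg x hx => by
    have e3 : g * z * g⁻¹ = z := by rw [hzc]; group
    rcases kf_cases h.kf hz hv hz1 hv1 hvz.symm hx with rfl | rfl | rfl | rfl
    · rw [mul_one, mul_inv_cancel, c1]; decide
    · rw [e3, c2]; decide
    · rw [hout g hg, cadd _ hz _ hv, c2, c3]; decide
    · rw [← conj_mul, e3, hout g hg, cadd _ hz _ (mul_mem hz hv), cadd _ hz _ hv, c2, c3]; decide
  have hsurj : ∀ u : E2, ∃ w ∈ W, co (w * w) = u := fun u => by
    have : u = 0 ∨ u = (1, 0) ∨ u = (0, 1) ∨ u = (1, 0) + (0, 1) := by revert u; decide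
    rcases this with rfl | rfl | rfl | rfl
    · exact ⟨1, one_mem _, by rw [mul_one, c1]⟩
    · exact ⟨w₁, h1, by rw [e1, c2]⟩
    · exact ⟨w₂, h2, by rw [e2, c3]⟩
    · obtain ⟨w, hw, e⟩ := hs _ (mul_mem hz hv)
      exact ⟨w, hw, by rw [e, cadd _ hz _ hv, c2, c3]⟩
  refine ⟨φ, h, fun s hs t ht => Prod.ext (hl s hs t ht _ h1) (hl s hs t ht _ h2),
    fun t ht => ⟨fun e w hw => ?_, fun e => ?_⟩, fun g hg' t ht => ?_, fun t ht e w hw e' => ?_,
    fun t ht e w hw e' => ?_, fun t ht e x hx => ?_⟩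
  · have h3 := key t ht w hw
    rw [e, show app2 0 (co (w * w)) = co 1 by rw [c1]; simp [app2]] at h3
    exact (commutatorElement_eq_one_iff_mul_comm.1
      (cinj _ (h.comm_V ht hw) _ (one_mem _) h3)).symm
  · simp only [φ, commutatorElement_eq_one_iff_mul_comm.2 (e _ h1).symm,
      commutatorElement_eq_one_iff_mul_comm.2 (e _ h2).symm, c1]
    rfl
  · have hg'' : g⁻¹ ∉ centralizer (V : Set G) := fun e => hg' (by simpa using inv_mem e)
    have h3 : ∀ w ∈ W, co ⁅g * t * g⁻¹, w⁆ = gam (app2 (φ t) (gam (co (w * w)))) := fun w hw => by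
      have h4 := h.nW.conj_mem w hw g⁻¹
      rw [← hg _ hg'' _ (h.sqW w hw), ← conj_mul, ← key t ht _ h4, ← hg g hg' _ (h.comm_V ht h4),
        conjugate_commutatorElement]
      congr 2; group
    refine Prod.ext ((h3 _ h1).trans ?_) ((h3 _ h2).trans ?_)
    · rw [e1, c2]; rfl
    · rw [e2, c3]; rfl
  · have h3 := key t ht w hw
    rw [commutatorElement_def, e', mul_inv_cancel, c1] at h3
    exact h.om w hw (cinj _ (h.sqW w hw) _ (one_mem _) (by rw [c1]; exact e _ h3.symm))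
  · have h3 := key t ht w hw
    rw [commutatorElement_def, e', ← mul_inv_rev,
      inv_eq_of_mul_eq_one_right (kf_sq h.kf (h.sqW w hw))] at h3
    exact h.om w hw (cinj _ (h.sqW w hw) _ (one_mem _) (by rw [c1]; exact e _ h3.symm))
  · have h3 : ∀ m : E2 × E2, (∀ u, app2 m u = u → u = 0) → ∀ u', ∃ u, app2 m u + u = u' := by
      decide
    obtain ⟨u, hu⟩ := h3 _ e (co x)
    obtain ⟨w, hw, rfl⟩ := hsurj u
    rw [← key t ht w hw, ← cadd _ (h.comm_V ht hw) _ (h.sqW w hw)] at hu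
    refine ⟨w, hw, Eq.trans ?_ (cinj _ (mul_mem (h.comm_V ht hw) (h.sqW w hw)) _ hx hu)⟩
    rw [commutatorElement_def]; group

namespace MC

variable [Finite G] {V W : Subgroup G} {φ : G → E2 × E2}

local notation "C" => centralizer (SetLike.coe W)
local notation "T" => centralizer (SetLike.coe V)

theorem of_C (h : MC V W φ) {c : G} (hc : c ∈ C) : φ c = 0 := (h.ker c (h.CT hc)).2 hc

theorem inv (h : MC V W φ) {t : G} (ht : t ∈ T) : φ t⁻¹ = φ t := by
  have h1 := h.add _ ht _ (inv_mem ht)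
  rw [mul_inv_cancel, h.of_C (one_mem _)] at h1
  rw [← add_zero (φ t), h1, ← add_assoc, two_E2, zero_add]

theorem inj (h : MC V W φ) {x y : G} (hx : x ∈ T) (hy : y ∈ T) (e : φ x = φ y) : x⁻¹ * y ∈ C := by
  rw [← h.ker _ (mul_mem (inv_mem hx) hy), h.add _ (inv_mem hx) _ hy, h.inv hx, e, two_E2]

theorem conj_in (h : MC V W φ) {g t : G} (hg : g ∈ T) (ht : t ∈ T) : φ (g * t * g⁻¹) = φ t := by
  rw [h.add _ (mul_mem hg ht) _ (inv_mem hg), h.add _ hg _ ht, h.inv hg, add_right_comm, two_E2,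
    zero_add]

theorem conj (h : MC V W φ) (g : G) {t : G} (ht : t ∈ T) :
    φ (g * t * g⁻¹) = φ t ∨ φ (g * t * g⁻¹) = cjm (φ t) := by
  by_cases hg : g ∈ T
  · exact Or.inl (h.conj_in hg ht)
  · exact Or.inr (h.out g hg t ht)

theorem comm_C (h : MC V W φ) {g t : G} (ht : t ∈ T) : ⁅g, t⁆ ∈ C ↔ φ (g * t * g⁻¹) = φ t := by
  have h1 := h.nT.conj_mem t ht g
  rw [commutatorElement_def, ← h.ker _ (mul_mem h1 (inv_mem ht)), h.add _ h1 _ (inv_mem ht),
    h.inv ht]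
  refine ⟨fun e => ?_, fun e => by rw [e, two_E2]⟩
  rw [← add_zero (φ t), ← e, add_comm, add_assoc, two_E2, add_zero]

theorem exists_invol (h : MC V W φ) {s : G} (hs : s ∈ T) (h1 : ∀ u, app2 (φ s) u = u → u = 0)
    (h2 : s * s ∈ V) : ∃ x ∈ T, φ x = φ s ∧ x * x = 1 ∧
      ∀ g, φ (g * x * g⁻¹) = φ x → ⁅g, x⁆ ∈ V := by
  obtain ⟨w, hw, e⟩ := h.sur s hs h1 _ h2
  have hx := mul_mem hs (h.CT (h.WC hw))
  have h3 : φ (s * w) = φ s := by rw [h.add _ hs _ (h.CT (h.WC hw)), h.of_C (h.WC hw), add_zero]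
  have h4 : s * w * (s * w) = 1 := by
    have h5 := h.ab _ (h.le h2) _ hw
    calc _ = s * w * s⁻¹ * (s * s * w) := by group
      _ = s * w * s⁻¹ * w * (s * s) := by rw [h5]; group
      _ = 1 := by rw [e, kf_sq h.kf h2]
  exact ⟨_, hx, h3, h4, fun g hg => h.comm_of_invol (h.ni _ hx (h3 ▸ h1)) h4 ((h.comm_C hx).2 hg)⟩

/-- the key lemma -/
theorem key (h : MC V W φ) {s : G} (hs : s ∈ T) (h0 : φ s ≠ 0)
    (h1 : ∀ u, app2 (φ s) u = u → u = 0) (h2 : s * s ∈ V) (h3 : ∀ g, φ (g * s * g⁻¹) = φ s) :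
    False := by
  obtain ⟨x, hx, e, hx2, h4⟩ := h.exists_invol hs h1 h2
  have h5 := h.noE8 x hx hx2 fun g => h4 g (by
    have h6 := h.inj hs hx e.symm
    rw [show g * x * g⁻¹ = g * s * g⁻¹ * (g * (s⁻¹ * x) * g⁻¹) by group,
      h.add _ (h.nT.conj_mem _ hs g) _ (h.nT.conj_mem _ (h.CT h6) g),
      h.of_C (h.nC.conj_mem _ h6 g), add_zero, h3, e])
  exact h0 (e ▸ h.of_C (h.WC (h.le h5)))

theorem kb (h : MC V W φ) {H N : Subgroup G} (hs : SqIn H N) {s t : G} (hsH : s ∈ H) (hsT : s ∈ T)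
    (ht : t ∈ T) (h0 : φ s ≠ 0) (h1 : ∀ u, app2 (φ s) u = u → u = 0)
    (h2 : φ t = ((1, 0), (0, 1))) (h3 : ∀ g, φ (g * s * g⁻¹) = φ s) : N.relIndex (H ⊓ C) ≤ 2 := by
  obtain ⟨h4, h5⟩ := h.b_le hs
  by_contra h6
  have h7 := relIndex_cases h.p N (H ⊓ C)
  obtain ⟨c, hc, e⟩ := h5 (by omega) _ (hs.sq s hsH) ⟨mul_mem hsH hsH, h.sq_C hsT⟩
  have hc' : c⁻¹ ∈ C := Subgroup.inv_mem _ hc.2
  have h8 := h.cent_of_NF hsT ht (h.nf t ht (by rw [h2]; decide)) (h.nf _ (mul_mem hsT ht) (by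
    rw [h.add _ hsT _ ht, h2]; revert h1; generalize φ s = m; revert m; decide)) hc'
  have h9 : φ (s * c⁻¹) = φ s := by rw [h.add _ hsT _ (h.CT hc'), h.of_C hc', add_zero]
  refine h.key (mul_mem hsT (h.CT hc')) (h9 ▸ h0) (h9 ▸ h1) ?_ fun g => ?_
  · convert h8 using 1
    rw [commutatorElement_def]
    calc _ = s * c⁻¹ * s⁻¹ * (s * s) * c⁻¹ := by group
      _ = _ := by rw [← e]; group
  · rw [← conj_mul, h.add _ (h.nT.conj_mem _ hsT g) _ (h.nT.conj_mem _ (h.CT hc') g),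
      h.of_C (h.nC.conj_mem _ hc' g), add_zero, h3, h9]

theorem no_omega (h : MC V W φ) {t : G} (ht : t ∈ T)
    (h1 : φ t = ((0, 1), (1, 1)) ∨ φ t = ((1, 1), (1, 0)))
    (h2 : ∀ p q, (∃ s ∈ T, φ s = p) ∨ (∃ s ∈ T, φ s = q) ∨ ∃ s ∈ T, φ s = p + q) : False := by
  have h3 : ∀ u, app2 (φ t) u = u → u = 0 := by rcases h1 with e | e <;> rw [e] <;> decide
  have h4 := h.sq_of_NF ht (h.nf t ht (by rcases h1 with e | e <;> rw [e] <;> decide))
  obtain ⟨g, hg⟩ : ∃ g, g ∉ T := by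
    by_contra h5
    push Not at h5
    exact h.key ht (by rcases h1 with e | e <;> rw [e] <;> decide) h3 h4
      fun g => h.conj_in (h5 g) ht
  obtain ⟨x, hx, e1, -, h5⟩ := h.exists_invol ht h3 h4
  have hy := h.nT.conj_mem x hx g
  have hu := mul_mem hx hy
  set u := x * (g * x * g⁻¹) with hu'
  have e2 : φ u = ((1, 0), (0, 1)) := by
    rw [h.add _ hx _ hy, h.out g hg x hx, e1]
    rcases h1 with e | e <;> rw [e] <;> decide
  have h6 : ∀ s ∈ T, ⁅s, u⁆ ∈ V := fun s hs => by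
    rw [comm_mul_r]
    refine mul_mem (h5 s (h.conj_in hs hx)) (h.nV.conj_mem _ ?_ _)
    have h7 := h.nV.conj_mem _ (h5 _ (h.conj_in (h.nT.conj_mem s hs g⁻¹) hx)) g
    rw [conjugate_commutatorElement] at h7
    convert h7 using 2; group
  obtain ⟨s, hs, e3⟩ : ∃ s ∈ T, φ s = ((0, 0), (1, 0)) := by
    have h7 : ∀ s ∈ T, φ s = ((0, 1), (0, 0)) ∨ φ s = ((1, 1), (1, 1)) →
        ∃ s ∈ T, φ s = ((0, 0), (1, 0)) := fun s hs e => by
      have h8 := h.nT.conj_mem s hs g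
      refine ⟨_, mul_mem (mul_mem hs h8) hu, ?_⟩
      rw [h.add _ (mul_mem hs h8) _ hu, h.add _ hs _ h8, h.out g hg s hs, e2]
      rcases e with e | e <;> rw [e] <;> decide
    rcases h2 ((0, 1), (0, 0)) ((1, 1), (1, 1)) with ⟨s, hs, e⟩ | ⟨s, hs, e⟩ | ⟨s, hs, e⟩
    · exact h7 s hs (Or.inl e)
    · exact h7 s hs (Or.inr e)
    · exact ⟨_, mul_mem hs hu, by rw [h.add _ hs _ hu, e, e2]; decide⟩
  refine h.key hs (by rw [e3]; decide) (by rw [e3]; decide) ?_ fun g => ?_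
  · have h7 := h.sq_of_NF (mul_mem hs hu) (h.nf _ (mul_mem hs hu) (by
      rw [h.add _ hs _ hu, e2, e3]; decide))
    have h8 := h.sq_of_NF hu (h.nf _ hu (by rw [e2]; decide))
    have h9 := mul_mem (mul_mem h7 (inv_mem h8)) (inv_mem (h6 _ (inv_mem hs)))
    convert h9 using 1
    rw [commutatorElement_def]; group
  · rcases h.conj g hs with e | e
    · exact e
    · rw [e, e3]; decide

theorem main (h : MC V W φ) : SR 16 G := fun H N hs => by
  have := h.nC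
  have := h.nV
  have hb := (h.b_le hs).1
  have hb' := relIndex_cases h.p N (H ⊓ C)
  rw [hs.chain C]
  by_contra hbad
  by_cases hT : H ≤ T
  · have h1 : (N ⊔ H ⊓ C).relIndex H ≤ (C).relIndex H := relIndex_le_of_inf' le_sup_right
    have h2 := relIndex_cases h.p C H
    have h3 : 8 ≤ (C).relIndex H := by
      by_contra h3
      exact hbad (Nat.mul_le_mul (n₂ := 4) (m₂ := 4) hb (by omega))
    let M : AddSubgroup (E2 × E2) :=
      { carrier := {p | ∃ s ∈ H, φ s = p}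
        zero_mem' := ⟨1, one_mem _, h.of_C (one_mem _)⟩
        add_mem' := by
          rintro _ _ ⟨s, hs, rfl⟩ ⟨t, ht, rfl⟩
          exact ⟨_, mul_mem hs ht, h.add _ (hT hs) _ (hT ht)⟩
        neg_mem' := by
          rintro _ ⟨s, hs, rfl⟩
          exact ⟨s, hs, eq_neg_of_add_eq_zero_left (two_E2 _)⟩ }
    have h4 : (C).relIndex H ≤ Nat.card M := relIndex_le_ncard φ (M : Set (E2 × E2)).toFinite
      (fun x hx => ⟨x, hx, rfl⟩) fun x hx y hy => h.inj (hT hx) (hT hy)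
    have h5 : ∀ p q, p ∈ M ∨ q ∈ M ∨ p + q ∈ M := fun p q => by
      have h6 := M.card_mul_index
      rw [show Nat.card (E2 × E2) = 16 by simp] at h6
      have h7 : M.index = 1 ∨ M.index = 2 := by
        have : M.index ≠ 0 := AddSubgroup.index_ne_zero_of_finite
        have : M.index ≤ 2 := by nlinarith
        omega
      rcases h7 with h7 | h7
      · rw [AddSubgroup.index_eq_one.1 h7]; simp
      · have := AddSubgroup.add_mem_iff_of_index_two h7 (a := p) (b := q); tauto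
    have h6 : ∀ t ∈ T, ¬ (φ t = ((0, 1), (1, 1)) ∨ φ t = ((1, 1), (1, 0))) := fun t ht e =>
      h.no_omega ht e fun p q => by
        rcases h5 p q with ⟨s, hs, e⟩ | ⟨s, hs, e⟩ | ⟨s, hs, e⟩
        · exact Or.inl ⟨s, hT hs, e⟩
        · exact Or.inr (Or.inl ⟨s, hT hs, e⟩)
        · exact Or.inr (Or.inr ⟨s, hT hs, e⟩)
    have h7 : (C).relIndex H ≤ 15 := relIndex_le_card φ (Finset.univ.erase ((0, 1), (1, 1)))
      (fun x hx => by simpa using fun e => h6 x (hT hx) (Or.inl e))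
      fun x hx y hy => h.inj (hT hx) (hT hy)
    obtain ⟨t, ht, e1⟩ : ((1, 0), (0, 1)) ∈ M := by
      rcases h5 ((0, 1), (1, 1)) ((1, 1), (1, 0)) with ⟨s, hs, e⟩ | ⟨s, hs, e⟩ | e
      · exact (h6 s (hT hs) (Or.inl e)).elim
      · exact (h6 s (hT hs) (Or.inr e)).elim
      · exact e
    have h8 : ∀ s ∈ T, φ s ∈ M := fun s hs => by
      rcases h5 (φ s) ((0, 1), (1, 1)) with e | ⟨r, hr, e⟩ | ⟨r, hr, e⟩
      · exact e
      · exact (h6 r (hT hr) (Or.inl e)).elim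
      · refine (h6 _ (mul_mem hs (hT hr)) (Or.inl ?_)).elim
        rw [h.add _ hs _ (hT hr), e, ← add_assoc, two_E2, zero_add]
    suffices ∃ s ∈ H, φ s ≠ 0 ∧ (∀ u, app2 (φ s) u = u → u = 0) ∧ ∀ g, φ (g * s * g⁻¹) = φ s by
      obtain ⟨s, hsH, a, b, c⟩ := this
      exact hbad (Nat.mul_le_mul (n₂ := 2) (m₂ := 8)
        (h.kb hs hsH (hT hsH) (hT ht) a b e1 c) (by omega))
    by_cases h9 : ((0, 0), (1, 0)) ∈ M
    · obtain ⟨s, hsH, e⟩ := h9
      refine ⟨s, hsH, by rw [e]; decide, by rw [e]; decide, fun g => ?_⟩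
      rcases h.conj g (hT hsH) with e' | e'
      · exact e'
      · rw [e', e]; decide
    have h10 : ((0, 1), (0, 0)) + ((1, 1), (1, 1)) ∉ M := fun e =>
      h9 (M.add_mem e ⟨t, ht, e1⟩)
    have h11 : ∀ s ∈ H, φ s = ((0, 1), (0, 0)) ∨ φ s = ((1, 1), (1, 1)) →
        ∃ s ∈ H, φ s ≠ 0 ∧ (∀ u, app2 (φ s) u = u → u = 0) ∧ ∀ g, φ (g * s * g⁻¹) = φ s :=
      fun s hsH e => by
      refine ⟨s, hsH, by rcases e with e | e <;> rw [e] <;> decide,
        by rcases e with e | e <;> rw [e] <;> decide, fun g => ?_⟩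
      rcases h.conj g (hT hsH) with e' | e'
      · exact e'
      · refine (h10 ?_).elim
        have := M.add_mem ⟨s, hsH, rfl⟩ (h8 _ (h.nT.conj_mem s (hT hsH) g))
        rw [e'] at this
        rcases e with e | e <;> rw [e] at this <;> exact this
    rcases h5 ((0, 1), (0, 0)) ((1, 1), (1, 1)) with ⟨s, hs, e⟩ | ⟨s, hs, e⟩ | e
    · exact h11 s hs (Or.inl e)
    · exact h11 s hs (Or.inr e)
    · exact (h10 e).elim
  obtain ⟨m, hm, hmT⟩ := SetLike.not_le_iff_exists.1 hT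
  obtain ⟨-, -, -, -, -, -, -, -, -, hi⟩ := cent_kf_index h.p h.kf
  have hs' := hs.up C
  rw [hs'.chain T] at hbad
  have h3 : ((N ⊔ H ⊓ C) ⊔ H ⊓ T).relIndex H ≤ 2 := (relIndex_le_of_inf le_sup_right).trans hi
  have h4 := relIndex_le_cent (X := H ⊓ T) (Z := C) (K := N ⊔ H ⊓ C) (D := cmod C m) (m := m)
    le_normalizer_of_normal
    (fun x hx => ⟨hs'.comm hm hx.1, hs'.le (hs'.comm hm hx.1),
      Subgroup.mul_mem _ (h.nT.conj_mem x hx.2 m) (Subgroup.inv_mem _ hx.2)⟩)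
    (fun x hx => le_sup_right (b := H ⊓ C) ⟨hx.2.1, hx.1⟩) fun x _ hx => hx
  have h5 : ∀ x ∈ cmod C m ⊓ (H ⊓ T), φ x ∈ ({0, ((1, 0), (0, 1)), ((0, 0), (1, 0)),
      ((1, 0), (1, 1))} : Finset (E2 × E2)) := fun x hx => by
    have h6 := (h.comm_C hx.2.2).1 hx.1
    rw [h.out m hmT x hx.2.2] at h6
    revert h6; generalize φ x = p; revert p; decide
  have h6 := relIndex_le_card (D := C) φ _ h5 fun x hx y hy => h.inj hx.2.2 hy.2.2
  have h7 := relIndex_cases h.p C (cmod C m ⊓ (H ⊓ T))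
  have h8 : (C).relIndex (cmod C m ⊓ (H ⊓ T)) = 4 := by
    by_contra h8
    refine hbad (Nat.mul_le_mul (n₂ := 4) (m₂ := 4) hb
      (Nat.mul_le_mul (n₂ := 2) (m₂ := 2) (h4.trans ?_) h3))
    have : (C).relIndex (cmod C m ⊓ (H ⊓ T)) ≤ 4 := h6
    omega
  have h9 : ∀ p ∈ ({0, ((1, 0), (0, 1)), ((0, 0), (1, 0)), ((1, 0), (1, 1))} : Finset (E2 × E2)),
      ∃ x ∈ cmod C m ⊓ (H ⊓ T), φ x = p := fun p hp => by
    by_contra h9
    push Not at h9
    have h10 := relIndex_le_card (D := C) φ _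
      (fun x hx => Finset.mem_erase.2 ⟨h9 x hx, h5 x hx⟩) fun x hx y hy => h.inj hx.2.2 hy.2.2
    rw [Finset.card_erase_of_mem hp, h8] at h10
    exact absurd h10 (by decide)
  obtain ⟨t, ht, e1⟩ := h9 ((1, 0), (0, 1)) (by decide)
  obtain ⟨s, hsH, e⟩ := h9 ((0, 0), (1, 0)) (by decide)
  refine hbad (Nat.mul_le_mul (n₂ := 2) (m₂ := 8) (h.kb hs hsH.2.1 hsH.2.2 ht.2.2
    (by rw [e]; decide) (by rw [e]; decide) e1 fun g => ?_)
    (Nat.mul_le_mul (n₂ := 4) (m₂ := 2) (h4.trans h8.le) h3))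
  rcases h.conj g hsH.2.2 with e' | e'
  · exact e'
  · rw [e', e]; decide

end MC

/-- the elements of square one in an abelian subgroup -/
def om1 (A : Subgroup G) (hA : ∀ a ∈ A, ∀ b ∈ A, a * b = b * a) : Subgroup G where
  carrier := {a | a ∈ A ∧ a * a = 1}
  one_mem' := ⟨one_mem _, mul_one _⟩
  mul_mem' := fun {a b} ha hb => ⟨mul_mem ha.1 hb.1, by
    rw [mul_assoc, ← mul_assoc b, hA _ hb.1 _ ha.1, mul_assoc, hb.2, mul_one, ha.2]⟩
  inv_mem' := fun {a} ha => ⟨inv_mem ha.1, by rw [← mul_inv_rev, ha.2, inv_one]⟩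

theorem om1_normal {A : Subgroup G} (hA : ∀ a ∈ A, ∀ b ∈ A, a * b = b * a) (hn : A.Normal) :
    (om1 A hA).Normal := ⟨fun a ha g => ⟨hn.conj_mem a ha.1 g, by
      rw [conj_mul, ha.2]; group⟩⟩

theorem sup_zpowers_normal {V : Subgroup G} [hV : V.Normal] {x : G} (h : ∀ s : G, ⁅s, x⁆ ∈ V) :
    (V ⊔ zpowers x).Normal := by
  refine ⟨fun a ha g => ?_⟩
  have : V ⊔ zpowers x ≤ (V ⊔ zpowers x).comap (MulAut.conj g).toMonoidHom :=
    sup_le (fun v hv => le_sup_left (a := V) (hV.conj_mem v hv g)) (zpowers_le.2 (by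
      show g * x * g⁻¹ ∈ V ⊔ zpowers x
      rw [show g * x * g⁻¹ = ⁅g, x⁆ * x by rw [commutatorElement_def]; group]
      exact mul_mem_sup (h g) (mem_zpowers x)))
  exact this ha

theorem mem_sup_invol {V : Subgroup G} [V.Normal] {x a : G} (hx : x * x ∈ V)
    (ha : a ∈ V ⊔ zpowers x) : a ∈ V ∨ ∃ v ∈ V, a = v * x := by
  obtain ⟨v, hv, _, ⟨i, rfl⟩, rfl⟩ :=
    (PLoc.mem_sup_of_le_normalizer_left le_normalizer_of_normal).1 ha
  rcases Int.even_or_odd' i with ⟨j, rfl | rfl⟩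
  · left
    refine mul_mem hv ?_
    have := zpow_mem hx j
    rwa [← pow_two, ← zpow_natCast, ← zpow_mul] at this
  · right
    refine ⟨v * (x * x) ^ j, mul_mem hv (zpow_mem hx j), ?_⟩
    rw [← pow_two, ← zpow_natCast, ← zpow_mul]; group

theorem elem_sup {V : Subgroup G} [V.Normal] (hV : ∀ v ∈ V, v * v = 1) {x : G}
    (hc : x ∈ centralizer (V : Set G)) (hx : x * x = 1) : ∀ a ∈ V ⊔ zpowers x, a * a = 1 :=
  fun a ha => by
  rcases mem_sup_invol (hx ▸ one_mem V) ha with h | ⟨v, hv, rfl⟩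
  · exact hV a h
  · rw [mul_assoc, ← mul_assoc x, ← hc v hv, mul_assoc, hx, mul_one, hV v hv]

theorem comm_of_sq_one {V : Subgroup G} (hV : ∀ v ∈ V, v * v = 1) :
    ∀ a ∈ V, ∀ b ∈ V, a * b = b * a := fun a ha b hb => by
  rw [← inv_eq_of_mul_eq_one_right (hV _ (mul_mem ha hb)), mul_inv_rev,
    inv_eq_of_mul_eq_one_right (hV a ha), inv_eq_of_mul_eq_one_right (hV b hb)]

theorem SR_of_no_E8 [Finite G] (hG : IsPGroup 2 G)
    (h : ∀ A : Subgroup G, A.Normal → (∀ a ∈ A, a * a = 1) → Nat.card A ≤ 4) : SR 16 G := by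
  by_cases hn : ∀ A : Subgroup G, A.Normal → IsMulCommutative A → IsCyclic A
  · suffices ∃ k : G, (zpowers k).index ≤ 2 by
      obtain ⟨k, hk⟩ := this
      exact (SR_of_cyc hG hk).mono (by norm_num)
    have := hG.isNilpotent
    obtain ⟨A, -, ⟨hAn, hAa⟩, hmax⟩ := Core.exists_maximal_ge
      (P := fun A : Subgroup G => A.Normal ∧ IsMulCommutative A) (H := ⊥)
      ⟨inferInstance, inferInstance⟩
    have hC := Core.centralizer_eq_of_maximal_abelian_normal A hAa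
      fun M h1 h2 h3 => hmax M ⟨h1, h2⟩ h3
    obtain ⟨a, rfl⟩ := isCyclic_iff_zpowers.1 (hn A hAn hAa)
    rw [PLoc.centralizer_zpowers] at hC
    have hC' : ∀ g, g * a = a * g → g ∈ zpowers a := fun g hg =>
      hC.le (mem_centralizer_singleton_iff.2 hg)
    by_cases htop : zpowers a = ⊤
    · exact ⟨a, by rw [htop, index_top]; norm_num⟩
    obtain ⟨g, hg⟩ : ∃ g, g ∉ zpowers a := by
      by_contra h; push Not at h; exact htop ((eq_top_iff' _).mpr h)
    obtain ⟨n, hn'⟩ := (IsPGroup.iff_orderOf.mp hG) a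
    obtain ⟨n, rfl⟩ : ∃ m, n = m + 2 := by
      rcases n with _ | _ | n
      · exact absurd (hC' g (by simp [orderOf_eq_one_iff.mp hn'])) hg
      · refine absurd (hC' g ?_) hg
        rw [← mul_inv_eq_iff_eq_mul]
        exact invol_eq_of_isCyclic inferInstance (hAn.conj_mem a (mem_zpowers a) g)
          (mem_zpowers a) ((Inv.orderOf_conj' _ _).trans hn') hn'
      · exact ⟨n, rfl⟩
    exact ⟨a, (index_two_of_cyclic_scn hG hn' hAn hC' hn htop).le⟩
  push Not at hn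
  obtain ⟨A, hAn, hA, hc⟩ := hn
  have hA' : ∀ a ∈ A, ∀ b ∈ A, a * b = b * a := fun a ha b hb => comm_of_mem hA ha hb
  obtain ⟨U, hU⟩ : ∃ U : Subgroup A, IsKleinFour U := by
    refine exists_kf_of_rank fun h => hc ?_
    let _ : CommGroup A := { (inferInstance : Group A) with mul_comm := hA.1.1 }
    exact isCyclic_of_card_ker (hG.to_subgroup A) (h _ inferInstance fun a ha => ha)
  set V := om1 A hA'
  have hVn : V.Normal := om1_normal hA' hAn
  have h3 : U.map A.subtype ≤ V := by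
    rintro _ ⟨a, ha, rfl⟩
    exact ⟨a.2, congrArg Subtype.val (kf_sq hU ha)⟩
  have h4 := card_le_of_le h3
  rw [card_subtype, kf_card hU] at h4
  have hV : IsKleinFour V := kf_of_card (le_antisymm (h V hVn fun a ha => ha.2) h4) fun a ha => ha.2
  have hmaxV : ∀ B : Subgroup G, B.Normal → (∀ a ∈ B, a * a = 1) → V ≤ B → B ≤ V :=
    fun B h1 h2 h3 => (eq_of_le_of_card_ge h3 ((h B h1 h2).trans (kf_card hV).ge)).ge
  obtain ⟨W, hVW, ⟨hWn, hWa, hW4⟩, hmax⟩ := Core.exists_maximal_ge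
    (P := fun W : Subgroup G => W.Normal ∧ (∀ a ∈ W, ∀ b ∈ W, a * b = b * a) ∧
      ∀ a ∈ W, a ^ 2 ^ 2 = 1) (H := V) ⟨hVn, fun a ha b hb => kf_comm hV ha hb, fun a ha => by
        rw [pow_two 2, pow_mul, pow_two a, kf_sq hV ha, one_pow]⟩
  have hom : ∀ w ∈ W, w * w = 1 → w ∈ V := fun w hw e =>
    hmaxV (om1 W hWa) (om1_normal hWa hWn) (fun a ha => ha.2)
      (fun v hv => ⟨hVW hv, kf_sq hV hv⟩) ⟨hw, e⟩
  have hM : MW V W := ⟨hG, hV, hVn, hWn, hVW, hWa, fun w hw => hom _ (mul_mem hw hw) (by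
      rw [← hW4 w hw, pow_two 2, pow_mul, pow_two, pow_two]), fun x hx e =>
      BG.cent_max_normal_abel (P := ⊤) (n := 2) Nat.prime_two
        (BG.pig_of_pg Nat.prime_two (isPGroup_top_iff.2 hG)) (by norm_num) le_top le_normalizer_of_normal
        (fun a ha b hb => hWa b hb a ha) hW4 (fun B _ h1 h2 h3 h4 => hmax B
          ⟨normal_of_top_le_normalizer h1, fun a ha b hb => h2 hb a ha, h3⟩ h4) trivial hx (by
        rw [← kf_sq hV e, pow_two 2, pow_mul, pow_two, pow_two]), hom, fun x hx e h1 =>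
      hmaxV _ (sup_zpowers_normal h1) (elem_sup (fun v hv => kf_sq hV hv) hx e) le_sup_left
        (mem_sup_right (mem_zpowers x))⟩
  by_cases hs : ∀ v ∈ V, ∃ w ∈ W, w * w = v
  · obtain ⟨φ, hφ⟩ := hM.exists_MC hs
    exact hφ.main
  push Not at hs
  obtain ⟨v, hv, hs⟩ := hs
  have h5 : V.relIndex W ≤ ((V : Set G) \ {v}).ncard := relIndex_le_ncard (fun w => w * w)
    (Set.toFinite _) (fun w hw => ⟨hM.sqW w hw, hs w hw⟩)
    fun x hx y hy => hM.sq_inj (hM.WC hx) (hM.WC hy)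
  rw [Set.ncard_sdiff_singleton_of_mem hv] at h5
  change V.relIndex W ≤ Nat.card V - 1 at h5
  rw [kf_card hV] at h5
  have h6 := relIndex_cases hG V W
  have h7 : V.relIndex W = 1 ∨ V.relIndex W = 2 := by omega
  rcases h7 with h7 | h7
  · exact hM.small (one_mem _) fun w hw => Or.inl (relIndex_eq_one.1 h7 hw)
  · obtain ⟨w₁, h8, h9⟩ := exists_not_mem_of_one_lt (K := V) (H := W) (by omega)
    refine hM.small h8 fun w hw => or_iff_not_imp_left.2 fun h10 => ?_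
    exact mul_mem_of_relIndex_two h7 (inv_mem h8) hw (fun e => h9 (by simpa using e)) h10

theorem s0501 {P : Type*} [Group P] [Finite P] (hP : IsPGroup 2 P)
    (h : ∀ A : Subgroup P, A.Normal → IsMulCommutative A → (∀ a ∈ A, a ^ 2 = 1) →
      Nat.card A ≤ 4) : Cfsg.SectionalPRankLE 2 4 P :=
  sec_of_SR (SR_of_no_E8 hP fun A h1 h2 => h A h1
    (isMulCommutative_of_forall fun a ha b hb => comm_of_sq_one h2 a ha b hb)
    fun a ha => (pow_two a).trans (h2 a ha))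

end Cfsg.Agent.Dih
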