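import Cfsg.Agent.Dih.BSW1
import Cfsg.Agent.Dih.Sec2
import Cfsg.Agent.H9.Sm7
import Cfsg.Agent.PLoc.Qd
import Cfsg.Agent.S1230
import Cfsg.Agent.S0252
import Cfsg.Agent.S0253

/-! The Brauer–Suzuki–Wall theorem. -/

set_option autoImplicit false
set_option linter.unusedVariables false
set_option linter.unusedSectionVars false

namespace Cfsg.Agent.Dih

open Cfsg.Agent.PLoc Cfsg.Agent.Inv Cfsg.Agent.Char Subgroup Finset
open scoped ComplexConjugate MatrixGroups

theorem bsw_arith {k N x c : ℤ} (hk : 0 < k) (hk2 : Even k) (hN : Odd N) (hx : x = c * k - (k - 1))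
    (h : N * (x - 1) ^ 2 = 2 * k ^ 2 * (x * (x + 1))) :
    (x = 1 + 2 * k ∨ x = 1 - 2 * k) ∧ 2 * N = x * (x + 1) := by
  obtain ⟨r, rfl⟩ : ∃ r, c = r + 1 := ⟨c - 1, by ring⟩
  have hx' : x = 1 + k * r := by rw [hx]; ring
  have e : N * r ^ 2 = 2 * (x * (x + 1)) := by
    apply mul_left_cancel₀ (pow_pos hk 2).ne'
    rw [hx'] at h ⊢
    linear_combination h
  obtain ⟨j, rfl⟩ := hk2
  obtain ⟨s, rfl⟩ : Even r := by
    by_contra hr
    have h1 : Odd (N * r ^ 2) := hN.mul (Int.not_even_iff_odd.1 hr).pow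
    rw [e] at h1
    exact Int.not_even_iff_odd.2 h1 (even_two_mul _)
  have e2 : N * s ^ 2 = (1 + 4 * j * s) * (1 + 2 * j * s) := by
    rw [hx'] at e
    linarith
  have e3 : s ∣ 1 := ⟨N * s - 6 * j - 8 * j ^ 2 * s, by linear_combination -e2⟩
  rcases Int.isUnit_iff.1 (isUnit_of_dvd_one e3) with rfl | rfl
  · exact ⟨Or.inl (by rw [hx']; ring), by rw [hx']; linarith⟩
  · exact ⟨Or.inr (by rw [hx']; ring), by rw [hx']; linarith⟩

variable {G : Type*} [Group G] [Fintype G]

namespace BSW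

variable {t : G} {K : Subgroup G} (h : BSW t K)
include h

theorem even_card : Even (Nat.card K) := even_card_of_mem h.ord h.mem

theorem exists_data (hk : Nat.card K ≠ 2) : ∃ (a b : G → ℂ) (x : ℤ), IsDirr a ∧ IsDirr b ∧
    (x = 1 + 2 * Nat.card K ∨ x = 1 - 2 * Nat.card K) ∧
    2 * ((centralizer ({t} : Set G)).index : ℤ) = x * (x + 1) ∧ a 1 = x ∧ b 1 = -(x + 1) ∧
    (∀ y ∈ K, y ≠ 1 → a y = 1) ∧ (∀ g, (∀ w, w * g * w⁻¹ ∉ K) → b g = -(a g + 1)) ∧
    classInner a (fun _ => 1) = 0 ∧ ∀ g, ∃ n : ℤ, a g = n := by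
  classical
  have := Fintype.ofFinite K
  obtain ⟨l₁, hl, a, b, ha, hb, e, hall⟩ := h.exists_common hk
  have n1 : l₁ ≠ irrOne K := fun e => hl (e ▸ irrBar_one)
  have ao := orth_one n1 ha (hall l₁ n1)
  have eb : b = be K l₁ - a := by rw [e]; abel
  have bb : ∀ l, l ≠ irrOne K → classInner (be K l) b =
      (if l = l₁ then 1 else 0) + if l = irrBar l₁ then 1 else 0 := fun l hl' => by
    have e : irrBar l = l₁ ↔ l = irrBar l₁ :=
      ⟨fun e => by rw [← e, irrBar_irrBar], fun e => by rw [e, irrBar_irrBar]⟩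
    rw [eb, classInner_sub_right, h.be_be hl' n1, hall l hl']
    simp only [e]; ring
  have bo := orth_one n1 hb (by rw [bb l₁ n1, if_pos rfl, if_neg hl.symm, add_zero])
  have sa : ∀ y : K, ∑ l : IrrCharacter K, classInner a (al K l) * l.1 y =
      (if y = 1 then (Nat.card K : ℂ) else 0) - 1 := fun y => by
    have e2 : ∀ l : IrrCharacter K, classInner a (al K l) * l.1 y =
        l.1 y - if l = irrOne K then l.1 y else 0 := fun l => by
      rw [inner_al_eq ha ao]
      by_cases hm : l = irrOne K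
      · rw [hm, inner_be_one ha ao]; simp
      · rw [hall l hm, if_neg hm]; ring
    simp only [e2, sum_sub_distrib, sum_ite_eq', mem_univ, if_true, h.sum_lin, irrOne_coe]
  have av : ∀ y ∈ K, y ≠ 1 → a y = 1 := fun y hy h1 => by
    have e := h.apply_eq ha.isClassFunction ⟨y, hy⟩
    rw [sa, if_neg (by simpa using h1)] at e
    simpa using e
  obtain ⟨c, hc⟩ := (ha.isGen.restrict K).classInner_int isGen_one
  have a1 : a 1 = (c * Nat.card K - (Nat.card K - 1) : ℤ) := by
    have e := h.apply_eq ha.isClassFunction 1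
    rw [sa, if_pos rfl, hc] at e
    push_cast
    exact e
  have eal : al K l₁ = (fun _ => 1) + a + b := by
    rw [add_assoc, ← e, be]; abel
  have b1 : b 1 = -(a 1 + 1) := by
    have := congrFun eal 1
    rw [h.al_one] at this
    simp only [Pi.add_apply] at this
    linear_combination -this
  let t' : K := ⟨t, h.mem⟩
  have ht' : t' ≠ 1 := fun e => ne_one_of_ord2 h.ord (congrArg Subtype.val e)
  have bt : b t ^ 2 = 4 := by
    have e := h.apply_eq hb.isClassFunction t'
    rw [if_neg ht', mul_zero, zero_sub] at e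
    have e2 : ∀ m : IrrCharacter K, classInner b (al K m) * m.1 t' =
        (if m = l₁ then m.1 t' else 0) + if m = irrBar l₁ then m.1 t' else 0 := fun m => by
      rw [inner_al_eq hb bo]
      by_cases hm : m = irrOne K
      · subst hm
        rw [inner_be_one hb bo, if_neg n1.symm, if_neg fun e => n1 (irrBar_eq_one.1 e.symm)]
        simp
      · rw [bb m hm]; split_ifs <;> ring
    simp only [e2, sum_add_distrib, sum_ite_eq', mem_univ, if_true] at e
    rcases h.lin_t l₁ with e' | e' <;> simp only [irrBar, t', e'] at e <;> rw [e] <;> norm_num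
  have T := h.order_eq n1 ha hb eal
  have a0 := ha.one_ne_zero
  have b0 := hb.one_ne_zero
  rw [bt, av t h.mem (ne_one_of_ord2 h.ord), b1] at T
  rw [b1, neg_ne_zero] at b0
  set x : ℤ := c * Nat.card K - (Nat.card K - 1) with hx
  rw [a1] at T a0 b0 b1
  have T2 : ((centralizer ({t} : Set G)).index : ℤ) * (x - 1) ^ 2 =
      2 * (Nat.card K : ℤ) ^ 2 * (x * (x + 1)) := by
    apply Int.cast_injective (α := ℂ)
    push_cast
    rw [← T]
    field_simp
    ring
  obtain ⟨r1, r2⟩ := bsw_arith (Int.natCast_pos.2 Nat.card_pos) (by exact_mod_cast h.even_card)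
    (by exact_mod_cast h.odd) hx T2
  refine ⟨a, b, x, ha, hb, r1, r2, a1, b1, av, fun g hg => ?_, ao, fun g => ?_⟩
  · have := congrFun eal g
    rw [al, indFun_eq_zero_of_not_conj K _ fun w => by simpa using hg w⁻¹] at this
    simp only [Pi.add_apply] at this
    linear_combination -this
  · refine exists_int_of_fixed (ha.isGen.isIntegral g) fun σ => ?_
    have ha' := ha.map_ringHom σ.toRingHom
    suffices a = fun g => σ.toRingHom (a g) from (congrFun this g).symm
    have r : (fun y : K => σ.toRingHom (a y)) = fun y : K => a y := by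
      funext y
      by_cases hy : (y : G) = 1
      · rw [hy, a1, map_intCast]
      · rw [av y y.2 hy, map_one]
    have o' : classInner (fun g => σ.toRingHom (a g)) (fun _ => 1) = 0 := by
      have := classInner_map_ringHom ha.isGen isGen_one σ.toRingHom
      simpa only [map_one, ao] using this
    have i' : classInner (be K l₁) (fun g => σ.toRingHom (a g)) = 1 := by
      rw [← inner_al_eq ha' o', inner_al ha'.isClassFunction, r, ← inner_al ha.isClassFunction,
        inner_al_eq ha ao, hall l₁ n1]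
    rw [e, classInner_add_left] at i'
    have nb : b ≠ fun g => σ.toRingHom (a g) := fun e => by
      have := congrFun e 1
      rw [b1, a1, map_intCast] at this
      norm_cast at this
      omega
    rcases ha.classInner_cases ha' with p | ⟨p, -⟩ | ⟨-, p⟩
    · rw [p, zero_add] at i'
      exact absurd (hb.eq_of_classInner_eq_one ha' i') nb
    · exact p
    · rcases hb.classInner_cases ha' with q | ⟨q, -⟩ | ⟨-, q⟩
      · rw [p, q] at i'; norm_num at i'
      · exact absurd q nb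
      · rw [p, q] at i'; norm_num at i'

theorem sum_ind : ∑ g, indFun K (fun y => 1 - classInd (1 : G) y) g =
    2 * ((centralizer ({t} : Set G)).index : ℂ) * (Nat.card K - 1) := by
  classical
  have := Fintype.ofFinite K
  have e := classInner_indFun_left K (fun y => 1 - classInd (1 : G) y)
    (isClassFunction_const (G := G) 1)
  rw [classInner_one_right, classInner_one_right] at e
  have e2 : ∑ y : K, (1 - classInd (1 : G) y) = Nat.card K - 1 := by
    simp only [classInd, isConj_one_right, OneMemClass.coe_eq_one]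
    simp
  have e5 : (Nat.card G : ℂ) = 2 * Nat.card K * (centralizer ({t} : Set G)).index := by
    exact_mod_cast h.card_G
  rw [e2, inv_mul_eq_iff_eq_mul₀ (card_ne_zero G)] at e
  rw [e, e5]
  field_simp [card_ne_zero K]

theorem coprime_cent {x : ℤ} (hx : x = 1 + 2 * Nat.card K ∨ x = 1 - 2 * Nat.card K)
    (hN : 2 * ((centralizer ({t} : Set G)).index : ℤ) = x * (x + 1)) {g : G}
    (hg : ∀ w, w * g * w⁻¹ ∉ K) : (Nat.card (centralizer ({g} : Set G))).Coprime (Nat.card K) := by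
  refine Nat.Coprime.symm (Nat.coprime_of_dvd fun r hr h1 h2 => ?_)
  obtain ⟨u, hu, hur⟩ := exists_mem_orderOf_eq_prime hr h2
  have u1 : u ≠ 1 := fun e => hr.one_lt.ne (by rw [← hur, e, orderOf_one])
  obtain ⟨w, hw⟩ : ∃ w, w * u * w⁻¹ ∈ K := by
    by_cases h2 : r = 2
    · obtain ⟨w, hw⟩ := isConj_iff.1 (h.cls u (h2 ▸ hur)).symm
      exact ⟨w, hw ▸ h.mem⟩
    have := Fact.mk hr
    obtain ⟨P, hP⟩ := exists_isSylowOf r K
    have hP' : IsSylowOf r P ⊤ := ⟨le_top, hP.isP, fun e => by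
      rw [← relIndex_mul_relIndex P K ⊤ hP.le le_top, ← relIndex_mul_relIndex K _ ⊤ h.le le_top,
        h.idx, relIndex_top_right] at e
      rcases (Nat.Prime.dvd_mul hr).1 e with e | e
      · exact hP.not_dvd e
      rcases (Nat.Prime.dvd_mul hr).1 e with e | e
      · exact h2 ((Nat.prime_dvd_prime_iff_eq hr Nat.prime_two).1 e)
      have e1 : (r : ℤ) ∣ Nat.card K := Int.natCast_dvd_natCast.2 h1
      have e2 : (r : ℤ) ∣ x * (x + 1) := hN ▸ (Int.natCast_dvd_natCast.2 e).mul_left 2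
      obtain ⟨j, hj⟩ := e1
      have e3 : (r : ℤ) ∣ 2 := by
        rcases hx with rfl | rfl
        · obtain ⟨i, hi⟩ := e2
          exact ⟨i - (6 * j + 4 * j * r * j), by rw [hj] at hi; linear_combination hi⟩
        · obtain ⟨i, hi⟩ := e2
          exact ⟨i - (-6 * j + 4 * j * r * j), by rw [hj] at hi; linear_combination hi⟩
      exact h2 ((Nat.prime_dvd_prime_iff_eq hr Nat.prime_two).1 (Int.natCast_dvd_natCast.1 e3))⟩
    obtain ⟨w, -, hw⟩ := hP'.exists_cj_le (isPGroup_zpowers (x := u) (k := 1)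
      (by rw [pow_one, ← hur, pow_orderOf_eq_one])) le_top
    exact ⟨w, hP.le (cj_le_iff'.1 hw u (mem_zpowers u))⟩
  have hc : w * g * w⁻¹ ∈ centralizer {t} := by
    by_contra hc
    refine u1 (conj_eq_one_iff.1 (h.ti _ hc _ hw ?_))
    have := mem_centralizer_singleton_iff.1 hu
    convert hw using 1
    calc _ = w * (g * u) * g⁻¹ * w⁻¹ := by group
      _ = _ := by rw [← this]; group
  obtain ⟨v, hv⟩ := isConj_iff.1 (h.cls _ (h.ord_out hc (hg w))).symm
  exact hg (v * w) (by convert h.mem using 1; rw [← hv]; group)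

omit h in
theorem dirr_dvd {a : G → ℂ} (ha : IsDirr a) {x : ℤ} (hx : a 1 = x) {g : G}
    (hg : a g = 1 ∨ a g = -1) : x ∣ (centralizer ({g} : Set G)).index := by
  have i : IsIntegral ℤ (((centralizer ({g} : Set G)).index : ℂ) * a g / a 1) := by
    rcases ha with ha | ha
    · exact ha.isIntegral_central g
    · simpa [neg_div_neg_eq] using ha.isIntegral_central g
  have x0 : x ≠ 0 := fun e => ha.one_ne_zero (by rw [hx, e, Int.cast_zero])
  rcases hg with e | e <;> rw [e, hx] at i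
  · exact int_dvd_of_isIntegral_div x0 (by simpa using i)
  · exact int_dvd_of_isIntegral_div x0 (by simpa [neg_div] using i.neg)

theorem exists_Z (hk : Nat.card K ≠ 2) : ∃ (q : ℕ) (Z : Finset G), Odd q ∧ 3 ≤ q ∧
    2 * Nat.card G = q * (q ^ 2 - 1) ∧ Z.card = q ^ 2 - 1 ∧ 1 ∉ Z ∧
    (∀ g ∈ Z, ∀ u, IsConj g u → u ∈ Z) ∧
    (∀ g ∈ Z, Nat.card (centralizer ({g} : Set G)) = q) ∧
    ∀ p : ℕ, p.Prime → p ∣ q → ∀ g, p ∣ orderOf g → g ∈ Z := by
  classical
  obtain ⟨a, b, x, ha, hb, hx, hN, a1, b1, av, bv, ao, ai⟩ := h.exists_data hk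
  choose n hn using ai
  have n1 : n 1 = x := by exact_mod_cast (hn 1).symm.trans a1
  have cs : ∀ g, g = 1 ∨ (∃ y ∈ K, y ≠ 1 ∧ IsConj g y) ∨ (g ≠ 1 ∧ ∀ w, w * g * w⁻¹ ∉ K) :=
    fun g => by
      by_cases h1 : g = 1
      · exact Or.inl h1
      by_cases h2 : ∀ w, w * g * w⁻¹ ∉ K
      · exact Or.inr (Or.inr ⟨h1, h2⟩)
      push Not at h2
      obtain ⟨w, hw⟩ := h2
      exact Or.inr (Or.inl ⟨_, hw, fun e => h1 (conj_eq_one_iff.1 e), isConj_iff.2 ⟨w, rfl⟩⟩)
  have nv : ∀ {g y}, y ∈ K → y ≠ 1 → IsConj g y → n g = 1 := fun {g y} hy h1 hc => by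
    exact_mod_cast (hn g).symm.trans ((ha.isClassFunction.of_isConj hc).trans (av y hy h1))
  have s1 : ∑ g, n g = 0 := by
    rw [classInner_one_right, mul_eq_zero, inv_eq_zero] at ao
    have := ao.resolve_left (card_ne_zero G)
    simp only [hn] at this
    exact_mod_cast this
  have s2 : ∑ g, n g ^ 2 = Nat.card G := by
    have := card_mul_classInner a a
    simp only [ha.classInner_self, hn, map_intCast, mul_one, ← sq] at this
    exact_mod_cast this.symm
  have cG : (Nat.card G : ℤ) = 2 * Nat.card K * (centralizer ({t} : Set G)).index := by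
    exact_mod_cast h.card_G
  let m : G → ℤ := fun g => if ∀ w, w * g * w⁻¹ ∉ K then n g ^ 2 + n g else 0
  have s3 : ∑ g, m g = 0 := by
    have e : ∀ g, (m g : ℂ) = (n g ^ 2 : ℤ) + n g - indFun K
        (fun y => 1 - classInd (1 : G) y) g -
        if g = 1 then (x * (x + 1) : ℂ) else 0 := fun g => by
      rcases cs g with rfl | ⟨y, hy, y1, hc⟩ | ⟨g1, hg⟩
      · simp only [m]
        rw [if_neg fun e => e 1 (by simp), indFun_one, n1]
        simp [classInd]; ring
      · obtain ⟨w, rfl⟩ := isConj_iff.1 hc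
        simp only [m]
        rw [if_neg fun e => e w hy, nv hy y1 hc, ← isClassFunction_indFun K _ g w,
          h.ind_apply _ ⟨_, hy⟩ (by simpa using y1), if_neg fun e => y1 (by simp [e])]
        simp only [classInd, isConj_one_right, InvMemClass.coe_inv, inv_eq_one, if_neg y1]
        norm_num
      · simp only [m]
        rw [if_pos hg, indFun_eq_zero_of_not_conj K _ fun w => by simpa using hg w⁻¹, if_neg g1]
        simp
    apply Int.cast_injective (α := ℂ)
    rw [Int.cast_sum]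
    simp only [e, sum_sub_distrib, sum_add_distrib, h.sum_ind, sum_ite_eq', mem_univ, if_true,
      ← Int.cast_sum, s1, s2, cG]
    have : (2 * ((centralizer ({t} : Set G)).index : ℂ)) = x * (x + 1) := by exact_mod_cast hN
    push_cast
    linear_combination this
  have m0 : ∀ g, (∀ w, w * g * w⁻¹ ∉ K) → n g = 0 ∨ n g = -1 := fun g hg => by
    have := (sum_eq_zero_iff_of_nonneg fun g _ => (by
      simp only [m]; split_ifs; nlinarith; rfl : 0 ≤ m g)).1 s3 g (mem_univ g)
    simp only [m, if_pos hg] at this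
    rcases mul_eq_zero.1 (show n g * (n g + 1) = 0 by linarith) with e | e
    · exact Or.inl e
    · exact Or.inr (by linarith)
  have pm : ∀ g, g ≠ 1 → n g ≠ 0 → n g = 1 ∨ n g = -1 := fun g h1 h0 => by
    rcases cs g with rfl | ⟨y, hy, y1, hc⟩ | ⟨g1, hg⟩
    · exact absurd rfl h1
    · exact Or.inl (nv hy y1 hc)
    · exact Or.inr ((m0 g hg).resolve_left h0)
  have k2 : 2 ≤ Nat.card K := by
    have := h.even_card.two_dvd
    exact Nat.le_of_dvd Nat.card_pos this
  let Z := univ.filter fun g => n g = 0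
  have hZ : (Z.card : ℤ) = x ^ 2 - 1 := by
    have e : ∀ g, n g ^ 2 + (if n g = 0 then 1 else 0) = 1 + if g = 1 then x ^ 2 - 1 else 0 :=
      fun g => by
        by_cases h1 : g = 1
        · rw [h1, n1, if_neg (by omega), if_pos rfl]; ring
        by_cases h0 : n g = 0
        · simp [h0, h1]
        · rcases pm g h1 h0 with e | e <;> simp [e, h1]
    have := sum_congr rfl fun g (_ : g ∈ univ) => e g
    simp only [sum_add_distrib, s2, sum_boole, sum_ite_eq', mem_univ, if_true, sum_const,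
      card_univ, ← Nat.card_eq_fintype_card, nsmul_eq_mul, mul_one] at this
    linarith
  obtain ⟨q, hq⟩ : ∃ q : ℕ, x = q ∨ x = -q := ⟨_, Int.natAbs_eq x⟩
  have q3 : 3 ≤ q := by omega
  have qo : Odd q := by
    rw [Nat.odd_iff]; omega
  have q1 : 1 ≤ q ^ 2 := Nat.one_le_pow _ _ (by omega)
  have xq : x ^ 2 = q ^ 2 := by rcases hq with e | e <;> rw [e]; ring
  have cG2 : 2 * Nat.card G = q * (q ^ 2 - 1) := by
    zify [q1]
    rw [cG, mul_comm (2 * (Nat.card K : ℤ)), ← mul_assoc, hN]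
    rcases hx with e | e <;> rcases hq with e' | e'
    · rw [← e', e]; ring
    · omega
    · omega
    · rw [← neg_eq_iff_eq_neg.2 e', e]; ring
  have hZ' : Z.card = q ^ 2 - 1 := by zify [q1]; rw [hZ, xq]
  have cl : ∀ g ∈ Z, ∀ u, IsConj g u → u ∈ Z := fun g hg u hu => by
    have := ha.isClassFunction.of_isConj hu
    rw [hn, hn, (mem_filter.1 hg).2] at this
    exact mem_filter.2 ⟨mem_univ _, by exact_mod_cast this.symm⟩
  refine ⟨q, Z, qo, q3, cG2, hZ', fun e => ?_, cl, fun g hg => ?_, fun p hp hpq g hg => ?_⟩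
  · have := (mem_filter.1 e).2
    omega
  · have g0 := (mem_filter.1 hg).2
    have hR : ∀ w, w * g * w⁻¹ ∉ K := by
      rcases cs g with rfl | ⟨y, hy, y1, hc⟩ | ⟨g1, hg⟩
      · omega
      · have := nv hy y1 hc; omega
      · exact hg
    obtain ⟨j, hj⟩ := dirr_dvd hb (x := -(x + 1)) (by rw [b1]; push_cast; rfl) (g := g)
      (Or.inr (by rw [bv g hR, hn, g0]; simp))
    have e := card_mul_index (centralizer ({g} : Set G))
    have d : Nat.card (centralizer ({g} : Set G)) ∣ q := by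
      refine (h.coprime_cent hx hN hR).dvd_of_dvd_mul_left ?_
      have e2 : (Nat.card (centralizer ({g} : Set G)) : ℤ) * -j = Nat.card K * x := by
        apply mul_left_cancel₀ (show x + 1 ≠ 0 by omega)
        zify at e
        rw [hj, cG] at e
        linear_combination e + Nat.card K * hN
      rw [← Int.natCast_dvd_natCast]
      push_cast
      rcases hq with e' | e'
      · exact ⟨-j, by rw [e2, e']⟩
      · exact ⟨j, by linear_combination e2 + Nat.card K * e'⟩
    obtain ⟨i, hi⟩ := d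
    have le : (centralizer ({g} : Set G)).index ≤ q ^ 2 - 1 := by
      rw [← hZ', ← card_filter_isConj]
      exact card_le_card fun u hu => cl g hg u (mem_filter.1 hu).2
    have e3 : 2 * (centralizer ({g} : Set G)).index = i * (q ^ 2 - 1) := by
      apply Nat.eq_of_mul_eq_mul_left (Nat.card_pos (α := centralizer ({g} : Set G)))
      rw [← mul_assoc _ i, ← hi, ← cG2, ← e]; ring
    have q2 : 0 < q ^ 2 - 1 := by
      have : 3 ^ 2 ≤ q ^ 2 := Nat.pow_le_pow_left q3 2
      omega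
    have i2 : i ≤ 2 := Nat.le_of_mul_le_mul_right (by omega) q2
    have io : Odd i := (hi ▸ qo).of_dvd_nat (dvd_mul_left _ _)
    obtain rfl : i = 1 := by rw [Nat.odd_iff] at io; omega
    omega
  · by_contra hc
    have g1 : g ≠ 1 := fun e => hp.one_lt.ne' (by simpa [e] using hg)
    have g0 : n g ≠ 0 := fun e => hc (mem_filter.2 ⟨mem_univ _, e⟩)
    have d := dirr_dvd ha a1 (g := g) (by rw [hn]; exact_mod_cast pm g g1 g0)
    have d' : q ∣ (centralizer ({g} : Set G)).index := by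
      rw [← Int.natCast_dvd_natCast]
      rcases hq with e | e <;> rw [e] at d
      exacts [d, neg_dvd.1 d]
    obtain ⟨j, hj⟩ := d'
    have e := card_mul_index (centralizer ({g} : Set G))
    have e2 : 2 * j * Nat.card (centralizer ({g} : Set G)) = q ^ 2 - 1 := by
      apply Nat.eq_of_mul_eq_mul_left (show 0 < q by omega)
      rw [← cG2, ← e, hj]; ring
    have d2 : p ∣ q ^ 2 - 1 := e2 ▸ (hg.trans (orderOf_dvd_card_of_mem
      (mem_centralizer_singleton_iff.2 rfl))).mul_left _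
    have d3 : p ∣ q ^ 2 := hpq.trans (dvd_pow_self q two_ne_zero)
    exact hp.one_lt.ne' (Nat.dvd_one.1 ((Nat.dvd_sub_iff_right q1 d3).1 d2))

end BSW

omit [Fintype G] in
theorem DH.sq_or_comm [Finite G] {S : Subgroup G} {x y : G} {l : ℕ} (h : DH S x y l) {a b : G}
    (ha : a ∈ S) (hb : b ∈ S) : a * a = 1 ∨ b * b = 1 ∨ a * b = b * a := by
  obtain ⟨i, rfl | rfl⟩ := (h.mem a).1 ha
  · obtain ⟨j, rfl | rfl⟩ := (h.mem b).1 hb
    · exact Or.inr (Or.inr (by rw [← zpow_add, ← zpow_add, add_comm]))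
    · exact Or.inr (Or.inl (h.sq_o j))
  · exact Or.inl (h.sq_o i)

omit [Fintype G] in
theorem DH.not_hasSection [Finite G] {S : Sylow 2 G} {x y : G} {l : ℕ}
    (h : DH (S : Subgroup G) x y l) {p : ℕ} [Fact p.Prime] (hp : p ≠ 2) :
    ¬ HasSection (⊤ : Subgroup G) SL(2, ZMod p) := by
  rintro ⟨K, -, φ, hφ⟩
  obtain ⟨T, hT⟩ := exists_isSylowOf 2 (⊤ : Subgroup K)
  have hT' := hT.map φ
  rw [map_top_of_surjective φ hφ, ← closure_upT_loT_zmod (p := p) one_ne_zero one_ne_zero] at hT'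
  refine not_comm_sylow_two hp one_ne_zero one_ne_zero hT' (isMulCommutative_of_forall ?_)
  rintro _ ⟨a, ha, rfl⟩ _ ⟨b, hb, rfl⟩
  obtain ⟨g, -, hg⟩ := (isSylowOf_top S).exists_cj_le (hT.isP.map K.subtype) le_top
  have h2 := two_ne_zero_of_ne (K := ZMod p) hp
  have key : ∀ c : K, g * c * g⁻¹ * (g * c * g⁻¹) = 1 → ∀ z, φ c * z = z * φ c := fun c hc z => by
    rw [conj_mul, conj_eq_one_iff] at hc
    have : φ c ^ 2 = 1 := by rw [sq, ← map_mul, show c * c = 1 from Subtype.ext hc, map_one]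
    rcases eq_one_or_neg_one_of_sq h2 this with e | e <;> simp [e]
  rcases h.sq_or_comm (cj_le_iff'.1 hg _ ⟨a, ha, rfl⟩) (cj_le_iff'.1 hg _ ⟨b, hb, rfl⟩) with
    e | e | e
  · exact key a e _
  · exact (key b e _).symm
  · rw [conj_mul, conj_mul, mul_left_inj, mul_right_inj] at e
    rw [← map_mul, ← map_mul, show a * b = b * a from Subtype.ext e]

omit [Fintype G] in
/-- Fusion in a Sylow `p`-subgroup is controlled by the normalizer of `ZJ`. -/
theorem DH.fusion [Finite G] {S : Sylow 2 G} {x y : G} {l : ℕ}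
    (h : DH (S : Subgroup G) x y l) {p : ℕ} [Fact p.Prime] (hp : p ≠ 2) {P : Subgroup G}
    (hP : IsSylowOf p P ⊤) {A : Subgroup G} (hA : A ≤ P) {g : G} (hg : PLoc.cj g⁻¹ A ≤ P) :
    Real (normalizer (ZJOf 0 P : Set G)) A g :=
  charFun_fusion (X := fun G _ => ¬ HasSection (⊤ : Subgroup G) SL(2, ZMod p))
    (charFun_ZJOf (dvd_zero p)) (fun _ _ _ h h' => h h'.of_subgroup)
    (fun _ _ _ _ h h' => h h'.of_quotient)
    (fun _ _ _ _ a b c => ZJOf_normal hp (Or.inr rfl) (stabN_of_not_hasSection hp a)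
      c b) G (h.not_hasSection hp) P hP A hA g hg

theorem psl_of_Z [IsSimpleGroup G] {S : Sylow 2 G} {x y : G} {l : ℕ}
    (h : DH (S : Subgroup G) x y l) {q : ℕ} {Z : Finset G} (qo : Odd q) (q3 : 3 ≤ q)
    (cG : 2 * Nat.card G = q * (q ^ 2 - 1)) (cZ : Z.card = q ^ 2 - 1) (Z1 : 1 ∉ Z)
    (cl : ∀ g ∈ Z, ∀ u, IsConj g u → u ∈ Z)
    (cC : ∀ g ∈ Z, Nat.card (centralizer ({g} : Set G)) = q)
    (hZ : ∀ p : ℕ, p.Prime → p ∣ q → ∀ g, p ∣ orderOf g → g ∈ Z) :
    ∃ (F : Type) (_ : Field F) (_ : Fintype F), Odd (Fintype.card F) ∧ Nonempty (G ≃* PSL(2, F)) := by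
  classical
  have q2 : 9 ≤ q ^ 2 := Nat.pow_le_pow_left q3 2
  have ci : ∀ g ∈ Z, 2 * (centralizer ({g} : Set G)).index = q ^ 2 - 1 := fun g hg => by
    apply Nat.eq_of_mul_eq_mul_left (show 0 < q by omega)
    rw [← cG, ← card_mul_index (centralizer ({g} : Set G)), cC g hg]; ring
  obtain ⟨p, hp, hpq⟩ := Nat.exists_prime_and_dvd (show q ≠ 1 by omega)
  have := Fact.mk hp
  have p2 : p ≠ 2 := fun e => Nat.not_even_iff_odd.2 qo (even_iff_two_dvd.2 (e ▸ hpq))
  have pG : p ∣ Nat.card G := (Nat.Coprime.dvd_mul_left ((Nat.coprime_primes hp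
    Nat.prime_two).2 p2)).1 (cG ▸ hpq.mul_right _)
  have uq : ∀ r : ℕ, r.Prime → r ∣ q → r = p := fun r hr hrq => by
    by_contra hne
    obtain ⟨z, hz⟩ := exists_prime_orderOf_dvd_card' p pG
    have zZ := hZ p hp hpq z (hz ▸ dvd_rfl)
    obtain ⟨w, hw, hwr⟩ := exists_mem_orderOf_eq_prime hr (cC z zZ ▸ hrq)
    have wZ := hZ r hr hrq w (hwr ▸ dvd_rfl)
    have o : orderOf (w * z) = r * p := by
      rw [Commute.orderOf_mul_eq_mul_orderOf_of_coprime (mem_centralizer_singleton_iff.1 hw)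
        (by rw [hwr, hz]; exact (Nat.coprime_primes hr hp).2 hne), hwr, hz]
    have uZ := hZ p hp hpq (w * z) (o ▸ dvd_mul_left _ _)
    have dj : ∀ a b : G, orderOf a ≠ orderOf b →
        Disjoint (univ.filter (IsConj a)) (univ.filter (IsConj b)) := fun a b hab =>
      disjoint_filter.2 fun u _ h1 h2 => hab ((orderOf_isConj h1).trans (orderOf_isConj h2).symm)
    have c : (univ.filter (IsConj z) ∪ univ.filter (IsConj w) ∪
        univ.filter (IsConj (w * z))).card ≤ Z.card := card_le_card fun u hu => by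
      simp only [mem_union, mem_filter, mem_univ, true_and] at hu
      rcases hu with (e | e) | e
      exacts [cl _ zZ _ e, cl _ wZ _ e, cl _ uZ _ e]
    rw [card_union_of_disjoint (disjoint_union_left.2 ⟨dj _ _ (by
      rw [hz, o]; exact (lt_mul_left hp.pos hr.one_lt).ne), dj _ _ (by
      rw [hwr, o]; exact (lt_mul_right hr.pos hp.one_lt).ne)⟩),
      card_union_of_disjoint (dj _ _ (by rw [hz, hwr]; exact Ne.symm hne))] at c
    have c1 : ∀ a : G, (univ.filter (IsConj a)).card = (centralizer ({a} : Set G)).index :=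
      fun a => by convert card_filter_isConj a
    simp only [c1] at c
    have := ci _ zZ
    have := ci _ wZ
    have := ci _ uZ
    omega
  have qe := Nat.eq_prime_pow_of_unique_prime_dvd (show q ≠ 0 by omega) fun {r} => uq r
  have sy : ∀ g ∈ Z, IsSylowOf p (centralizer {g}) ⊤ := fun g hg =>
    ⟨le_top, IsPGroup.of_card ((cC g hg).trans qe), fun e => by
      rw [relIndex_top_right] at e
      exact hp.one_lt.ne' (Nat.dvd_one.1 ((Nat.dvd_sub_iff_right (by omega)
        (hpq.trans (dvd_pow_self q two_ne_zero))).1 (ci g hg ▸ e.mul_left 2)))⟩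
  have mZ : ∀ {P : Subgroup G}, IsPGroup p P → ∀ u ∈ P, u ≠ 1 → u ∈ Z := fun hP u hu u1 => by
    obtain ⟨k, hk⟩ := IsPGroup_orderOf hP hu
    refine hZ p hp hpq u (hk ▸ dvd_pow_self p ?_)
    rintro rfl
    exact u1 (by simpa using hk)
  have hc : ∀ P : Sylow p G, ∀ u ∈ (P : Subgroup G), u ≠ 1 →
      centralizer {u} = (P : Subgroup G) := fun P => by
    have ab : (P : Subgroup G) ≤ ZJOf 0 P := fun u hu => by
      by_cases u1 : u = 1
      · exact u1 ▸ one_mem _
      obtain ⟨g, -, hg⟩ := (sy u (mZ P.2 u hu u1)).exists_cj_eq (isSylowOf_top P)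
      rw [H9.cj_cent1] at hg
      have m1 : g * u * g⁻¹ ∈ (P : Subgroup G) := hg ▸ mem_centralizer_singleton_iff.2 rfl
      obtain ⟨m, hm, e⟩ := h.fusion p2 (isSylowOf_top P) (zpowers_le.2 hu) (g := g⁻¹)
        (by rw [inv_inv, cj_zpowers]; exact zpowers_le.2 m1)
      have m2 : g * u * g⁻¹ ∈ ZJOf 0 (P : Subgroup G) := mem_ZJOf m1 (pow_zero _) fun c hc =>
        mem_centralizer_singleton_iff.1 (hg ▸ JOf_le _ hc)
      have := conj_mem_of_mem_normalizer hm m2
      rw [← inv_inv g, inv_inv g⁻¹, ← e u (mem_zpowers u)] at this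
      simpa [mul_assoc] using this
    intro u hu u1
    exact (isSylowOf_top P).eq_of_le (sy u (mZ P.2 u hu u1)).isP le_top fun c hc =>
      mem_centralizer_singleton_iff.2 ((isEA_iff.1 (isEA_ZJOf _)).1 c (ab hc) u (ab hu))
  have cP : ∀ P : Sylow p G, Nat.card P = q := fun P => by
    obtain ⟨z, hz⟩ := exists_prime_orderOf_dvd_card' p pG
    have zZ := hZ p hp hpq z (hz ▸ dvd_rfl)
    exact ((isSylowOf_top P).card_eq_card (sy z zZ)).trans (cC z zZ)
  have := Fintype.ofFinite (Sylow p G)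
  obtain ⟨P⟩ : Nonempty (Sylow p G) := inferInstance
  have n1 : Z.card = (normalizer ((P : Subgroup G) : Set G)).index * (q - 1) := by
    have e : Z = univ.biUnion fun Q : Sylow p G =>
        (univ.filter (· ∈ (Q : Subgroup G))).erase 1 := by
      ext u
      simp only [mem_biUnion, mem_univ, true_and, mem_erase, mem_filter]
      refine ⟨fun hu => ?_, fun ⟨Q, u1, hu⟩ => mZ Q.2 u hu u1⟩
      obtain ⟨Q, hQ⟩ := (sy u hu).exists_sylow_top
      exact ⟨Q, fun e => Z1 (e ▸ hu), hQ ▸ mem_centralizer_singleton_iff.2 rfl⟩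
    rw [e, card_biUnion ?_, sum_congr rfl fun Q _ => (by
      rw [card_erase_of_mem (by simp), ← card_subgroup_eq_filter, cP] : _ = q - 1), sum_const,
      card_univ, ← Nat.card_eq_fintype_card, P.card_eq_index_normalizer, smul_eq_mul]
    · rfl
    intro Q _ R _ hQR
    refine disjoint_left.2 fun u h1 h2 => hQR (Sylow.ext ?_)
    simp only [mem_univ, true_and, mem_erase, mem_filter] at h1 h2
    rw [← hc Q u h1.2 h1.1, hc R u h2.2 h2.1]
  have n2 : (normalizer ((P : Subgroup G) : Set G)).index = q + 1 := by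
    apply Nat.eq_of_mul_eq_mul_right (show 0 < q - 1 by omega)
    rw [← n1, cZ, ← Nat.sq_sub_sq, one_pow]
  obtain ⟨F, i, j, h1, h2⟩ := H9.psl_of_TI P (hc P) (by rw [n2, cP]) (by rw [cP]; omega) fun e => by
    have e2 := card_mul_index (normalizer ((P : Subgroup G) : Set G))
    rw [e, n2, cP, mul_comm (q - 1), mul_assoc, mul_comm (q - 1), ← Nat.sq_sub_sq, one_pow] at e2
    have : 0 < Nat.card G := Nat.card_pos
    omega
  exact ⟨F, i, j, by rw [h1, cP]; exact qo, h2⟩

omit [Fintype G] in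
theorem DH.card_ne_two [Finite G] {S : Subgroup G} {x y : G} {l : ℕ} (h : DH S x y l) :
    Nat.card G ≠ 2 := fun e => by
  have := Nat.le_of_dvd Nat.card_pos (card_subgroup_dvd_card S)
  have := h.card
  have := h.lpos
  omega

theorem BSW.psl [IsSimpleGroup G] {S : Sylow 2 G} {x y : G} {l : ℕ}
    (hS : DH (S : Subgroup G) x y l) {K : Subgroup G} (h : BSW (x ^ (l : ℤ)) K) :
    ∃ (F : Type) (_ : Field F) (_ : Fintype F), Odd (Fintype.card F) ∧ Nonempty (G ≃* PSL(2, F)) := by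
  by_cases hk : Nat.card K = 2
  swap
  · obtain ⟨q, Z, a, b, c, d, e, f, g, i⟩ := h.exists_Z hk
    exact psl_of_Z hS a b c d e f g i
  have sq : ∀ c ∈ centralizer ({x ^ (l : ℤ)} : Set G), c * c = 1 := fun c hc => by
    by_cases hc' : c ∈ K
    · rw [← pow_two, ← hk, ← orderOf_dvd_iff_pow_eq_one]; exact orderOf_dvd_card_of_mem hc'
    · exact h.out c hc hc'
  have c4 : Nat.card S = 4 := by
    have := Nat.le_of_dvd Nat.card_pos (card_dvd_of_le hS.le_centralizer_z)
    have := hS.card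
    have := hS.lpos
    have := h.card_C
    omega
  obtain ⟨F, i, j, h1, ⟨e1⟩⟩ := S1230.result S (fun hc => by
    obtain ⟨g, hg⟩ := IsCyclic.exists_ofOrder_eq_natCard (α := S)
    have : orderOf g ∣ 2 := orderOf_dvd_of_pow_eq_one (Subtype.ext (by
      rw [pow_two]; exact sq g (hS.le_centralizer_z g.2)))
    rw [hg, c4] at this
    norm_num at this) (fun hn => by
    rcases hn.eq_bot_or_eq_top with e | e
    · rw [e] at c4; simp at c4
    · have := index_ne_two_of_simple hS.card_ne_two (zpowers x)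
      rw [← relIndex_top_right, ← e] at this
      exact this hS.relIndex_X) fun u hu => by
    obtain ⟨g, rfl⟩ := isConj_iff.1 (h.cls u hu)
    have sq' : ∀ c ∈ centralizer ({g * x ^ (l : ℤ) * g⁻¹} : Set G), c * c = 1 := fun c hc => by
      rw [← H9.cj_cent1] at hc
      obtain ⟨c, hc, rfl⟩ := hc
      simp only [MulEquiv.coe_toMonoidHom, MulAut.conj_apply, conj_mul, sq c hc]
      simp
    exact ⟨isMulCommutative_of_forall (comm_of_sq_one sq'), fun c hc => (pow_two c).trans (sq' c hc)⟩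
  have : Fact (Nat.Prime 5) := ⟨by norm_num⟩
  obtain ⟨e2⟩ := S0252.result (h1.trans c4)
  obtain ⟨e3⟩ := S0253.result (F := ZMod 5) (ZMod.card 5)
  exact ⟨ZMod 5, inferInstance, inferInstance, by rw [ZMod.card]; decide,
    ⟨e1.trans (e2.trans e3.symm)⟩⟩

omit [Fintype G] in
theorem DH.exists_center [Finite G] {S : Subgroup G} {x y : G} {l : ℕ} (h : DH S x y l) {t : G}
    (ht : orderOf t = 2) (htS : t ∈ S) (hZ : ∀ s ∈ S, s * t = t * s) :
    ∃ x' y', DH S x' y' l ∧ t = x' ^ (l : ℤ) := by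
  rcases h.invol htS ht with e | ⟨k, rfl⟩
  · exact ⟨x, y, h, e⟩
  have hl : l = 1 := by
    have o := h.ord
    have := h.lpos
    rcases h.comm_o (mem_zpowers x) (hZ x h.x1mem).symm with e | e
    · rw [e, orderOf_one] at o; omega
    · have := h.zord
      rw [← e, o] at this; omega
  subst hl
  have h' := h.shift k
  generalize x ^ k * y = w at *
  have xx : x * x = 1 := (ord2_iff.1 h'.ord).1
  have c : x * w = w * x := hZ x h.x1mem
  have p2 : ∀ {a : G}, a * a = 1 → ∀ i : ℤ, a ^ i = 1 ∨ a ^ i = a := fun {a} ha i => by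
    have : a ^ (2 : ℤ) = 1 := by rw [zpow_two, ha]
    rcases Int.even_or_odd' i with ⟨j, rfl | rfl⟩
    · exact Or.inl (by rw [zpow_mul, this, one_zpow])
    · exact Or.inr (by rw [zpow_add, zpow_mul, this, one_zpow, one_mul, zpow_one])
  refine ⟨w, x, ⟨⟨0, rfl⟩, ht, xx, by rw [c, mul_inv_cancel_right, inv_of_ord2 ht], ?_,
    fun g => ?_⟩, by simp⟩
  · rintro ⟨i, hi⟩
    rcases p2 h'.ysq i with e | e
    · exact ne_one_of_ord2 h'.ord (hi.symm.trans e)
    · exact h'.y_not_mem (e.symm.trans hi ▸ mem_zpowers x)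
  · refine ⟨fun hg => ?_, ?_⟩
    · obtain ⟨i, rfl | rfl⟩ := (h'.mem g).1 hg <;> rcases p2 xx i with e | e <;> rw [e]
      exacts [⟨0, Or.inl (by simp)⟩, ⟨0, Or.inr (by simp)⟩, ⟨1, Or.inl (by simp)⟩,
        ⟨1, Or.inr (by simp [c])⟩]
    · rintro ⟨i, rfl | rfl⟩
      exacts [zpow_mem htS i, mul_mem (zpow_mem htS i) h.x1mem]

omit [Fintype G] in
theorem DH.cent_eq [Finite G] {S : Sylow 2 G} {x y : G} {l : ℕ} (h : DH (S : Subgroup G) x y l) :
    pPrimeCoreOf 2 (centralizer {x ^ (l : ℤ)}) ⊔ S = centralizer {x ^ (l : ℤ)} := by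
  rw [← h.npc_centralizer.pResOf_eq_pPrimeCoreOf, sup_comm]
  exact (isSylowOf_sylow S h.le_centralizer_z).sup_pResOf

theorem bsw_of [IsSimpleGroup G] {S : Sylow 2 G} {x y : G} {l : ℕ}
    (h : DH (S : Subgroup G) x y l) {O : Subgroup G}
    (hO : O = pPrimeCoreOf 2 (centralizer {x ^ (l : ℤ)})) (hx : x ∈ centralizer (O : Set G))
    (hy : ∀ o ∈ O, y * o * y⁻¹ = o⁻¹)
    (hc : ∀ u ∈ O, u ≠ 1 → centralizer {u} ≤ centralizer {x ^ (l : ℤ)}) :
    BSW (x ^ (l : ℤ)) (O ⊔ zpowers x) := by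
  have OC : O ≤ centralizer {x ^ (l : ℤ)} := hO ▸ pPrimeCoreOf_le _
  have cO : (Nat.card O).Coprime 2 := hO ▸ pPrimeCoreOf_coprime _
  have OS : ∀ o ∈ O, o ∈ (S : Subgroup G) → o = 1 := fun o h1 h2 =>
    mem_bot.1 (inf_eq_bot_of_isPGroup_of_coprime S.2 cO ▸ mem_inf.2 ⟨h2, h1⟩)
  have nO : centralizer {x ^ (l : ℤ)} ≤ normalizer (O : Set G) := hO ▸ le_normalizer_pPrimeCoreOf _
  have mK : ∀ {g}, g ∈ O ⊔ zpowers x ↔ ∃ o ∈ O, ∃ i : ℤ, g = o * x ^ i := fun {g} => by
    rw [mem_sup_of_le_normalizer_left (h.X_le.trans (h.le_centralizer_z.trans nO))]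
    exact ⟨fun ⟨o, ho, _, ⟨i, rfl⟩, e⟩ => ⟨o, ho, i, e.symm⟩,
      fun ⟨o, ho, i, e⟩ => ⟨o, ho, _, ⟨i, rfl⟩, e.symm⟩⟩
  have mC : ∀ {g}, g ∈ centralizer ({x ^ (l : ℤ)} : Set G) → g ∈ O ⊔ zpowers x ∨
      ∃ o ∈ O, ∃ i : ℤ, g = o * (x ^ i * y) := fun {g} hg => by
    rw [← h.cent_eq, ← hO, mem_sup_of_le_normalizer_left (h.le_centralizer_z.trans nO)] at hg
    obtain ⟨o, ho, s, hs, rfl⟩ := hg
    obtain ⟨i, rfl | rfl⟩ := (h.mem s).1 hs
    exacts [Or.inl (mK.2 ⟨o, ho, i, rfl⟩), Or.inr ⟨o, ho, i, rfl⟩]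
  have cx : ∀ o ∈ O, ∀ i : ℤ, o * x ^ i = x ^ i * o := fun o ho i => zpow_mem hx i o ho
  have oi : ∀ o ∈ O, ∀ i : ℤ, x ^ i * y * o * (x ^ i * y)⁻¹ = o⁻¹ := fun o ho i => by
    calc _ = x ^ i * (y * o * y⁻¹) * (x ^ i)⁻¹ := by group
      _ = _ := by rw [hy o ho, ← cx _ (inv_mem ho), mul_inv_cancel_right]
  have co : ∀ a ∈ O, ∀ b ∈ O, a * b = b * a := fun a ha b hb => by
    apply inv_injective
    rw [← hy _ (mul_mem ha hb), mul_inv_rev, ← hy a ha, ← hy b hb, conj_mul]
  have cm : ∀ a ∈ O ⊔ zpowers x, ∀ b ∈ O ⊔ zpowers x, a * b = b * a :=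
    isMulCommutative_iff_forall.1 (isMulCommutative_sup (isMulCommutative_of_forall co)
      inferInstance (le_centralizer_iff.1 (zpowers_le.2 hx)))
  have ut : ∀ u ∈ O ⊔ zpowers x, orderOf u = 2 → u = x ^ (l : ℤ) := fun u hu h2 => by
    obtain ⟨o, ho, i, rfl⟩ := mK.1 hu
    have e := (ord2_iff.1 h2).1
    rw [mul_assoc, ← mul_assoc (x ^ i), ← cx o ho, mul_assoc, ← mul_assoc,
      mul_eq_one_iff_eq_inv] at e
    have e2 := OS _ (mul_mem ho ho) (e ▸ inv_mem (mul_mem (h.xmem i) (h.xmem i)))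
    obtain rfl := eq_one_of_odd_of_sq (odd_orderOf_of_mem (Nat.coprime_two_right.1 cO) ho) e2
    rw [one_mul] at h2 ⊢
    exact h.eq_z ⟨i, rfl⟩ h2
  have out : ∀ {g}, g ∈ centralizer ({x ^ (l : ℤ)} : Set G) → g ∉ O ⊔ zpowers x →
      ∀ o ∈ O, g * o * g⁻¹ = o⁻¹ := fun {g} hg h1 u hu => by
    obtain ⟨o, ho, i, rfl⟩ := (mC hg).resolve_left h1
    calc _ = o * (x ^ i * y * u * (x ^ i * y)⁻¹) * o⁻¹ := by group
      _ = _ := by rw [oi u hu, co o ho _ (inv_mem hu), mul_inv_cancel_right]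
  refine ⟨h.zord, mem_sup_right ⟨l, rfl⟩, cm, relIndex_eq_two_iff_exists_notMem_and.2
    ⟨y, h.le_centralizer_z h.ymem, fun e => ?_, fun b hb => ?_⟩, fun s hs h1 => ?_,
    fun g hg u hu hgu => ?_, fun u hu => h.one_class (index_ne_two_of_simple h.card_ne_two)
      h.zord hu, ?_⟩
  · obtain ⟨o, ho, i, e⟩ := mK.1 e
    have := OS o ho (by
      rw [← mul_inv_eq_iff_eq_mul] at e; exact e ▸ mul_mem h.ymem (inv_mem (h.xmem i)))
    exact h.y_not_mem ⟨i, by rw [e, this, one_mul]⟩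
  · rcases mC hb with e | ⟨o, ho, i, rfl⟩
    · exact Or.inr e
    · exact Or.inl (mK.2 ⟨o, ho, i, by rw [mul_assoc, mul_assoc, h.ysq, mul_one]⟩)
  · obtain ⟨o, ho, i, rfl⟩ := (mC hs).resolve_left h1
    calc _ = o * (x ^ i * y * o * (x ^ i * y)⁻¹) * (x ^ i * y * (x ^ i * y)) := by group
      _ = 1 := by rw [oi o ho, h.sq_o, mul_inv_cancel, mul_one]
  · by_contra u1
    refine hg (mem_centralizer_singleton_iff.2 (mul_inv_eq_iff_eq_mul.1 ?_))
    have o2 : orderOf (g * x ^ (l : ℤ) * g⁻¹) = 2 := by rw [PLoc.orderOf_conj', h.zord]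
    rcases Nat.even_or_odd (orderOf u) with e | e
    · obtain ⟨v, hv, v2⟩ := exists_involution_mem (H := zpowers u) (by rwa [Nat.card_zpowers])
      obtain rfl := ut v (zpowers_le.2 hu hv) v2
      refine ut _ ?_ o2
      exact (cj_zpowers g u ▸ zpowers_le.2 hgu : PLoc.cj g (zpowers u) ≤ _) (conj_mem_cj.2 hv)
    · have KC : O ⊔ zpowers x ≤ centralizer {x ^ (l : ℤ)} :=
        sup_le OC (h.X_le.trans h.le_centralizer_z)
      have e' : Odd (orderOf (g * u * g⁻¹)) := by rwa [PLoc.orderOf_conj']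
      have m : g * u * g⁻¹ ∈ O := by
        rw [hO, ← h.npc_centralizer.pResOf_eq_pPrimeCoreOf]
        exact mem_pResOf (KC hgu) (Nat.coprime_two_right.2 e')
      have u1' : g * u * g⁻¹ ≠ 1 := fun e => u1 (conj_eq_one_iff.1 e)
      have c : g * x ^ (l : ℤ) * g⁻¹ ∈ centralizer {g * u * g⁻¹} := by
        rw [mem_centralizer_singleton_iff, conj_mul, conj_mul,
          mem_centralizer_singleton_iff.1 (KC hu)]
      refine ut _ (by_contra fun h1 => u1' (eq_one_of_odd_of_sq e' ?_)) o2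
      have := out (hc _ m u1' c) h1 _ m
      rw [mem_centralizer_singleton_iff.1 c, mul_inv_cancel_right] at this
      exact mul_eq_one_iff_eq_inv.2 this
  · have := (isSylowOf_top S).not_dvd
    rw [← relIndex_mul_relIndex _ _ ⊤ h.le_centralizer_z le_top, relIndex_top_right] at this
    exact Nat.odd_iff.2 (Nat.two_dvd_ne_zero.1 fun e => this (e.mul_left _))

theorem s0508 {G : Type*} [Group G] [Finite G] [IsSimpleGroup G] (S : Sylow 2 G) (n : ℕ)
    (hn : 2 ≤ n) (hS : Nonempty ((S : Subgroup G) ≃* DihedralGroup n)) (t : G) (ht : orderOf t = 2)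
    (htS : t ∈ (S : Subgroup G)) (htZ : ∀ s ∈ (S : Subgroup G), s * t = t * s) (O : Subgroup G)
    (hO : O = pPrimeCoreOf 2 (centralizer {t}))
    (ha : O ≠ ⊥ → IsCyclic ((S : Subgroup G) ⊓ centralizer (O : Set G) : Subgroup G) ∧
      ((S : Subgroup G) ⊓ centralizer (O : Set G)).relIndex (S : Subgroup G) = 2)
    (hb : ∀ s ∈ (S : Subgroup G), s ∉ centralizer (O : Set G) → ∀ y ∈ O, s * y * s⁻¹ = y⁻¹)
    (hc : ∀ Y : Subgroup G, Y ≤ O → Y ≠ ⊥ → normalizer (Y : Set G) ≤ centralizer ({t} : Set G)) :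
    ∃ (F : Type) (_ : Field F) (_ : Fintype F), Odd (Fintype.card F) ∧ Nonempty (G ≃* PSL(2, F)) := by
  have := Fintype.ofFinite G
  obtain ⟨e⟩ := hS
  obtain ⟨x, y, l, h, -⟩ := exists_DH S.2 hn e
  obtain ⟨x, y, h, rfl⟩ := h.exists_center ht htS htZ
  have hc' : ∀ u ∈ O, u ≠ 1 → centralizer {u} ≤ centralizer {x ^ (l : ℤ)} := fun u hu u1 =>
    (PLoc.centralizer_zpowers u ▸ centralizer_le_normalizer _).trans
      (hc _ (zpowers_le.2 hu) (by simpa using u1))
  by_cases h0 : O = ⊥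
  · exact (bsw_of h hO (by simp [h0, mem_centralizer_iff]) (by simp [h0]) hc').psl h
  obtain ⟨h1, h2⟩ := ha h0
  have hx : x ∈ centralizer (O : Set G) := by
    rcases h.l_cases with rfl | ⟨m, rfl⟩
    · have : O ≤ centralizer {x ^ ((1 : ℕ) : ℤ)} := hO ▸ pPrimeCoreOf_le _
      exact fun o ho => by simpa using mem_centralizer_singleton_iff.1 (this ho)
    obtain ⟨g, hg⟩ := IsCyclic.exists_ofOrder_eq_natCard
      (α := ((S : Subgroup G) ⊓ centralizer (O : Set G) : Subgroup G))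
    have c := PLoc.card_mul_relIndex (inf_le_left : (S : Subgroup G) ⊓ centralizer (O : Set G) ≤ S)
    have := h.lpos
    rw [h2, h.card, ← hg, ← orderOf_coe] at c
    have gx : (g : G) ∈ zpowers x := by
      by_contra e
      have := h.ord_out g.2.1 e
      omega
    have : zpowers (g : G) = zpowers x := eq_of_le_of_card_ge (zpowers_le.2 gx) (by
      rw [Nat.card_zpowers, Nat.card_zpowers, h.ord]; omega)
    exact (zpowers_le.2 g.2.2 : zpowers (g : G) ≤ _) (this ▸ mem_zpowers x)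
  refine (bsw_of h hO hx (hb y h.ymem fun hy => ?_) hc').psl h
  rw [inf_eq_left.2 (h.le_of hy (mul_mem hx hy)), relIndex_self] at h2
  omega

end Cfsg.Agent.Dih
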