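import Cfsg.Agent.Class.Uni
import Cfsg.Agent.Inv.Suz4
import Cfsg.Agent.Inv.Small

/-! The Sylow 2-subgroup of `PSU₃(2ⁿ)` as an explicit Heisenberg group, and the uniqueness of the
Suzuki 2-group of order 64 with centre of order 4. -/

set_option autoImplicit false
set_option linter.unusedVariables false
set_option linter.unusedSectionVars false

namespace Cfsg.Agent.Dih

open Cfsg.Agent.Class Cfsg.Agent.Inv Subgroup
open scoped commutatorElement

variable {F : Type*} [Field F] {σ : F →+* F}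

/-- The unitary Heisenberg group. -/
@[ext] structure Hs (hσ : ∀ a, σ (σ a) = a) where
  x : F
  a : F
  h : a + σ a = σ x * x

namespace Hs
variable {hσ : ∀ a, σ (σ a) = a}

instance : Mul (Hs hσ) := ⟨fun p r => ⟨p.x + r.x, p.a + r.a + σ r.x * p.x, by
  simp only [map_add, map_mul, hσ]; linear_combination p.h + r.h⟩⟩
instance : One (Hs hσ) := ⟨⟨0, 0, by simp⟩⟩
instance : Inv (Hs hσ) := ⟨fun p => ⟨-p.x, σ p.a, by
  simp only [map_neg, hσ]; linear_combination p.h⟩⟩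

@[simp] theorem mul_x (p r : Hs hσ) : (p * r).x = p.x + r.x := rfl
@[simp] theorem mul_a (p r : Hs hσ) : (p * r).a = p.a + r.a + σ r.x * p.x := rfl
@[simp] theorem one_x : (1 : Hs hσ).x = 0 := rfl
@[simp] theorem one_a : (1 : Hs hσ).a = 0 := rfl
@[simp] theorem inv_x (p : Hs hσ) : (p⁻¹).x = -p.x := rfl
@[simp] theorem inv_a (p : Hs hσ) : (p⁻¹).a = σ p.a := rfl

instance : Group (Hs hσ) := Group.ofLeftAxioms
  (fun p r s => by ext <;> simp <;> ring)
  (fun p => by ext <;> simp)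
  (fun p => by
    ext
    · simp
    · simp only [mul_a, inv_a, inv_x, one_a]; linear_combination p.h)

theorem exists_x (hσ1 : σ ≠ RingHom.id F) (y : F) : ∃ p : Hs hσ, p.x = y := by
  obtain ⟨a, ha⟩ := exists_trace_eq hσ hσ1 (b := σ y * y) (by simp [hσ, mul_comm])
  exact ⟨⟨y, a, ha⟩, rfl⟩

theorem card {q : ℕ} (h : UF σ q) : Nat.card (Hs hσ) = q ^ 3 := by
  choose s hs using exists_x (hσ := hσ) h.ne_id
  have e : Hs hσ ≃ F × {x : F // x + σ x = 0} :=
    { toFun := fun p => (p.x, ⟨p.a - (s p.x).a, by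
        have := (s p.x).h
        rw [hs] at this
        simp only [map_sub]; linear_combination p.h - this⟩)
      invFun := fun z => ⟨z.1, z.2.1 + (s z.1).a, by
        have := (s z.1).h
        rw [hs] at this
        simp only [map_add]; linear_combination z.2.2 + this⟩
      left_inv := fun p => by ext <;> simp
      right_inv := fun z => by ext <;> simp }
  rw [Nat.card_congr e, Nat.card_prod, h.card, h.card_trace_zero]; ring

theorem mem_center (hσ1 : σ ≠ RingHom.id F) {p : Hs hσ} : p ∈ center (Hs hσ) ↔ p.x = 0 := by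
  rw [mem_center_iff]
  refine ⟨fun h => ?_, fun h r => by ext <;> simp [h, add_comm]⟩
  by_contra h0
  have key : ∀ y, σ p.x * y = σ y * p.x := fun y => by
    obtain ⟨r, rfl⟩ := exists_x (hσ := hσ) hσ1 y
    have := congrArg Hs.a (h r)
    simp only [mul_a] at this
    linear_combination this
  have h1 := key 1
  rw [map_one, mul_one, one_mul] at h1
  refine hσ1 (RingHom.ext fun y => ?_)
  have := key y
  rw [h1, mul_comm] at this
  exact (mul_right_cancel₀ h0 this).symm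

theorem card_center {q : ℕ} (h : UF σ q) : Nat.card (center (Hs hσ)) = q := by
  rw [← h.card_trace_zero]
  refine Nat.card_congr
    { toFun := fun p => ⟨p.1.a, by have := p.1.h; rwa [(mem_center h.ne_id).1 p.2, mul_zero] at this⟩
      invFun := fun z => ⟨⟨0, z.1, by simp [z.2]⟩, (mem_center h.ne_id).2 rfl⟩
      left_inv := fun p => by
        ext
        · exact ((mem_center h.ne_id).1 p.2).symm
        · rfl
      right_inv := fun z => rfl }

variable [CharP F 2]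

theorem sq_eq_one {p : Hs hσ} : p * p = 1 ↔ p.x = 0 := by
  refine ⟨fun h => ?_, fun h => ?_⟩
  · have := congrArg Hs.a h
    simp only [mul_a, CharTwo.add_self_eq_zero, zero_add, one_a, mul_eq_zero, map_eq_zero] at this
    tauto
  · ext <;> simp [h, CharTwo.add_self_eq_zero]

theorem sq_x (p : Hs hσ) : (p * p).x = 0 := by simp [CharTwo.add_self_eq_zero]

theorem exists_comm (hσ1 : σ ≠ RingHom.id F) {p : Hs hσ} (hp : p.x = 0) :
    ∃ r s : Hs hσ, p = ⁅r, s⁆ := by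
  have h1 : σ p.a = p.a := by
    have := p.h
    rw [hp, mul_zero] at this
    linear_combination this - p.a * CharTwo.two_eq_zero (R := F)
  obtain ⟨y, hy⟩ := exists_trace_eq hσ hσ1 h1
  obtain ⟨r, hr⟩ := exists_x (hσ := hσ) hσ1 1
  obtain ⟨s, hs⟩ := exists_x (hσ := hσ) hσ1 y
  refine ⟨r, s, ?_⟩
  have h2 := r.h
  have h3 := s.h
  rw [commutatorElement_def]
  ext
  · simp [hp]
  · simp only [mul_a, mul_x, inv_a, inv_x, map_neg, hr, hs, map_one] at h2 h3 ⊢
    have hy' : y + σ y = p.a := hy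
    linear_combination -h2 - h3 - hy' + y * CharTwo.two_eq_zero (R := F)

/-- the diagonal automorphisms -/
def fixU (σ : F →+* F) : Subgroup Fˣ where
  carrier := {c | σ c = c}
  mul_mem' {a b} ha hb := by
    simp only [Set.mem_ofPred_eq, Units.val_mul, map_mul] at *
    rw [ha, hb]
  one_mem' := by simp
  inv_mem' {a} ha := by
    simp only [Set.mem_ofPred_eq, Units.val_inv_eq_inv_val, map_inv₀] at *
    rw [ha]

def sc (c : fixU σ) (p : Hs hσ) : Hs hσ := ⟨(c : Fˣ) * p.x, (c : Fˣ) ^ 2 * p.a, by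
  have : σ (c : Fˣ) = (c : Fˣ) := c.2
  simp only [map_mul, map_pow, this]
  linear_combination ((c : Fˣ) : F) ^ 2 * p.h⟩

theorem sc_mul (c d : fixU σ) (p : Hs hσ) : sc (c * d) p = sc c (sc d p) := by
  ext <;> simp [sc] <;> ring

theorem sc_one (p : Hs hσ) : sc 1 p = p := by ext <;> simp [sc]

def scAut : fixU σ →* MulAut (Hs hσ) := MonoidHom.mk' (fun c =>
  { toFun := sc c
    invFun := sc c⁻¹
    left_inv := fun p => by rw [← sc_mul, inv_mul_cancel, sc_one]
    right_inv := fun p => by rw [← sc_mul, mul_inv_cancel, sc_one]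
    map_mul' := fun p r => by
      have : σ (c : Fˣ) = (c : Fˣ) := c.2
      ext <;> simp [sc, this] <;> ring }) fun c d => MulEquiv.ext fun p => sc_mul c d p

theorem suzuki {n : ℕ} (hn : 2 ≤ n) (h : UF σ (2 ^ n)) : IsSuzukiTwoGroup (Hs hσ) := by
  have := h.finite
  have hc := card (hσ := hσ) h
  have hfin : Finite (Hs hσ) := Nat.finite_of_card_ne_zero (by rw [hc]; positivity)
  refine ⟨hfin, IsPGroup.of_card (n := n * 3) (by rw [hc, pow_mul]), ?_, ?_, scAut.range, ?_, ?_⟩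
  · obtain ⟨p, hp⟩ := exists_x (hσ := hσ) h.ne_id 1
    by_contra hc
    push Not at hc
    have := (mem_center h.ne_id).1 (mem_center_iff.2 fun g => hc g p)
    exact one_ne_zero (hp.symm.trans this)
  · have h3 : 2 < Nat.card (center (Hs hσ)) := by
      rw [card_center h]
      calc 2 < 2 ^ 2 := by norm_num
        _ ≤ 2 ^ n := Nat.pow_le_pow_right (by norm_num) hn
    have := Fintype.ofFinite (center (Hs hσ))
    rw [Nat.card_eq_fintype_card, Fintype.two_lt_card_iff] at h3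
    obtain ⟨a, b, c, hab, hac, hbc⟩ := h3
    have key : ∀ a b : center (Hs hσ), a ≠ b → a ≠ 1 → b ≠ 1 →
        ∃ x y : Hs hσ, x ≠ y ∧ x ≠ 1 ∧ x * x = 1 ∧ y ≠ 1 ∧ y * y = 1 := fun a b h1 h2 h3 =>
      ⟨a, b, fun e => h1 (Subtype.ext e), fun e => h2 (Subtype.ext e),
        sq_eq_one.2 ((mem_center h.ne_id).1 a.2), fun e => h3 (Subtype.ext e),
        sq_eq_one.2 ((mem_center h.ne_id).1 b.2)⟩
    by_cases h1 : a = 1
    · exact key b c hbc (h1 ▸ hab.symm) (h1 ▸ hac.symm)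
    by_cases h2 : b = 1
    · exact key a c hac h1 (h2 ▸ hbc.symm)
    · exact key a b hab h1 h2
  · exact isCyclic_of_surjective scAut.rangeRestrict scAut.rangeRestrict_surjective
  · intro p r hp1 hp hr1 hr
    rw [sq_eq_one] at hp hr
    have fx : ∀ p : Hs hσ, p.x = 0 → σ p.a = p.a := fun p hp => by
      have := p.h
      rw [hp, mul_zero] at this
      linear_combination this - p.a * CharTwo.two_eq_zero (R := F)
    have ne : ∀ p : Hs hσ, p.x = 0 → p ≠ 1 → p.a ≠ 0 := fun p hp h1 e => h1 (by ext <;> simp [hp, e])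
    have inj : ∀ a b : F, a ^ 2 = b ^ 2 → a = b := fun a b e => (frobenius F 2).injective e
    obtain ⟨c, hc⟩ : ∃ c : F, c ^ 2 = r.a / p.a := (frobeniusEquiv F 2).surjective _
    have c0 : c ≠ 0 := by
      rintro rfl
      exact div_ne_zero (ne r hr hr1) (ne p hp hp1) (by rw [← hc]; ring)
    have hcσ : σ c = c := inj _ _ (by rw [← map_pow, hc, map_div₀, fx p hp, fx r hr])
    refine ⟨⟨scAut ⟨Units.mk0 c c0, hcσ⟩, _, rfl⟩, ?_, ?_⟩
    · change sc _ p = r
      ext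
      · simp [sc, hp, hr]
      · simp only [sc, Units.val_mk0, hc]; field_simp [ne p hp hp1]
    · rintro ⟨_, d, rfl⟩ hd
      have h1 := congrArg Hs.a (show sc d p = r from hd)
      simp only [sc] at h1
      have h2 : ((d : Fˣ) : F) = c := inj _ _ (by rw [hc, ← h1]; field_simp [ne p hp hp1])
      have : d = ⟨Units.mk0 c c0, hcσ⟩ := Subtype.ext (Units.ext h2)
      simp [this]

end Hs

theorem suzuki_congr {P Q : Type*} [Group P] [Group Q] (e : P ≃* Q) (h : IsSuzukiTwoGroup Q) :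
    IsSuzukiTwoGroup P := by
  obtain ⟨h0, h1, ⟨x, y, hxy⟩, ⟨a, b, h2, h3, h4, h5, h6⟩, K, hK, h7⟩ := h
  refine ⟨Finite.of_equiv _ e.symm.toEquiv, h1.of_equiv e.symm, ⟨e.symm x, e.symm y, by
    rw [← map_mul, ← map_mul]; exact fun h => hxy (e.symm.injective h)⟩,
    ⟨e.symm a, e.symm b, fun h => h2 (e.symm.injective h), by simpa using h3, by
      rw [← map_mul, h4, map_one], by simpa using h5, by rw [← map_mul, h6, map_one]⟩,
    K.map (MulAut.congr e.symm).toMonoidHom, isCyclic_map hK _, fun p r hp1 hp hr1 hr => ?_⟩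
  obtain ⟨k, hk, hu⟩ := h7 (e p) (e r) (by simpa using hp1) (by rw [← map_mul, hp, map_one])
    (by simpa using hr1) (by rw [← map_mul, hr, map_one])
  refine ⟨⟨MulAut.congr e.symm k, k, k.2, rfl⟩, by simp [hk], ?_⟩
  rintro ⟨_, k', hk', rfl⟩ h
  have := hu ⟨k', hk'⟩ (by
    apply e.symm.injective
    simpa using h)
  subst this; rfl

theorem sylow_PSU3 [Fintype F] {n : ℕ} (h : UF σ (2 ^ n)) (S : Sylow 2 (PSU 3 F (2 ^ n))) :
    Nonempty ((S : Subgroup (PSU 3 F (2 ^ n))) ≃* Hs h.σσ) := by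
  have hn : n ≠ 0 := by rintro rfl; have := h.two_le; omega
  obtain ⟨c, hc⟩ := h.exists_norm (μ := -1) (by simp)
  let u : Fin 3 → F := ![1, c, 0]
  let e : Fin 3 → F := ![0, 0, 1]
  have hu : (uFS h 3).Q u = 0 := by
    rw [FS.herm_Q, uFS_B']; simp [u, Fin.sum_univ_three, hc]
  have hv : ∀ x : F, (uFS h 3).B u (x • e) = 0 := fun x => by
    rw [uFS_B']; simp [u, e, Fin.sum_univ_three]
  have hB : ∀ x y : F, (uFS h 3).B (y • e) (x • e) = σ y * x := fun x y => by
    rw [uFS_B']; simp [e, Fin.sum_univ_three]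
  have ha : ∀ p : Hs h.σσ, (FP.herm σ h.σσ).τ p.a = (uFS h 3).Q (p.x • e) := fun p => by
    rw [FS.herm_Q, hB]; exact p.h
  let ψ : Hs h.σσ →* (uFS h 3).SI := MonoidHom.mk'
    (fun p => ⟨(uFS h 3).eich u (p.x • e) p.a hu (hv _) (ha p), FS.eich_mem .., FS.det_eich ..⟩)
    fun p r => Subtype.ext (by
      simp only [coe_mul, FS.eich_mul, Hs.mul_x, Hs.mul_a, add_smul, hB])
  have hψ : Function.Injective ψ := by
    rw [injective_iff_map_eq_one]
    intro p hp
    have h1 := congrArg (fun g : (uFS h 3).SI => (g : (Fin 3 → F) ≃ₗ[F] (Fin 3 → F)) ![1, 0, 0]) hp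
    simp only [ψ, MonoidHom.mk'_apply, FS.eich_apply, uFS_B', coe_one, LinearEquiv.coe_one, id] at h1
    have h2 := congrFun h1 2
    have h3 := congrFun h1 0
    simp [u, e, Fin.sum_univ_three] at h2 h3
    ext <;> simp [h2, h3]
  have hcH := Hs.card (hσ := h.σσ) h
  have hfin : Finite (Hs h.σσ) := Nat.finite_of_card_ne_zero (by rw [hcH]; positivity)
  have h2 : IsPGroup 2 (Hs h.σσ) := IsPGroup.of_card (n := n * 3) (by rw [hcH, pow_mul])
  have hodd : Odd (2 ^ n + 1) := (Nat.even_pow.2 ⟨even_two, hn⟩).add_one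
  have hg : Odd (Nat.gcd 3 (2 ^ n + 1)) := Odd.of_dvd_nat hodd (Nat.gcd_dvd_right _ _)
  let χ : Hs h.σσ →* PSU 3 F (2 ^ n) :=
    (QuotientGroup.mk' _).comp ((suEquiv h 3).symm.toMonoidHom.comp ψ)
  have hχ : Function.Injective χ := by
    rw [injective_iff_map_eq_one]
    intro p hp
    have h1 : (suEquiv h 3).symm (ψ p) ∈ center (SU 3 F (2 ^ n)) := (QuotientGroup.eq_one_iff _).1 hp
    have h3 := orderOf_dvd_natCard (⟨_, h1⟩ : center (SU 3 F (2 ^ n)))
    rw [card_center_SU h (by norm_num), orderOf_mk, MulEquiv.orderOf_eq, orderOf_injective _ hψ] at h3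
    obtain ⟨k, hk⟩ := IsPGroup.iff_orderOf.1 h2 p
    rw [← orderOf_eq_one_iff]
    rcases k with _ | k
    · simpa using hk
    · exact absurd (Odd.of_dvd_nat hg h3) (by rw [hk, pow_succ]; simp)
  have hcard := card_PSU h (n := 3) (by norm_num)
  have hpos : 1 ≤ 2 ^ n := Nat.one_le_two_pow
  have hgu : ∃ A, Odd A ∧ guCard (2 ^ n) 3 = 2 ^ (n * 3) * A := by
    refine ⟨_, ?_, by rw [guCard, pow_mul]⟩
    have he : ∀ i, Even ((2 ^ n) ^ (i + 1)) := fun i =>
      Nat.even_pow.2 ⟨Nat.even_pow.2 ⟨even_two, hn⟩, by omega⟩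
    refine Finset.prod_induction _ Odd (fun _ _ => Odd.mul) odd_one fun i _ => ?_
    unfold uFac
    split_ifs
    · exact (he i).add_one
    · exact Nat.Even.sub_odd (Nat.one_le_pow _ _ hpos) (he i) odd_one
  obtain ⟨A, hA, hgu⟩ := hgu
  rw [hgu, ← mul_assoc] at hcard
  obtain ⟨m, hm⟩ : 2 ^ (n * 3) ∣ Nat.card (PSU 3 F (2 ^ n)) :=
    (Nat.Coprime.pow_left _ (Nat.coprime_two_left.2 (hg.mul hodd))).dvd_of_dvd_mul_left ⟨A, hcard⟩
  have hm2 : ¬ 2 ∣ m := by
    rw [hm, mul_left_comm] at hcard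
    have := Nat.eq_of_mul_eq_mul_left (by positivity) hcard
    exact (Odd.of_dvd_nat hA ⟨_, by rw [← this, mul_comm]⟩).not_two_dvd_nat
  have : Finite (PSU 3 F (2 ^ n)) := Nat.finite_of_card_ne_zero (by
    rw [hm]; exact mul_ne_zero (by positivity) (by rintro rfl; simp at hm2))
  obtain ⟨Q, hQ⟩ := (h2.of_equiv (MonoidHom.ofInjective hχ)).exists_le_sylow
  have h4 : χ.range = Q := eq_of_le_of_card_ge hQ (by
    rw [card_sylow_of_card Q hm hm2, ← Nat.card_congr (MonoidHom.ofInjective hχ).toEquiv, hcH, pow_mul])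
  exact ⟨(Sylow.equiv S Q).trans
    ((MonoidHom.ofInjective hχ).trans (MulEquiv.subgroupCongr h4)).symm⟩

theorem charP_two [Fintype F] {n : ℕ} (h : Fintype.card F = 2 ^ n) : CharP F 2 :=
  charP_of_card_eq_prime_pow h

theorem s1141 {F : Type*} [Field F] [Fintype F] {n : ℕ} (hn : 2 ≤ n)
    (hF : Fintype.card F = (2 ^ n) ^ 2) (S : Sylow 2 (Cfsg.PSU 3 F (2 ^ n))) :
    Nat.card S = (2 ^ n) ^ 3 ∧ Nat.card (Subgroup.center ↥(S : Subgroup (Cfsg.PSU 3 F (2 ^ n)))) = 2 ^ n ∧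
      Cfsg.IsSuzukiTwoGroup ↥(S : Subgroup (Cfsg.PSU 3 F (2 ^ n))) := by
  obtain ⟨σ, h⟩ := exists_UF hF
  have := charP_two (hF.trans (pow_mul 2 n 2).symm)
  obtain ⟨e⟩ := sylow_PSU3 h S
  exact ⟨(Nat.card_congr e.toEquiv).trans (Hs.card h), (card_center_congr e).trans (Hs.card_center h),
    suzuki_congr e (Hs.suzuki hn h)⟩

theorem s1248 {F : Type*} [Field F] [Fintype F] (hF : Fintype.card F = 16) (S : Sylow 2 (Cfsg.PSU 3 F 4)) : Nat.card S = 64 ∧ IsKleinFour (Subgroup.center (S : Subgroup (Cfsg.PSU 3 F 4))) ∧ Subgroup.center (S : Subgroup (Cfsg.PSU 3 F 4)) = Subgroup.closure {x : (S : Subgroup (Cfsg.PSU 3 F 4)) | orderOf x = 2} ∧ Subgroup.center (S : Subgroup (Cfsg.PSU 3 F 4)) = commutator (S : Subgroup (Cfsg.PSU 3 F 4)) ∧ Nat.card ((S : Subgroup (Cfsg.PSU 3 F 4)) ⧸ Subgroup.center (S : Subgroup (Cfsg.PSU 3 F 4))) = 16 ∧ ∀ x : (S : Subgroup (Cfsg.PSU 3 F 4)) ⧸ Subgroup.center (S : Subgroup (Cfsg.PSU 3 F 4)), x ^ 2 = 1 :=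 by
  obtain ⟨σ, h⟩ := exists_UF (q := 2 ^ 2) hF
  have := charP_two (n := 4) hF
  obtain ⟨e⟩ : Nonempty ((S : Subgroup (Cfsg.PSU 3 F 4)) ≃* Hs h.σσ) := sylow_PSU3 h S
  have h1 : Nat.card S = 64 := (Nat.card_congr e.toEquiv).trans (Hs.card h)
  have h2 : Nat.card (center (S : Subgroup (Cfsg.PSU 3 F 4))) = 4 :=
    (card_center_congr e).trans (Hs.card_center h)
  have h3 : ∀ x, x ∈ center (S : Subgroup (Cfsg.PSU 3 F 4)) ↔ x * x = 1 := fun x => by
    rw [← mem_center_congr e, Hs.mem_center h.ne_id, ← Hs.sq_eq_one, ← map_mul,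
      MulEquiv.map_eq_one_iff]
  have h4 : ∀ x, x * x ∈ center (S : Subgroup (Cfsg.PSU 3 F 4)) := fun x => by
    rw [← mem_center_congr e, Hs.mem_center h.ne_id, map_mul, Hs.sq_x]
  refine ⟨h1, kf_of_card h2 fun x hx => (h3 x).1 hx, le_antisymm (fun x hx => ?_) ?_,
    le_antisymm (fun x hx => ?_) ?_, ?_, fun x => ?_⟩
  · by_cases h0 : x = 1
    · exact h0 ▸ one_mem _
    · exact subset_closure (orderOf_eq_prime (by rw [sq]; exact (h3 x).1 hx) h0)
  · rw [closure_le]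
    intro x hx
    have : x ^ 2 = 1 := orderOf_dvd_iff_pow_eq_one.1 (dvd_of_eq hx)
    exact (h3 x).2 (by rw [← sq, this])
  · obtain ⟨r, s, hrs⟩ := Hs.exists_comm h.ne_id
      ((Hs.mem_center h.ne_id).1 ((mem_center_congr e).2 hx))
    have : x = ⁅e.symm r, e.symm s⁆ := by
      rw [← map_commutatorElement, ← hrs, MulEquiv.symm_apply_apply]
    exact this ▸ commutator_mem_commutator (mem_top _) (mem_top _)
  · exact commutator_le.2 fun a _ b _ => comm_mem_of_sq (h4 _) (h4 _) (h4 _)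
  · have := card_center_mul_card_quot (S : Subgroup (Cfsg.PSU 3 F 4))
    rw [h2, h1] at this
    omega
  · obtain ⟨x, rfl⟩ := QuotientGroup.mk_surjective x
    rw [sq, ← QuotientGroup.mk_mul, QuotientGroup.eq_one_iff]
    exact h4 x

section Uniq
variable [Finite F] [CharP F 2]

theorem pow_four (hF : Nat.card F = 4) (x : F) : x ^ 4 = x := by
  have := Fintype.ofFinite F
  rw [← hF, Nat.card_eq_fintype_card, FiniteField.pow_card]

theorem aut4 (hF : Nat.card F = 4) (α : F ≃+* F) : (∀ x, α x = x) ∨ ∀ x, α x = x ^ 2 := by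
  obtain ⟨k, rfl⟩ := aut_eq_pow 2 α
  induction k with
  | zero => exact .inl fun x => rfl
  | succ k ih =>
    rcases ih with h | h
    · exact .inr fun x => by rw [pow_succ, RingAut.mul_apply, h]; rfl
    · refine .inl fun x => ?_
      rw [pow_succ, RingAut.mul_apply, h, frobeniusEquiv_apply, frobenius_def, ← pow_mul]
      exact pow_four hF x

theorem cube4 (hF : Nat.card F = 4) {x : F} (hx : x ≠ 0) : x ^ 3 = 1 :=
  mul_left_cancel₀ hx (by rw [← pow_succ', pow_four hF, mul_one])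

theorem omega4 (hF : Nat.card F = 4) {x : F} (hx : x ≠ 0) (h1 : x ≠ 1) : x ^ 2 + x + 1 = 0 :=
  (mul_eq_zero.1 (show (x - 1) * (x ^ 2 + x + 1) = 0 by
    linear_combination cube4 hF hx)).resolve_left (sub_ne_zero.2 h1)

variable {P : Type*} [Group P] [Finite P] {ξ : MulAut P} {Z : Subgroup P} {f : P → F} {l : F}

theorem sq_form4 (S : SuzD ξ Z f l) (hF : Nat.card F = 4) {X : Subgroup P} {g : P → F} {μ : F}
    (hX : Sec ξ X Z g (μ * ·)) (hμ : Prim μ) (h1 : ∀ x ∈ X, x * x ∈ Z) :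
    ∃ (e : F ≃+ F) (ν : F), ν ^ 2 = l ∧ (∀ w, e (μ * w) = ν * e w) ∧
      ∀ x ∈ X, f (x * x) = e (g x) ^ 2 := by
  obtain ⟨c, α, β, c0, e1, e2⟩ := S.sq_form hX hμ h1
  have hl := S.prim.ne_one S.big
  have hc := cube4 hF (hμ.ne_zero S.big)
  have hαβ : ∀ x, β x = α x := by
    rcases aut4 hF α with h | h <;> rcases aut4 hF β with h' | h'
    · intro x; rw [h, h']
    · exact absurd (by rw [e1, h, h']; linear_combination hc) hl
    · exact absurd (by rw [e1, h, h']; linear_combination hc) hl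
    · intro x; rw [h, h']
  obtain ⟨s, hs⟩ : ∃ s : F, s ^ 2 = c := (frobeniusEquiv F 2).surjective _
  have s0 : s ≠ 0 := by rintro rfl; exact c0 (by rw [← hs]; ring)
  refine ⟨α.toAddEquiv.trans (AddAut.mulLeft (Units.mk0 s s0)), α μ, by rw [e1, hαβ, sq],
    fun w => ?_, fun x hx => ?_⟩
  · change s * α (μ * w) = α μ * (s * α w)
    rw [map_mul]; ring
  · change _ = (s * α (g x)) ^ 2
    rw [e2 x hx, hαβ, mul_pow, hs, sq]

theorem suz64_form (S : SuzD ξ Z f l) (hF : Nat.card F = 4) (hP : ¬ ∀ x y : P, x * y = y * x)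
    {ω : F} (hω : ω ^ 2 + ω + 1 = 0) :
    ∃ (g : P → F × F) (f' : P → F), Sec 1 ⊤ Z g id ∧ Sec 1 Z ⊥ f' id ∧
      ∀ x, f' (x * x) = (g x).1 ^ 2 + ω * ((g x).1 * (g x).2) + (g x).2 ^ 2 := by
  have h := S.sq_mem hP
  have hZ := S.Z_normal
  obtain ⟨C, g, μ, hC, rfl | ⟨g', μ', hC'⟩⟩ := S.layers h (S.ne_top hP)
  · obtain ⟨-, -, -, φ, -, -, -, -, h1, h2, -⟩ := S.typeA hP (by
      rw [← card_top, hC.sec.card, S.card_Z, sq])
    refine absurd (orderOf_eq_one_iff.1 ?_) h1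
    have : orderOf φ ∣ 2 := orderOf_dvd_of_pow_eq_one (RingEquiv.ext fun x => by
      rw [sq, RingAut.mul_apply]
      rcases aut4 hF φ with e | e
      · rw [e, e]; rfl
      · rw [e, e, ← pow_mul]; exact pow_four hF x)
    rcases (Nat.dvd_prime Nat.prime_two).1 this with e | e
    · exact e
    · rw [e] at h2; exact absurd h2 (by decide)
  obtain ⟨U, hU, hZU, -, hCU, hdec⟩ := S.toSuzA.compl hC.sec.le le_top ivt_top S.sec.ivt hC.sec.ivt
    (fun x _ y hy => hZ.conj_mem y hy x) fun x _ => h x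
  have sU : Sec ξ U Z g' (μ' * ·) :=
    ⟨fun x _ y _ => hC'.sec.add x trivial y trivial,
      fun x hx => (hC'.sec.ker x trivial).trans ⟨fun h => hCU x h hx, fun h => hC.sec.le h⟩,
      fun w => by
        obtain ⟨x, -, rfl⟩ := hC'.sec.surj w
        obtain ⟨b, hb, u, hu, rfl⟩ := hdec x trivial
        exact ⟨u, hu, by rw [hC'.sec.add b trivial u trivial, hC'.sec.of_mem hb, zero_add]⟩,
      fun x _ => hC'.sec.act x trivial, hZU, hU⟩
  obtain ⟨e₁, ν, n1, a1, q1⟩ := sq_form4 S hF hC.sec hC.prim fun x _ => h x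
  obtain ⟨e₂, ν', n2, a2, q2⟩ := sq_form4 S hF sU hC'.prim fun x _ => h x
  obtain rfl : ν = ν' := (frobenius F 2).injective (n1.trans n2.symm)
  have s1 := hC.sec.comp e₁ a1
  have s2 := sU.comp e₂ a2
  have s2' := hC'.sec.comp e₂ a2
  have cz : ∀ z ∈ Z, ∀ x, gx f 0 ⁅z, x⁆ = 0 := fun z hz x => by
    rw [commutatorElement_eq_one_iff_mul_comm.2 (S.cent z hz x)]; simp [gx, S.sec.one]
  have cz' : ∀ z ∈ Z, ∀ x, gx f 0 ⁅x, z⁆ = 0 := fun z hz x => by
    rw [commutatorElement_eq_one_iff_mul_comm.2 (S.cent z hz x).symm]; simp [gx, S.sec.one]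
  obtain ⟨B, hB, hB1, hB2⟩ := S.comm_form S.HA_Z s2 s1 (fun x _ z _ => S.comm_mem h x z)
    (fun x hx z _ => cz x hx z) fun x _ z hz => cz' z hz x
  have hl := S.prim.ne_one S.big
  have hl0 := S.prim.ne_zero S.big
  have hν : ν ≠ 0 := by rintro rfl; exact hl0 (by rw [← n1]; ring)
  have hν3 := cube4 hF hν
  have key : ∀ α β : F ≃+* F, α ν * β ν = l → α = 1 ∧ β = 1 := fun α β e => by
    rcases aut4 hF α with h | h <;> rcases aut4 hF β with h' | h'
    · exact ⟨RingEquiv.ext h, RingEquiv.ext h'⟩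
    · exact absurd (by rw [← e, h, h']; linear_combination hν3) hl
    · exact absurd (by rw [← e, h, h']; linear_combination hν3) hl
    · refine absurd ?_ hl
      rw [h, h', n1] at e
      exact mul_left_cancel₀ hl0 (e.trans (mul_one _).symm)
  obtain ⟨c, α, β, hc1, hc2⟩ := bil_mono hB hB1 fun α β γ δ e e' =>
    ⟨(key α β e).1.trans (key γ δ e').1.symm, (key α β e).2.trans (key γ δ e').2.symm⟩
  have hBc : ∀ x y, B x y = c * (x * y) := fun x y => by
    by_cases c0 : c = 0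
    · simp [hc1, c0]
    · obtain ⟨rfl, rfl⟩ := key α β (hc2 c0); exact hc1 x y
  choose b hb u hu hbu using fun x => hdec x trivial
  have hg1 : ∀ x ∈ C, ∀ y ∈ U, e₁ (g (b (x * y))) = e₁ (g x) := fun x hx y hy => by
    refine (s1.eq_iff (hb _) hx).2 (hCU _ (mul_mem (inv_mem (hb _)) hx) ?_)
    have : (b (x * y))⁻¹ * x = u (x * y) * y⁻¹ := by
      rw [inv_mul_eq_iff_eq_mul, ← mul_assoc, ← hbu, mul_inv_cancel_right]
    exact this ▸ mul_mem (hu _) (inv_mem hy)
  have hg2 : ∀ x ∈ C, ∀ y, e₂ (g' (x * y)) = e₂ (g' y) := fun x hx y => by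
    rw [s2'.add x trivial y trivial, s2'.of_mem hx, zero_add]
  let γ : P → F × F := fun x => (e₁ (g (b x)), e₂ (g' x))
  have hγ : ∀ x ∈ C, ∀ y ∈ U, γ (x * y) = (e₁ (g x), e₂ (g' y)) := fun x hx y hy =>
    Prod.ext (hg1 x hx y hy) (hg2 x hx y)
  have sγ : Sec 1 ⊤ Z γ id := by
    refine ⟨fun x _ y _ => Prod.ext ?_ (s2'.add x trivial y trivial), fun x _ => ?_, fun w => ?_,
      fun _ _ => rfl, le_top, ivt_top⟩
    · have e : x * y = (b x * (⁅u x, b y⁆ * b y)) * (u x * u y) := by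
        conv_lhs => rw [hbu x, hbu y]
        rw [commutatorElement_def]; group
      have hz := S.comm_mem h (u x) (b y)
      change e₁ (g (b (x * y))) = e₁ (g (b x)) + e₁ (g (b y))
      rw [e, hg1 _ (mul_mem (hb x) (mul_mem (hC.sec.le hz) (hb y))) _ (mul_mem (hu x) (hu y)),
        s1.add _ (hb x) _ (mul_mem (hC.sec.le hz) (hb y)), s1.add _ (hC.sec.le hz) _ (hb y),
        s1.of_mem hz, zero_add]
    · rw [hbu x, hγ _ (hb x) _ (hu x), Prod.mk_eq_zero, s1.ker _ (hb x), s2.ker _ (hu x)]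
      refine ⟨fun h => mul_mem h.1 h.2, fun h => ?_⟩
      have h1 : u x ∈ Z := hCU _ ((mul_mem_cancel_left (hb x)).1 (hC.sec.le h)) (hu x)
      exact ⟨(mul_mem_cancel_right h1).1 h, h1⟩
    · obtain ⟨x, hx, ex⟩ := s1.surj w.1
      obtain ⟨y, hy, ey⟩ := s2.surj w.2
      exact ⟨x * y, trivial, (hγ x hx y hy).trans (Prod.ext ex ey)⟩
  have hq : ∀ x, f (x * x) = (γ x).1 ^ 2 + c * ((γ x).1 * (γ x).2) + (γ x).2 ^ 2 := fun x => by
    have := hB2 _ (hu x) _ (hb x)
    simp only [gx, pow_zero, pow_one] at this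
    rw [hbu x, hγ _ (hb x) _ (hu x), S.f_sq h, q1 _ (hb x), q2 _ (hu x), this, hBc]
    ring
  have an : ∀ w : F × F, w.1 ^ 2 + c * (w.1 * w.2) + w.2 ^ 2 = 0 → w = 0 := fun w hw => by
    obtain ⟨x, -, rfl⟩ := sγ.surj w
    rw [← hq, S.sec.ker _ (h x), mem_bot] at hw
    exact sγ.of_mem ((S.mem x).2 hw)
  have c0 : c ≠ 0 := by
    rintro rfl
    exact one_ne_zero (congrArg Prod.fst (an (1, 1) (by simp [CharTwo.add_self_eq_zero])))
  have c1 : c ≠ 1 := by
    rintro rfl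
    exact one_ne_zero (congrArg Prod.snd (an (ω, 1) (by simp only; linear_combination hω)))
  have hc := omega4 hF c0 c1
  have t2 := CharTwo.two_eq_zero (R := F)
  rcases mul_eq_zero.1 (show (c - ω) * (c ^ 2 - ω) = 0 by
    linear_combination (c - 1 - ω) * hc + hω) with e | e
  · exact ⟨γ, f, sγ, S.sec.triv, sub_eq_zero.1 e ▸ hq⟩
  · let φ := (frobeniusEquiv F 2).toAddEquiv
    refine ⟨fun x => (φ.prodCongr φ) (γ x), fun x => φ (f x), sγ.comp _ fun _ => rfl,
      S.sec.triv.comp φ fun _ => rfl, fun x => ?_⟩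
    change f (x * x) ^ 2 = ((γ x).1 ^ 2) ^ 2 + ω * ((γ x).1 ^ 2 * (γ x).2 ^ 2) + ((γ x).2 ^ 2) ^ 2
    rw [hq, ← sub_eq_zero.1 e, CharTwo.add_sq, CharTwo.add_sq]
    ring

end Uniq

/-- There is a unique Suzuki 2-group with centre of order 4. -/
theorem suz64_iso {P Q : Type*} [Group P] [Group Q] (hP : IsSuzukiTwoGroup P)
    (hQ : IsSuzukiTwoGroup Q) (cP : Nat.card (center P) = 4) (cQ : Nat.card (center Q) = 4) :
    Nonempty (P ≃* Q) := by
  have := hP.1
  have := hQ.1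
  have nP : ¬ ∀ x y : P, x * y = y * x := fun h => let ⟨x, y, e⟩ := hP.2.2.1; e (h x y)
  have nQ : ¬ ∀ x y : Q, x * y = y * x := fun h => let ⟨x, y, e⟩ := hQ.2.2.1; e (h x y)
  obtain ⟨ξ, n, Z, f, l, hn, S⟩ := suzD_of_suzuki hP
  obtain ⟨η, m, Z', f', l', hm, S'⟩ := suzD_of_suzuki hQ
  have h1 : Nat.card (GaloisField 2 n) = 4 := by rw [← S.card_Z, ← S.center_eq nP, cP]
  have h2 : Nat.card (GaloisField 2 m) = 4 := by rw [← S'.card_Z, ← S'.center_eq nQ, cQ]
  obtain rfl : n = m := Nat.pow_right_injective le_rfl (show 2 ^ n = 2 ^ m by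
    rw [← GaloisField.card 2 n hn, ← GaloisField.card 2 m hm, h1, h2])
  have hω := omega4 h1 (S.prim.ne_zero S.big) (S.prim.ne_one S.big)
  obtain ⟨g, k, s1, s2, hq⟩ := suz64_form S h1 nP hω
  obtain ⟨g', k', s1', s2', hq'⟩ := suz64_form S' h1 nQ hω
  obtain ⟨e, -⟩ := iso_of_quad (m := 1) (pow_one _) (pow_one _) odd_one s1 s1' s2 s2' S.cent S'.cent
    (S.sq_mem nP) (S'.sq_mem nQ) fun x y e => by rw [hq, hq', e]
  exact ⟨e⟩

end Cfsg.Agent.Dih
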