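import Cfsg.Agent.Dih.Misc
import Cfsg.Agent.Dih.U3

/-! Sylow 2-subgroups of groups of 2-rank 2. -/

set_option autoImplicit false
set_option linter.unusedVariables false
set_option linter.unusedSectionVars false

namespace Cfsg.Agent.Dih

open Cfsg.Agent.PLoc Cfsg.Agent.Inv Subgroup
open scoped commutatorElement

universe u

variable {G : Type*} [Group G]

theorem homocyclic_equiv [Finite G] {x y : G} {m : ℕ} (hx' : orderOf x = m) (hy' : orderOf y = m)
    (hxy : Commute x y) (hd : zpowers x ⊓ zpowers y = ⊥) :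
    Nonempty ((zpowers x ⊔ zpowers y : Subgroup G) ≃* Multiplicative (ZMod m × ZMod m)) := by
  have hx : x ^ m = 1 := hx' ▸ pow_orderOf_eq_one x
  have hy : y ^ m = 1 := hy' ▸ pow_orderOf_eq_one y
  have hc : ∀ a b : ZMod m, zpw x a * zpw y b = zpw y b * zpw x a := fun a b =>
    (hxy.zpow_zpow _ _).eq
  let φ : Multiplicative (ZMod m × ZMod m) →* G := MonoidHom.mk'
    (fun p => zpw x p.toAdd.1 * zpw y p.toAdd.2) (fun p q => by
      simp only [toAdd_mul, Prod.fst_add, Prod.snd_add, zpw_add hx, zpw_add hy]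
      rw [mul_assoc, mul_assoc, ← mul_assoc (zpw x q.toAdd.1), hc, mul_assoc])
  have h1 : Function.Injective φ := by
    rw [injective_iff_map_eq_one]
    intro p hp
    have e : zpw x p.toAdd.1 = (zpw y p.toAdd.2)⁻¹ := eq_inv_of_mul_eq_one_left hp
    have h2 : zpw x p.toAdd.1 ∈ zpowers x ⊓ zpowers y :=
      ⟨zpw_mem _ _, e ▸ (zpowers y).inv_mem (zpw_mem _ _)⟩
    rw [hd, mem_bot] at h2
    rw [h2, eq_comm, inv_eq_one] at e
    exact Multiplicative.toAdd.injective (Prod.ext (zpw_eq_one hx' _ h2) (zpw_eq_one hy' _ e))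
  have h2 : φ.range = zpowers x ⊔ zpowers y := by
    refine le_antisymm ?_ fun g hg => ?_
    · rintro _ ⟨p, rfl⟩
      exact mul_mem_sup (zpw_mem _ _) (zpw_mem _ _)
    · obtain ⟨a, b, rfl⟩ := (mem_sup_wu hxy).1 hg
      exact ⟨Multiplicative.ofAdd ((a : ZMod m), (b : ZMod m)), by
        simp [φ, zpw_intCast hx, zpw_intCast hy, wu]⟩
  exact ⟨((MonoidHom.ofInjective h1).trans (MulEquiv.subgroupCongr h2)).symm⟩

theorem card_pow_ker_le {A : Type*} [CommGroup A] [Finite A] {p : ℕ} (n : ℕ) :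
    Nat.card (powMonoidHom (α := A) (p ^ n)).ker ≤ Nat.card (powMonoidHom (α := A) p).ker ^ n := by
  induction n with
  | zero =>
    have : (powMonoidHom (α := A) (p ^ 0)).ker = ⊥ := by ext; simp
    simp [this]
  | succ n ih =>
    rw [← card_map_mul_card_ker_inf (powMonoidHom p), pow_succ]
    refine Nat.mul_le_mul (le_trans (card_le_of_le ?_) ih) (card_le_of_le inf_le_left)
    rintro _ ⟨x, hx, rfl⟩
    simpa [← pow_mul, pow_succ', mul_comm] using hx

theorem isCyclic_of_card_ker {A : Type*} [CommGroup A] [Finite A] {p : ℕ} [hp : Fact p.Prime]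
    (hA : IsPGroup p A) (h : Nat.card (powMonoidHom (α := A) p).ker ≤ p) : IsCyclic A := by
  obtain ⟨x, hx⟩ := Finite.exists_max (fun x : A => orderOf x)
  obtain ⟨k, hk⟩ := IsPGroup.iff_orderOf.1 hA x
  have h1 : (powMonoidHom (α := A) (p ^ k)).ker = ⊤ := by
    rw [eq_top_iff']
    intro y
    obtain ⟨j, hj⟩ := IsPGroup.iff_orderOf.1 hA y
    have := hx y
    rw [hj, hk, Nat.pow_le_pow_iff_right hp.out.one_lt] at this
    exact orderOf_dvd_iff_pow_eq_one.1 (hj ▸ pow_dvd_pow p this)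
  have h2 := card_pow_ker_le (A := A) (p := p) k
  rw [h1, card_top] at h2
  exact isCyclic_of_orderOf_eq_card x (le_antisymm orderOf_le_card
    (hk ▸ h2.trans (Nat.pow_le_pow_left h k)))

theorem inf_zpowers_eq_bot [Finite G] {x y : G} {n : ℕ} (hx : orderOf x = 2 ^ (n + 1))
    (hy : orderOf y = 2 ^ (n + 1)) (h : x ^ 2 ^ n ≠ y ^ 2 ^ n) : zpowers x ⊓ zpowers y = ⊥ := by
  have o2 : ∀ {x : G}, orderOf x = 2 ^ (n + 1) → orderOf (x ^ 2 ^ n) = 2 := fun {x} hx => by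
    rw [orderOf_pow_of_dvd (by positivity) (hx ▸ pow_dvd_pow 2 (by omega)), hx, pow_succ,
      Nat.mul_div_cancel_left _ (by positivity)]
  by_contra hne
  have hp : IsPGroup 2 (zpowers x ⊓ zpowers y : Subgroup G) :=
    (isPGroup_zpowers (k := n + 1) (hx ▸ pow_orderOf_eq_one x)).to_inf_left
  obtain ⟨k, hk⟩ := hp.exists_card_eq
  obtain ⟨t, ht, ho⟩ := exists_mem_orderOf_eq_prime (H := zpowers x ⊓ zpowers y) Nat.prime_two (by
    rw [hk]
    exact dvd_pow_self 2 (by rintro rfl; exact hne (card_eq_one.1 hk)))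
  exact h ((invol_eq_of_isCyclic inferInstance (npow_mem_zpowers x _) ht.1 (o2 hx) ho).trans
    (invol_eq_of_isCyclic inferInstance ht.2 (npow_mem_zpowers y _) ho (o2 hy)))

/-- abelian case: generators of a homocyclic group -/
theorem homocyclic_of_comm [Finite G] (hT : IsPGroup 2 G) (hc : ∀ x y : G, x * y = y * x)
    {V : Subgroup G} (hV : IsKleinFour V) (hmem : ∀ x : G, x * x = 1 → x ∈ V) :
    ∃ (n : ℕ) (x : G), orderOf x = 2 ^ (n + 1) ∧ ∀ x y : G, orderOf x = 2 ^ (n + 1) →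
      orderOf y = 2 ^ (n + 1) → x ^ 2 ^ n ≠ y ^ 2 ^ n → zpowers x ⊔ zpowers y = ⊤ := by
  obtain ⟨x, hx⟩ := Finite.exists_max (fun x : G => orderOf x)
  obtain ⟨k, hk⟩ := IsPGroup.iff_orderOf.1 hT x
  obtain ⟨n, rfl⟩ : ∃ n, k = n + 1 := by
    obtain ⟨b, hb, hb1, -⟩ := kf_exists_ne hV 1
    have := hx b
    rw [kf_ord hV hb hb1, hk] at this
    rcases k with _ | k
    · omega
    · exact ⟨k, rfl⟩
  refine ⟨n, x, hk, fun a b ha hb hab => eq_top_of_card_eq _ (le_antisymm (card_le_card_group _) ?_)⟩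
  let _ : CommGroup G := { (inferInstance : Group G) with mul_comm := hc }
  have h1 : (powMonoidHom (α := G) (2 ^ (n + 1))).ker = ⊤ := by
    rw [eq_top_iff']
    intro y
    obtain ⟨j, hj⟩ := IsPGroup.iff_orderOf.1 hT y
    have := hx y
    rw [hj, hk, Nat.pow_le_pow_iff_right (by norm_num)] at this
    exact orderOf_dvd_iff_pow_eq_one.1 (hj ▸ pow_dvd_pow 2 this)
  have h2 := card_pow_ker_le (A := G) (p := 2) (n + 1)
  have h3 : Nat.card (powMonoidHom (α := G) 2).ker ≤ 4 := by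
    rw [← kf_card hV]
    exact card_le_of_le fun y hy => hmem y (by simpa [sq] using hy)
  rw [h1, card_top] at h2
  rw [card_sup_of_disjoint le_normalizer_of_normal (inf_zpowers_eq_bot ha hb hab), Nat.card_zpowers,
    Nat.card_zpowers, ha, hb, ← mul_pow]
  exact h2.trans (Nat.pow_le_pow_left h3 _)

theorem dvd_card_sub_one {W : Type*} [AddCommGroup W] [Finite W] {T : AddMonoid.End W} {m : ℕ}
    (hm0 : m ≠ 0) (hm : T ^ m = 1) (free : ∀ (i : ℕ) (w : W), (T ^ i) w = w → w = 0 ∨ m ∣ i) :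
    m ∣ Nat.card W - 1 := by
  classical
  have : NeZero m := ⟨hm0⟩
  have per : ∀ i w, (T ^ (i % m)) w = (T ^ i) w := fun i w => by
    conv_rhs => rw [← Nat.mod_add_div i m, pow_add, pow_mul, hm, one_pow, mul_one]
  have ne : ∀ (i : ℕ) (w : W), w ≠ 0 → (T ^ i) w ≠ 0 := fun i w hw e => hw (by
    have : (T ^ (i * (m - 1))) ((T ^ i) w) = w := by
      change (T ^ (i * (m - 1)) * T ^ i) w = w
      rw [← pow_add, show i * (m - 1) + i = m * i by
        obtain ⟨k, rfl⟩ := Nat.exists_eq_succ_of_ne_zero hm0; simp; ring, pow_mul, hm, one_pow]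
      rfl
    rw [← this, e, map_zero])
  let _ : MulAction (Multiplicative (ZMod m)) {w : W // w ≠ 0} :=
    { smul := fun i w => ⟨(T ^ i.toAdd.val) w, ne _ _ w.2⟩
      one_smul := fun w => Subtype.ext (by
        change (T ^ (0 : ZMod m).val) w = w
        simp)
      mul_smul := fun i j w => Subtype.ext (by
        change (T ^ (i.toAdd + j.toAdd).val) w = (T ^ i.toAdd.val) ((T ^ j.toAdd.val) w)
        rw [ZMod.val_add, per, pow_add]; rfl) }
  have e := MulAction.selfEquivOrbitsQuotientProd (G := Multiplicative (ZMod m))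
    (X := {w : W // w ≠ 0}) fun w => by
      rw [eq_bot_iff]
      intro i hi
      obtain h | h := free _ _ (congrArg Subtype.val (MulAction.mem_stabilizer_iff.1 hi))
      · exact absurd h w.2
      · exact mem_bot.2 (Multiplicative.toAdd.injective ((ZMod.val_eq_zero _).1
          (Nat.eq_zero_of_dvd_of_lt h (ZMod.val_lt _))))
  have h1 := Nat.card_congr e
  have h2 : Nat.card {w : W // w ≠ 0} = Nat.card W - 1 := by
    have := Fintype.ofFinite W
    simp [Nat.card_eq_fintype_card]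
  rw [← h2, h1, Nat.card_prod, Nat.card_congr (Multiplicative.toAdd (α := ZMod m)), Nat.card_zmod]
  exact dvd_mul_left _ _

theorem frat_sq_le [Finite G] (hT : IsPGroup 2 G) {E : Subgroup G}
    (h : ∀ a ∈ E, a ∈ closure {y | ∃ x ∈ E, y = x * x}) : ∀ x ∈ E, x = 1 := by
  obtain ⟨k, hk⟩ := (hT.to_subgroup E).exists_card_eq
  rcases k with _ | k
  · rw [card_eq_one.1 hk]; exact fun x hx => hx
  obtain ⟨M, hM⟩ := Sylow.exists_subgroup_card_pow_prime (G := E) 2 (n := k)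
    (hk ▸ pow_dvd_pow 2 (by omega))
  have hi : M.index = 2 := index_eq_two_of_card (by rw [hk, hM, pow_succ'])
  have h1 : closure {y | ∃ x ∈ E, y = x * x} ≤ M.map E.subtype := (closure_le _).2 (by
    rintro _ ⟨x, hx, rfl⟩
    exact ⟨_, Inv.sq_mem_of_index_two hi ⟨x, hx⟩, rfl⟩)
  have h2 := card_le_of_le (show E ≤ M.map E.subtype from fun a ha => h1 (h a ha))
  rw [card_subtype, hM, hk, Nat.pow_le_pow_iff_right (by norm_num)] at h2
  omega

theorem exists_kf_coord {V : Subgroup G} (hV : IsKleinFour V) (ξ : MulAut G) :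
    ∃ f : G → GaloisField 2 2, Sec 1 V ⊥ f id := by
  classical
  have : IsAddKleinFour (GaloisField 2 2) :=
    ⟨GaloisField.card 2 2 (by norm_num), (AddMonoid.exponent_eq_prime_iff Nat.prime_two).2
      fun x hx => addOrderOf_eq_prime (by rw [two_nsmul, CharTwo.add_self_eq_zero]) hx⟩
  obtain ⟨e⟩ := IsKleinFour.nonempty_mulEquiv (G₁ := V) (G₂ := Multiplicative (GaloisField 2 2))
  refine ⟨fun x => if h : x ∈ V then (e ⟨x, h⟩).toAdd else 0, fun x hx y hy => ?_, fun x hx => ?_,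
    fun w => ⟨_, (e.symm (.ofAdd w)).2, by simp⟩, fun _ _ => rfl, bot_le, fun _ h => h⟩
  · simp only [hx, hy, mul_mem hx hy, dif_pos, ← toAdd_mul, ← map_mul]; rfl
  · simp [hx]

/-- a 3-element of order at least 9 cannot have its element of order 3 centralise `Ω₁` -/
theorem faithful_on_kf [Finite G] (hT : IsPGroup 2 G) {V : Subgroup G} (hV : IsKleinFour V)
    (hmem : ∀ x : G, x * x = 1 → x ∈ V) (hZ : ∀ v ∈ V, ∀ x, v * x = x * v) {α : MulAut G} {a : ℕ}
    (hα : α ^ 3 ^ (a + 2) = 1) (hγ : ∀ v ∈ V, (α ^ 3 ^ (a + 1)) v = v) : α ^ 3 ^ (a + 1) = 1 := by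
  set γ := α ^ 3 ^ (a + 1) with hγdef
  have γ3 : ∀ x, γ (γ (γ x)) = x := fun x => by
    rw [← MulAut.mul_apply, ← MulAut.mul_apply, hγdef, ← pow_add, ← pow_add,
      show 3 ^ (a + 1) + 3 ^ (a + 1) + 3 ^ (a + 1) = 3 ^ (a + 2) by ring, hα]; rfl
  have γα : ∀ x, γ (α x) = α (γ x) := fun x => by
    rw [← MulAut.mul_apply, ← MulAut.mul_apply, hγdef, ← pow_succ, ← pow_succ']
  by_contra hne
  obtain ⟨E, ⟨hE, x₀, hx₀, hx₀'⟩, hmin⟩ := exists_minimal_of_wellFoundedLT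
    (fun E : Subgroup G => Ivt α E ∧ ∃ x ∈ E, γ x ≠ x) ⟨⊤, ivt_top, by
      by_contra h
      push Not at h
      exact hne (MulEquiv.ext fun x => h x trivial)⟩
  have small : ∀ D ≤ E, Ivt α D → ¬ E ≤ D → ∀ x ∈ D, γ x = x := fun D h1 h2 h3 => by
    by_contra h
    push Not at h
    exact h3 (hmin ⟨h2, h⟩ h1)
  have hγE : Ivt γ E := hE.pow _
  have ivc : ∀ {s : Set G}, (∀ x ∈ s, α x ∈ s) → Ivt α (closure s) := fun {s} h =>
    ivt_iff.2 (by
      rw [MonoidHom.map_closure]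
      exact closure_mono (by rintro _ ⟨x, hx, rfl⟩; exact h x hx))
  -- `E` is generated by the `x⁻¹ γ x`
  have hD : E ≤ closure {d | ∃ x ∈ E, d = x⁻¹ * γ x} := by
    by_contra h
    have h1 := small _ ((closure_le _).2 (by
      rintro _ ⟨x, hx, rfl⟩; exact mul_mem (inv_mem hx) (hγE x hx)))
      (ivc (by rintro _ ⟨x, hx, rfl⟩; exact ⟨α x, hE x hx, by simp [γα]⟩)) h _
      (subset_closure ⟨x₀, hx₀, rfl⟩)
    set d := x₀⁻¹ * γ x₀ with hd
    have h2 : γ x₀ = x₀ * d := by simp [hd]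
    have h3 := γ3 x₀
    rw [h2, map_mul, h2, h1, map_mul, map_mul, h2, h1, mul_assoc, mul_assoc, mul_eq_left] at h3
    have h4 : d = 1 := eq_one_of_isPGroup_of_coprime (isPGroup_top_iff.2 hT) (mem_top d)
      (Nat.Coprime.coprime_dvd_left (orderOf_dvd_of_pow_eq_one (n := 3) (by
        rw [pow_succ', sq, h3])) (by norm_num))
    exact hx₀' (by rw [h2, h4, mul_one])
  -- the subgroup generated by squares
  set Y := closure {y | ∃ x ∈ E, y = x * x} with hY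
  have hYE : Y ≤ E := (closure_le _).2 (by rintro _ ⟨x, hx, rfl⟩; exact mul_mem hx hx)
  have hsq : ∀ x ∈ E, x * x ∈ Y := fun x hx => subset_closure ⟨x, hx, rfl⟩
  have hYfix : ∀ y ∈ Y, γ y = y := by
    refine small Y hYE (ivc (by rintro _ ⟨x, hx, rfl⟩; exact ⟨α x, hE x hx, by simp⟩)) fun h => ?_
    have := frat_sq_le hT (E := E) (fun a ha => h ha)
    exact hx₀' (by rw [this x₀ hx₀, map_one])
  have hYn : ∀ x ∈ E, ∀ y ∈ Y, x * y * x⁻¹ ∈ Y := fun x hx y hy => by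
    induction hy using closure_induction with
    | mem y h => obtain ⟨w, hw, rfl⟩ := h
                 have := hsq _ (mul_mem (mul_mem hx hw) (inv_mem hx))
                 convert this using 1; group
    | one => simp
    | mul a b _ _ ha hb => convert mul_mem ha hb using 1; group
    | inv a _ ha => convert inv_mem ha using 1; group
  have hYc : ∀ y ∈ Y, ∀ x ∈ E, x * y = y * x := fun y hy x hx => by
    refine mem_centralizer_singleton_iff.1 ((closure_le (centralizer {y})).2 ?_ (hD hx))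
    rintro _ ⟨x, hx, rfl⟩
    have := hYfix _ (hYn x hx y hy)
    rw [map_mul, map_mul, hYfix y hy, map_inv] at this
    refine mem_centralizer_singleton_iff.2 ?_
    calc x⁻¹ * γ x * y = x⁻¹ * (γ x * y * (γ x)⁻¹) * γ x := by group
      _ = _ := by rw [this]; group
  have hcm : ∀ x ∈ E, ∀ y ∈ E, ⁅x, y⁆ ∈ V := fun x hx y hy => by
    have h1 : ⁅x, y⁆ ∈ Y := commutator_mem_of_sq hsq hx hy
    refine hmem _ ?_
    have h2 := comm_mul_l x x y
    rw [commutatorElement_eq_one_iff_mul_comm.2 (hYc _ (hsq x hx) y hy).symm, hYc _ h1 x hx,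
      mul_inv_cancel_right] at h2
    exact h2.symm
  have hsqm : ∀ x ∈ E, ∀ y ∈ E, x * y * (x * y) = x * x * (y * y) * ⁅y, x⁆ := fun x hx y hy => by
    calc x * y * (x * y) = x * (⁅y, x⁆ * (x * (y * y))) := by rw [commutatorElement_def]; group
      _ = _ := by rw [hZ _ (hcm y hy x hx)]; group
  have hsqV : ∀ x ∈ E, x * x ∈ V := fun x hx => by
    have : x ∈ E ∧ x * x ∈ V := by
      refine closure_induction (p := fun x _ => x ∈ E ∧ x * x ∈ V) ?_ (by simp) ?_ ?_ (hD hx)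
      · rintro _ ⟨x, hx, rfl⟩
        refine ⟨mul_mem (inv_mem hx) (hγE x hx), ?_⟩
        rw [hsqm _ (inv_mem hx) _ (hγE x hx), ← map_mul, hYfix _ (hsq x hx), ← mul_inv_rev,
          inv_mul_cancel, one_mul]
        exact hcm _ (hγE x hx) _ (inv_mem hx)
      · intro a b _ _ ha hb
        refine ⟨mul_mem ha.1 hb.1, ?_⟩
        rw [hsqm _ ha.1 _ hb.1]
        exact mul_mem (mul_mem ha.2 hb.2) (hcm _ hb.1 _ ha.1)
      · intro a _ ha
        exact ⟨inv_mem ha.1, by rw [← mul_inv_rev]; exact inv_mem ha.2⟩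
    exact this.2
  have hVα : Ivt α V := fun v hv => hmem _ (by rw [← map_mul, kf_sq hV hv, map_one])
  obtain ⟨W, _, _, π, T, hs, h2⟩ := exists_sec (ξ := α) (X := E) (Y := E ⊓ V) inf_le_left hE
    (hE.inf hVα) (fun x hx y hy => by rw [← hZ y hy.2, mul_inv_cancel_right]; exact hy)
    fun x hx => ⟨mul_mem hx hx, hsqV x hx⟩
  obtain ⟨f, hf⟩ := exists_kf_coord hV α
  obtain ⟨q, hq⟩ := hs.descend (Q := fun x => f (x * x)) fun x hx y hy => by
    rw [mul_assoc, ← mul_assoc y, hZ y hy.2, mul_assoc x, kf_sq hV hy.2, mul_one]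
  have fsq : ∀ x ∈ E, ∀ y ∈ E, f (x * y * (x * y)) = f (x * x) + f (y * y) + f ⁅y, x⁆ :=
    fun x hx y hy => by
      rw [hsqm x hx y hy, hf.add _ (mul_mem (hsqV x hx) (hsqV y hy)) _ (hcm y hy x hx),
        hf.add _ (hsqV x hx) _ (hsqV y hy)]
  have hW : Nat.card W ≤ Nat.card (GaloisField 2 2) ^ 2 := by
    refine cw_quad h2 (Q := q) (by rw [← hs.one, ← hq 1 (one_mem _), mul_one, hf.one])
      (fun x y z => ?_) fun w hw => ?_
    · obtain ⟨x, hx, rfl⟩ := hs.surj x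
      obtain ⟨y, hy, rfl⟩ := hs.surj y
      obtain ⟨z, hz, rfl⟩ := hs.surj z
      have e : f ⁅z, x * y⁆ = f ⁅z, x⁆ + f ⁅z, y⁆ := by
        rw [comm_mul_r, ← hZ _ (hcm z hz y hy), mul_inv_cancel_right,
          hf.add _ (hcm z hz x hx) _ (hcm z hz y hy)]
      rw [← hs.add x hx y hy, ← hs.add _ (mul_mem hx hy) z hz, ← hs.add x hx z hz,
        ← hs.add y hy z hz, ← hq _ (mul_mem (mul_mem hx hy) hz), ← hq _ (mul_mem hx hy),
        ← hq _ (mul_mem hx hz), ← hq _ (mul_mem hy hz), ← hq _ hx, ← hq _ hy, ← hq _ hz,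
        fsq _ (mul_mem hx hy) _ hz, fsq _ hx _ hy, fsq _ hx _ hz, fsq _ hy _ hz, e]
      linear_combination (2 * f (x * x) + 2 * f (y * y) + 2 * f (z * z) + f ⁅y, x⁆ + f ⁅z, x⁆ +
        f ⁅z, y⁆) * CharTwo.two_eq_zero (R := GaloisField 2 2)
    · obtain ⟨x, hx, rfl⟩ := hs.surj w
      rw [← hq x hx, hf.ker _ (hsqV x hx), mem_bot] at hw
      exact hs.of_mem ⟨hx, hmem x hw⟩
  rw [GaloisField.card 2 2 (by norm_num)] at hW
  have hact : ∀ (i : ℕ), ∀ x ∈ E, π ((α ^ i) x) = (T ^ i) (π x) := fun i x hx => by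
    rw [hs.act_pow i x hx, AddMonoid.End.coe_pow]
  have hT1 : T ^ 3 ^ (a + 2) = 1 := by
    ext w
    obtain ⟨x, hx, rfl⟩ := hs.surj w
    rw [← hact _ x hx, hα]; rfl
  have hsurj : Function.Surjective (T ^ 3 ^ (a + 1) - 1 : AddMonoid.End W) := fun w => by
    obtain ⟨x, hx, rfl⟩ := hs.surj w
    have : x ∈ E ∧ π x ∈ (T ^ 3 ^ (a + 1) - 1 : AddMonoid.End W).range := by
      refine closure_induction
        (p := fun x _ => x ∈ E ∧ π x ∈ (T ^ 3 ^ (a + 1) - 1 : AddMonoid.End W).range) ?_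
        ⟨one_mem _, hs.one ▸ zero_mem _⟩ ?_ ?_ (hD hx)
      · rintro _ ⟨x, hx, rfl⟩
        refine ⟨mul_mem (inv_mem hx) (hγE x hx), π x, ?_⟩
        rw [hs.add _ (inv_mem hx) _ (hγE x hx), hs.inv hx, hγdef, hact _ x hx]
        change (T ^ 3 ^ (a + 1)) (π x) - π x = _
        abel
      · intro a b _ _ ha hb
        exact ⟨mul_mem ha.1 hb.1, hs.add _ ha.1 _ hb.1 ▸ add_mem ha.2 hb.2⟩
      · intro a _ ha
        exact ⟨inv_mem ha.1, hs.inv ha.1 ▸ neg_mem ha.2⟩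
    exact this.2
  have hinj := Finite.injective_iff_surjective.2 hsurj
  have hdvd := dvd_card_sub_one (T := T) (by positivity) hT1 fun i w hw => by
    refine or_iff_not_imp_right.2 fun hi => hinj ?_
    rw [map_zero]
    change (T ^ 3 ^ (a + 1)) w - w = 0
    have h1 : Function.IsPeriodicPt T i w := by
      rw [Function.IsPeriodicPt, Function.IsFixedPt, ← AddMonoid.End.coe_pow, hw]
    have h2 : Function.IsPeriodicPt T (3 ^ (a + 2)) w := by
      rw [Function.IsPeriodicPt, Function.IsFixedPt, ← AddMonoid.End.coe_pow, hT1]; rfl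
    obtain ⟨j, hj, e⟩ := (Nat.dvd_prime_pow Nat.prime_three).1 (Nat.gcd_dvd_right i (3 ^ (a + 2)))
    have h3 : j ≤ a + 1 := by
      by_contra h
      obtain rfl : j = a + 2 := by omega
      exact hi (e ▸ Nat.gcd_dvd_left _ _)
    have h4 := (e ▸ h1.gcd h2).trans_dvd (pow_dvd_pow 3 h3)
    rw [Function.IsPeriodicPt, Function.IsFixedPt, ← AddMonoid.End.coe_pow] at h4
    rw [h4, sub_self]
  obtain ⟨k, hk⟩ := (hT.to_subgroup E).exists_card_eq
  obtain ⟨j, -, hj⟩ := (Nat.dvd_prime_pow Nat.prime_two).1 (hk ▸ hs.card ▸ dvd_mul_left _ _ :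
    Nat.card W ∣ 2 ^ k)
  have h9 : 9 ∣ 2 ^ j - 1 := hj ▸ (pow_dvd_pow 3 (show 2 ≤ a + 2 by omega)).trans hdvd
  have hj4 : j ≤ 4 := (Nat.pow_le_pow_iff_right (by norm_num : 1 < 2)).1 (hj ▸ hW)
  have hj0 : j ≠ 0 := by
    rintro rfl
    have := (Nat.card_eq_one_iff_unique.1 hj).1
    exact hx₀' (hγ _ ((hs.ker _ hx₀).1 (Subsingleton.elim _ _)).2)
  interval_cases j <;> omega

theorem mulAut_coe_pow (φ : MulAut G) (i : ℕ) : ⇑(φ ^ i) = φ^[i] := by
  induction i with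
  | zero => rfl
  | succ i ih => rw [pow_succ, Function.iterate_succ, ← ih]; rfl

theorem kf_third {V : Subgroup G} (hV : IsKleinFour V) {a b c d : G} (ha : a ∈ V) (hb : b ∈ V)
    (hc : c ∈ V) (hd : d ∈ V) (ha1 : a ≠ 1) (hb1 : b ≠ 1) (hc1 : c ≠ 1) (hd1 : d ≠ 1) (hab : a ≠ b)
    (hac : c ≠ a) (hbc : c ≠ b) (had : d ≠ a) (hbd : d ≠ b) : c = d := by
  have h1 := kf_cases hV ha hb ha1 hb1 hab hc
  have h2 := kf_cases hV ha hb ha1 hb1 hab hd
  simp only [hc1, hd1, hac, hbc, had, hbd, false_or] at h1 h2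
  rw [h1, h2]

theorem kf_cycle {V : Subgroup G} (hV : IsKleinFour V) {φ : MulAut G} (hφ : Ivt φ V)
    (h : ∀ v ∈ V, v ≠ 1 → φ v ≠ v) {v : G} (hv : v ∈ V) (h1 : v ≠ 1) (i : ℕ) :
    (φ ^ i) v = v ↔ 3 ∣ i := by
  have h2 : ∀ v ∈ V, v ≠ 1 → φ (φ v) ≠ v := fun v hv h1 e => by
    refine h (v * φ v) (mul_mem hv (hφ v hv)) (fun e' => h v hv h1 ?_) (by
      rw [map_mul, e, kf_comm hV hv (hφ v hv)])
    rw [← inv_eq_of_mul_eq_one_right e', inv_eq_of_mul_eq_one_right (kf_sq hV hv)]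
  have n1 : φ v ≠ 1 := by simpa using h1
  have n2 : φ (φ v) ≠ 1 := by simpa using h1
  have h3 : φ (φ (φ v)) = v :=
    kf_third hV (hφ v hv) (hφ _ (hφ v hv)) (hφ _ (hφ _ (hφ v hv))) hv n1 n2 (by simpa using h1) h1
      (h _ (hφ v hv) n1).symm (h2 _ (hφ v hv) n1) (h _ (hφ _ (hφ v hv)) n2) (h v hv h1).symm
      (h2 v hv h1).symm
  have h4 : Function.minimalPeriod φ v = 3 := by
    have := Fact.mk Nat.prime_three
    exact Function.minimalPeriod_eq_prime h3 (h v hv h1)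
  rw [← h4, ← Function.isPeriodicPt_iff_minimalPeriod_dvd, Function.IsPeriodicPt,
    Function.IsFixedPt, mulAut_coe_pow]

theorem kf_trans {V : Subgroup G} (hV : IsKleinFour V) {φ : MulAut G} (hφ : Ivt φ V)
    (h : ∀ v ∈ V, v ≠ 1 → φ v ≠ v) {v w : G} (hv : v ∈ V) (h1 : v ≠ 1) (hw : w ∈ V) (h2 : w ≠ 1) :
    ∃ i : ℕ, (φ ^ i) v = w := by
  by_cases e : w = v
  · exact ⟨0, e.symm⟩
  by_cases e' : w = φ v
  · exact ⟨1, e'.symm⟩
  have h3 : φ (φ v) ≠ v := fun e => absurd ((kf_cycle hV hφ h hv h1 2).1 e) (by norm_num)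
  have n1 : φ v ≠ 1 := by simpa using h1
  exact ⟨2, kf_third hV hv (hφ v hv) (hφ _ (hφ v hv)) hw h1 n1 (by simpa using h1) h2
    (h v hv h1).symm h3 (h _ (hφ v hv) n1) e e'⟩

theorem rank2_fpf [Finite G] (hT : IsPGroup 2 G) {V : Subgroup G} (hV : IsKleinFour V)
    (hmem : ∀ x : G, x * x = 1 → x ∈ V) {φ : MulAut G} (h : ∀ v ∈ V, v ≠ 1 → φ v ≠ v) :
    (∀ x y : G, x * y = y * x) ∨ (IsSuzukiTwoGroup G ∧ Nat.card (center G) = 4) := by
  have ivt : ∀ φ : MulAut G, Ivt φ V := fun φ v hv =>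
    hmem _ (by rw [← map_mul, kf_sq hV hv, map_one])
  obtain ⟨b, hb, hb1, -⟩ := kf_exists_ne hV 1
  obtain ⟨c, hc, hc1, hcb⟩ := kf_exists_ne hV b
  have : Nontrivial G := ⟨b, 1, hb1⟩
  have := hT.center_nontrivial
  obtain ⟨⟨z, hz⟩, hz1⟩ := exists_ne (1 : center G)
  obtain ⟨k, z1, z2⟩ := exists_invol_pow hT (x := z) (by simpa using hz1)
  have hZ : ∀ v ∈ V, ∀ x, v * x = x * v := fun v hv x => by
    by_cases h1 : v = 1
    · simp [h1]
    obtain ⟨i, rfl⟩ := kf_trans hV (ivt φ) h (hmem _ z2) z1 hv h1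
    rw [← (φ ^ i).apply_symm_apply x, ← map_mul, ← map_mul, mem_center_iff.1 (pow_mem hz k)]
  obtain ⟨a, m, hm, e⟩ := Nat.exists_eq_pow_mul_and_not_dvd (orderOf_pos φ).ne' 3 (by norm_num)
  have hα : ∀ v ∈ V, v ≠ 1 → (φ ^ m) v ≠ v := fun v hv h1 e =>
    hm ((kf_cycle hV (ivt φ) h hv h1 m).1 e)
  have h3 : ∀ a, (φ ^ m) ^ 3 ^ a = 1 → (φ ^ m) ^ 3 = 1 := fun a => by
    induction a with
    | zero => intro h; rw [pow_zero, pow_one] at h; rw [h, one_pow]
    | succ a ih =>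
      rcases a with _ | a
      · simp
      · refine fun h => ih (faithful_on_kf hT hV hmem hZ h fun v hv => ?_)
        by_cases h1 : v = 1
        · simp [h1]
        · exact (kf_cycle hV (ivt _) hα hv h1 _).2 (dvd_pow_self 3 (by omega))
  have h4 := h3 a (by rw [← pow_mul, mul_comm, ← e, pow_orderOf_eq_one])
  generalize φ ^ m = α at hα h4
  refine or_iff_not_imp_left.2 fun hc => ?_
  push Not at hc
  have hS : IsSuzukiTwoGroup G := by
    refine ⟨inferInstance, hT, hc, ⟨c, b, hcb, hc1, kf_sq hV ‹_›, hb1, kf_sq hV hb⟩, zpowers α,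
      inferInstance, fun x y hx hx2 hy hy2 => ?_⟩
    obtain ⟨i, hi⟩ := kf_trans hV (ivt α) hα (hmem x hx2) hx (hmem y hy2) hy
    refine ⟨⟨α ^ i, npow_mem_zpowers α i⟩, hi, fun k hk => ?_⟩
    obtain ⟨j, hj⟩ := mem_powers_iff_mem_zpowers.2 (inv_mem (npow_mem_zpowers α i))
    obtain ⟨l, hl⟩ := mem_powers_iff_mem_zpowers.2 k.2
    have hj' : α ^ j = (α ^ i)⁻¹ := hj
    have hl' : α ^ l = k := hl
    obtain ⟨r, hr⟩ := (kf_cycle hV (ivt α) hα (hmem x hx2) hx (j + l)).1 (by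
      rw [pow_add, hj', hl', MulAut.mul_apply, hk, ← hi, MulAut.inv_apply_self])
    have : α ^ (j + l) = 1 := by rw [hr, pow_mul, h4, one_pow]
    rw [pow_add, hj', hl', inv_mul_eq_one] at this
    exact Subtype.ext this.symm
  refine ⟨hS, ?_⟩
  rw [← kf_card hV]
  congr 2
  exact le_antisymm (fun z hz => hmem z ((s1137 hS).2 z hz))
    fun v hv => mem_center_iff.2 fun g => (hZ v hv g).symm

theorem le_kf_of_rank (h2 : PRankLE 2 2 G) {V : Subgroup G} (hV : IsKleinFour V) {x : G}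
    (hx : x * x = 1) (hc : x ∈ centralizer (V : Set G)) [Finite G] : x ∈ V := by
  have h1 : zpowers x ≤ centralizer (V : Set G) := zpowers_le.2 hc
  have h3 := h2 (zpowers x ⊔ V) (isMulCommutative_sup inferInstance hV.isMulCommutative h1)
    fun a ha => by
      obtain ⟨y, hy, v, hv, rfl⟩ := (mem_sup_of_le_normalizer_right
        (h1.trans (centralizer_le_normalizer _))).1 ha
      have : y * y = 1 := by rcases (mem_zpowers_ord2 hx).1 hy with rfl | rfl <;> simp [hx]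
      rw [sq, mul_assoc, ← mul_assoc v, h1 hy v hv, mul_assoc, kf_sq hV hv, mul_one, this]
  have h4 : V = zpowers x ⊔ V := eq_of_le_of_card_ge le_sup_right (by rw [kf_card hV]; exact h3)
  exact h4 ▸ mem_sup_left (mem_zpowers x)

theorem exists_kf_of_rank [Finite G] (h1 : ¬ PRankLE 2 1 G) : ∃ V : Subgroup G, IsKleinFour V := by
  simp only [PRankLE, not_forall, not_le] at h1
  obtain ⟨A, hA, h2, h3⟩ := h1
  have := Fintype.ofFinite A
  rw [Nat.card_eq_fintype_card, pow_one, Fintype.two_lt_card_iff] at h3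
  obtain ⟨a, b, c, hab, hac, hbc⟩ := h3
  have key : ∀ a b : A, a ≠ b → a ≠ 1 → b ≠ 1 → ∃ V : Subgroup G, IsKleinFour V :=
    fun a b h1 h3 h4 => ⟨_, kf_sup (ord2_iff.2 ⟨sq (a : G) ▸ h2 a a.2, by simpa using h3⟩)
      (ord2_iff.2 ⟨sq (b : G) ▸ h2 b b.2, by simpa using h4⟩) (fun e => h1 (Subtype.ext e))
      (comm_of_mem hA a.2 b.2)⟩
  by_cases h1 : a = 1
  · exact key b c hbc (h1 ▸ hab.symm) (h1 ▸ hac.symm)
  by_cases h2 : b = 1
  · exact key a c hac h1 (h2 ▸ hbc.symm)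
  · exact key a b hab h1 h2

theorem homocyclic_of_fpf [Finite G] (hT : IsPGroup 2 G) (hc : ∀ x y : G, x * y = y * x)
    {V : Subgroup G} (hV : IsKleinFour V) (hmem : ∀ x : G, x * x = 1 → x ∈ V) {φ : MulAut G}
    (h : ∀ v ∈ V, v ≠ 1 → φ v ≠ v) :
    ∃ n : ℕ, 1 ≤ n ∧ Nonempty (G ≃* Multiplicative (ZMod (2 ^ n) × ZMod (2 ^ n))) := by
  obtain ⟨n, x, hx, hg⟩ := homocyclic_of_comm hT hc hV hmem
  have o2 : orderOf (x ^ 2 ^ n) = 2 := by
    rw [orderOf_pow_of_dvd (by positivity) (hx ▸ pow_dvd_pow 2 (by omega)), hx, pow_succ,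
      Nat.mul_div_cancel_left _ (by positivity)]
  have hy : orderOf (φ x) = 2 ^ (n + 1) := by rw [MulEquiv.orderOf_eq, hx]
  have hne : x ^ 2 ^ n ≠ φ x ^ 2 ^ n := by
    rw [← map_pow]
    exact (h _ (hmem _ (sq_of_ord2 o2)) (ne_one_of_ord2 o2)).symm
  obtain ⟨e⟩ := homocyclic_equiv hx hy (hc _ _) (inf_zpowers_eq_bot hx hy hne)
  exact ⟨n + 1, by omega, ⟨(topEquiv.symm.trans (MulEquiv.subgroupCongr (hg _ _ hx hy hne).symm)).trans e⟩⟩

theorem equiv_PSU34 {T : Type*} [Group T] (hT : IsSuzukiTwoGroup T) (hc : Nat.card (center T) = 4)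
    {F : Type*} [Field F] [Fintype F] (hF : Fintype.card F = 16) (P : Sylow 2 (Cfsg.PSU 3 F 4)) :
    Nonempty (T ≃* (P : Subgroup (Cfsg.PSU 3 F 4))) := by
  obtain ⟨-, h1, h2⟩ := s1141 (n := 2) le_rfl hF P
  exact suz64_iso hT h2 hc h1

theorem s1237 {T : Type*} [Group T] [Finite T] (hT : IsPGroup 2 T) (h2 : Cfsg.PRankLE 2 2 T) (h1 : ¬ Cfsg.PRankLE 2 1 T) (φ : MulAut T) (htrans : ∀ s t : T, orderOf s = 2 → orderOf t = 2 → ∃ k : ℕ, (φ ^ k) s = t) {F : Type*} [Field F] [Fintype F] (hF : Fintype.card F = 16) (P : Sylow 2 (Cfsg.PSU 3 F 4)) : (∃ n : ℕ, 1 ≤ n ∧ Nonempty (T ≃* Multiplicative (ZMod (2 ^ n) × ZMod (2 ^ n)))) ∨ Nonempty (T ≃* (P : Subgroup (Cfsg.PSU 3 F 4))) := by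
  obtain ⟨V, hV⟩ := exists_kf_of_rank h1
  obtain ⟨b, hb, hb1, -⟩ := kf_exists_ne hV 1
  have : Nontrivial T := ⟨b, 1, hb1⟩
  have := hT.center_nontrivial
  obtain ⟨⟨z, hz⟩, hz1⟩ := exists_ne (1 : center T)
  obtain ⟨k, z1, z2⟩ := exists_invol_pow hT (x := z) (by simpa using hz1)
  have hmem : ∀ x : T, x * x = 1 → x ∈ V := fun x hx => by
    by_cases h1 : x = 1
    · exact h1 ▸ one_mem _
    refine le_kf_of_rank h2 hV hx fun v hv => ?_
    obtain ⟨i, rfl⟩ := htrans _ x (ord2_iff.2 ⟨z2, z1⟩) (ord2_iff.2 ⟨hx, h1⟩)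
    rw [← (φ ^ i).apply_symm_apply v, ← map_mul, ← map_mul, mem_center_iff.1 (pow_mem hz k)]
  have h : ∀ v ∈ V, v ≠ 1 → φ v ≠ v := fun v hv h1 e => by
    obtain ⟨w, hw, hw1, hwv⟩ := kf_exists_ne hV v
    obtain ⟨i, rfl⟩ := htrans v w (kf_ord hV hv h1) (kf_ord hV hw hw1)
    exact hwv (by rw [mulAut_coe_pow]; exact Function.iterate_fixed e i)
  rcases rank2_fpf hT hV hmem h with hc | ⟨h3, h4⟩
  · exact .inl (homocyclic_of_fpf hT hc hV hmem h)
  · exact .inr (equiv_PSU34 h3 h4 hF P)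

theorem kf_subgroupOf {V T : Subgroup G} (hV : IsKleinFour V) (h : V ≤ T) :
    IsKleinFour (V.subgroupOf T) :=
  kf_of_card (by rw [Nat.card_congr (subgroupOfEquivOfLe h).toEquiv, kf_card hV])
    fun x hx => Subtype.ext (kf_sq hV hx)

theorem max_class_of_kf [Finite G] (hG : IsPGroup 2 G) {A : Subgroup G} (hA : IsKleinFour A)
    (hC : centralizer (A : Set G) ≤ A) :
    (∃ m, 2 ≤ m ∧ Nonempty (G ≃* DihedralGroup m)) ∨ IsQuasiDihedral G := by
  by_cases htop : A = ⊤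
  · subst htop
    obtain ⟨e⟩ := IsKleinFour.nonempty_mulEquiv (G₁ := (⊤ : Subgroup G)) (G₂ := DihedralGroup 2)
    exact .inl ⟨2, le_rfl, ⟨topEquiv.symm.trans e⟩⟩
  obtain ⟨n, hcard⟩ := hG.exists_card_eq
  obtain ⟨n, rfl⟩ : ∃ m, n = m + 3 := by
    have := card_lt_of_ne_top htop
    rw [kf_card hA, hcard, show 4 = 2 ^ 2 by rfl, Nat.pow_lt_pow_iff_right (by norm_num)] at this
    exact ⟨n - 3, by omega⟩
  have hC' : centralizer (A : Set G) = A := le_antisymm hC fun a ha b hb => kf_comm hA hb ha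
  obtain ⟨C, hC1, hi⟩ := MC.s0113 (by omega) hcard
    (MC.s0112 Nat.prime_two hcard (kf_card hA) hC')
  obtain ⟨x, y, hx, hy, h⟩ := MC.s0646 (n := n + 3) (by omega) hcard hC1 hi (by
    by_contra h
    push Not at h
    exact htop (top_le_iff.1 fun g _ => hC fun a _ => h a g))
  have hx' : orderOf x = 2 ^ (n + 2) := hx
  have hxi : (zpowers x).index = 2 := index_eq_two_of_card (by
    rw [hcard, Nat.card_zpowers, hx']; ring)
  have hgen : closure ({x, y} : Set G) = ⊤ := by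
    rw [closure_pair_eq_sup]
    exact MC.sup_eq_top_of_index Nat.prime_two hxi hy
  have hout : ∀ g ∉ zpowers x, ∃ k : ℤ, g = x ^ k * y := fun g hg => by
    obtain ⟨k, hk⟩ := (mul_mem_iff_of_index_two hxi (a := g) (b := y⁻¹)).2 (by
      rw [inv_mem_iff]; tauto)
    exact ⟨k, by rw [show x ^ k = g * y⁻¹ from hk, inv_mul_cancel_right]⟩
  rcases h with ⟨h1, h2⟩ | ⟨h1, h2⟩ | ⟨h0, h1, h2⟩ | ⟨h0, h1, h2⟩
  · obtain ⟨e⟩ := dihedral_equiv hx' (by rwa [← pow_two]) h2 hy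
    exact .inl ⟨_, le_trans (by norm_num) (Nat.pow_le_pow_right (by norm_num) (Nat.le_add_left 2 n)),
      ⟨(topEquiv.symm.trans (MulEquiv.subgroupCongr hgen.symm)).trans e⟩⟩
  · exfalso
    obtain ⟨a, ha, hax⟩ : ∃ a ∈ A, a ∉ zpowers x := by
      by_contra hc
      push Not at hc
      exact kf_not_isCyclic hA (isCyclic_of_le hc)
    obtain ⟨k, rfl⟩ := hout a hax
    have h3 := kf_sq hA ha
    have h4 : y * x ^ k * y⁻¹ = (x ^ k)⁻¹ := by rw [← conj_zpow, h2, inv_zpow]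
    rw [show x ^ k * y * (x ^ k * y) = x ^ k * (y * x ^ k * y⁻¹) * y ^ 2 by group, h4,
      mul_inv_cancel, one_mul, h1] at h3
    have := Nat.le_of_dvd (by positivity) (orderOf_dvd_of_pow_eq_one h3)
    rw [hx', Nat.pow_le_pow_iff_right (by norm_num)] at this
    omega
  · exfalso
    obtain ⟨n, rfl⟩ : ∃ m, n = m + 1 := ⟨n - 1, by omega⟩
    have h3 : y * x ^ 2 * y⁻¹ = x ^ 2 := by
      rw [← conj_pow, h2, ← pow_mul, add_mul, pow_add, ← pow_succ,
        show n + 1 + 3 - 2 + 1 = n + 1 + 2 by omega, ← hx', pow_orderOf_eq_one, mul_one]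
    have h4 : x ^ 2 ∈ A := hC fun a _ => by
      by_cases h : a ∈ zpowers x
      · obtain ⟨k, rfl⟩ := h
        exact ((Commute.refl x).zpow_left k |>.pow_right 2).eq
      · obtain ⟨k, rfl⟩ := hout a h
        rw [mul_assoc, mul_inv_eq_iff_eq_mul.1 h3]; group
    have h5 := kf_sq hA h4
    rw [← pow_add] at h5
    have := Nat.le_of_dvd (by positivity) (orderOf_dvd_of_pow_eq_one h5)
    rw [hx', show 2 + 2 = 2 ^ 2 by rfl, Nat.pow_le_pow_iff_right (by norm_num)] at this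
    omega
  · exact .inr ⟨n + 2, by omega, hcard, x, y, hx', ord2_iff.2 ⟨by rwa [← pow_two],
      fun e => hy (e ▸ one_mem _)⟩, h2⟩

theorem max_class_sub [Finite G] {S A : Subgroup G} (hS : IsPGroup 2 S) (hA : IsKleinFour A)
    (hAS : A ≤ S) (hC : S ⊓ centralizer (A : Set G) ≤ A) :
    (∃ m, 2 ≤ m ∧ Nonempty (S ≃* DihedralGroup m)) ∨ IsQuasiDihedral S :=
  max_class_of_kf hS (kf_subgroupOf hA hAS) fun g hg => hC ⟨g.2, fun a ha =>
    congrArg Subtype.val (hg ⟨a, hAS ha⟩ ha)⟩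

theorem psu34_facts {F : Type*} [Field F] [Fintype F] (hF : Fintype.card F = 16)
    (P : Sylow 2 (Cfsg.PSU 3 F 4)) {T : Type*} [Group T] (e : T ≃* (P : Subgroup (Cfsg.PSU 3 F 4))) :
    Nat.card T = 64 ∧ (∀ x : T, x * x * (x * x) = 1) ∧
      ∀ x y : T, x * x = y * y → x * y * (x * y) = x * x → x * x = 1 := by
  obtain ⟨σ, h⟩ := Class.exists_UF (q := 2 ^ 2) hF
  have := charP_two (n := 4) hF
  obtain ⟨e'⟩ : Nonempty ((P : Subgroup (Cfsg.PSU 3 F 4)) ≃* Hs h.σσ) := sylow_PSU3 h P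
  replace e := e.trans e'
  refine ⟨(Nat.card_congr e.toEquiv).trans (Hs.card h), fun x => e.injective ?_, fun x y h1 h2 =>
    e.injective ?_⟩
  · rw [map_mul, map_mul, map_one, Hs.sq_eq_one, Hs.sq_x]
  rw [map_mul, map_one, Hs.sq_eq_one]
  have h3 := congrArg (fun z => (e z).a) h1
  have h4 := congrArg (fun z => (e z).a) h2
  simp only [map_mul] at h3 h4
  generalize e x = p at *
  generalize e y = r at *
  rw [Hs.mul_a, Hs.mul_a p p, Hs.mul_x, CharTwo.add_self_eq_zero, CharTwo.add_self_eq_zero,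
    h.eq, h.eq] at h4
  rw [Hs.mul_a, Hs.mul_a, CharTwo.add_self_eq_zero, CharTwo.add_self_eq_zero, h.eq, h.eq] at h3
  by_contra h0
  obtain ⟨c, hc⟩ : ∃ c, r.x = c * p.x := ⟨r.x / p.x, by field_simp⟩
  have t2 := CharTwo.two_eq_zero (R := F)
  have h5 : c ^ 5 = 1 := mul_right_cancel₀ (pow_ne_zero 5 h0) (by
    rw [hc] at h3; linear_combination -h3)
  have h6 : (1 + c) ^ 5 = 1 := mul_right_cancel₀ (pow_ne_zero 5 h0) (by
    rw [hc] at h4; linear_combination h4)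
  have h7 : c + c ^ 4 = 1 := by
    linear_combination h6 - h5 - (1 + 2 * c + 5 * c ^ 2 + 5 * c ^ 3 + 2 * c ^ 4) * t2
  have h8 : c ^ 2 + c + 1 = 0 := by linear_combination c * h7 - h5 + c * t2
  have h9 : c = 0 := by
    linear_combination (c ^ 3 - c ^ 2) * h8 * 0 + h8 - (h5 - c ^ 2 * (c - 1) * h8) - t2
  rw [h9] at h5
  norm_num at h5

theorem rank2_sub [Finite G] {T V : Subgroup G} (hT : IsPGroup 2 T) (hV : IsKleinFour V)
    (hVT : V ≤ T) (hmem : ∀ x ∈ T, x * x = 1 → x ∈ V) {h : G} (hh : h ∈ normalizer (T : Set G))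
    (fpf : ∀ v ∈ V, v ≠ 1 → h * v * h⁻¹ ≠ v) {F : Type*} [Field F] [Fintype F]
    (hF : Fintype.card F = 16) (P : Sylow 2 (Cfsg.PSU 3 F 4)) :
    (∃ n : ℕ, 1 ≤ n ∧ Nonempty (T ≃* Multiplicative (ZMod (2 ^ n) × ZMod (2 ^ n)))) ∨
      Nonempty (T ≃* (P : Subgroup (Cfsg.PSU 3 F 4))) := by
  have h1 := kf_subgroupOf hV hVT
  have h2 : ∀ x : T, x * x = 1 → x ∈ V.subgroupOf T := fun x hx =>
    hmem x x.2 (congrArg Subtype.val hx)
  have h3 : ∀ v ∈ V.subgroupOf T, v ≠ 1 → normalizerMonoidHom T ⟨h, hh⟩ v ≠ v := fun v hv h1 e =>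
    fpf v hv (by simpa using h1) (congrArg Subtype.val e)
  rcases rank2_fpf hT h1 h2 h3 with hc | ⟨h4, h5⟩
  · exact .inl (homocyclic_of_fpf hT hc h1 h2 h3)
  · exact .inr (equiv_PSU34 h4 h5 hF P)

theorem not_u34 [Finite G] {T V : Subgroup G} (hV : IsKleinFour V) (hVT : V ≤ T)
    (hmem : ∀ x ∈ T, x * x = 1 → x ∈ V) (hZ : T ≤ centralizer (V : Set G)) {s z : G}
    (hs : s ∈ normalizer (T : Set G)) (hs2 : s * s ∈ T)
    (hz : ∀ v ∈ V, v ≠ 1 → s * v * s⁻¹ = v → v = z) {F : Type*} [Field F] [Fintype F]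
    (hF : Fintype.card F = 16) (P : Sylow 2 (Cfsg.PSU 3 F 4))
    (e : T ≃* (P : Subgroup (Cfsg.PSU 3 F 4))) : False := by
  obtain ⟨h1, h2, h3⟩ := psu34_facts hF P e
  have hsq : ∀ x ∈ T, x * x ∈ V := fun x hx =>
    hmem _ (mul_mem hx hx) (congrArg Subtype.val (h2 ⟨x, hx⟩))
  have hT : Ivt (MulAut.conj s) T := fun x hx => conj_mem_of_mem_normalizer hs hx
  obtain ⟨W, _, _, π, τ, hs', h2'⟩ := exists_sec (ξ := MulAut.conj s) hVT hT
    (fun v hv => hmem _ (hT v (hVT hv)) (by rw [← map_mul, kf_sq hV hv, map_one]))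
    (fun x hx y hy => by rw [← hZ hx y hy, mul_inv_cancel_right]; exact hy) hsq
  have hW := hs'.card
  rw [h1, kf_card hV] at hW
  have hτ : ∀ w, τ (τ w) = w := fun w => by
    obtain ⟨x, hx, rfl⟩ := hs'.surj w
    rw [← hs'.act x hx, ← hs'.act _ (hT x hx), ← MulAut.mul_apply, ← map_mul, MulAut.conj_apply,
      hs'.add _ (mul_mem hs2 hx) _ (inv_mem hs2), hs'.add _ hs2 _ hx, hs'.inv hs2]
    abel
  let δ : W →+ W := (show W →+ W from τ) + AddMonoidHom.id W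
  have hδ : ∀ w, δ w = τ w + w := fun w => rfl
  have h4 : δ.range ≤ δ.ker := by
    rintro _ ⟨w, rfl⟩
    rw [AddMonoidHom.mem_ker, hδ, hδ, map_add, hτ, add_comm w, h2']
  have h5 : 2 < Nat.card δ.ker := by
    by_contra h
    have h6 := AddSubgroup.card_le_of_le h4
    have h7 := AddSubgroup.card_mul_index δ.ker
    rw [AddSubgroup.index_ker] at h7
    have : Nat.card δ.ker * Nat.card δ.range ≤ 2 * 2 := Nat.mul_le_mul (by omega) (by omega)
    omega
  have key : ∀ x ∈ T, π x ∈ δ.ker → π x ≠ 0 → x * x = z := fun x hx h1 h2 => by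
    refine hz _ (hsq x hx) (fun e => h2 (hs'.of_mem (hmem x hx e))) ?_
    have h3 : x⁻¹ * MulAut.conj s x ∈ V := (hs'.eq_iff hx (hT x hx)).1 (by
      rw [hs'.act x hx, ← add_left_inj (π x), h2', ← hδ]; exact (AddMonoidHom.mem_ker.1 h1).symm)
    have h4 : MulAut.conj s x = x * (x⁻¹ * MulAut.conj s x) := by group
    change MulAut.conj s (x * x) = _
    rw [map_mul, h4, mul_assoc, ← mul_assoc _ x, hZ hx _ h3, mul_assoc x, kf_sq hV h3, mul_one]
  have fin : ∀ a b : δ.ker, a ≠ b → a ≠ 0 → b ≠ 0 → False := fun a b hab ha hb => by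
    obtain ⟨x, hx, ex⟩ := hs'.surj a
    obtain ⟨y, hy, ey⟩ := hs'.surj b
    have k1 := key x hx (ex ▸ a.2) (by rw [ex]; simpa using ha)
    have k2 := key y hy (ey ▸ b.2) (by rw [ey]; simpa using hb)
    have k3 := key _ (mul_mem hx hy) (by rw [hs'.add x hx y hy, ex, ey]; exact add_mem a.2 b.2) (by
      rw [hs'.add x hx y hy, ex, ey]
      intro h
      exact hab (Subtype.ext (by rw [← add_left_inj (b : W), h, h2'])))
    have k4 := congrArg Subtype.val (h3 ⟨x, hx⟩ ⟨y, hy⟩ (Subtype.ext (k1.trans k2.symm))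
      (Subtype.ext (k3.trans k1.symm)))
    exact ha (Subtype.ext (ex ▸ hs'.of_mem (hmem x hx k4)))
  have := Fintype.ofFinite δ.ker
  rw [Nat.card_eq_fintype_card, Fintype.two_lt_card_iff] at h5
  obtain ⟨a, b, c, hab, hac, hbc⟩ := h5
  by_cases h1 : a = 0
  · exact fin b c hbc (h1 ▸ hab.symm) (h1 ▸ hac.symm)
  by_cases h2 : b = 0
  · exact fin a c hac h1 (h2 ▸ hbc.symm)
  · exact fin a b hab h1 h2

theorem wreathed_of [Finite G] {S T V : Subgroup G} (hS : IsSylowOf 2 S ⊤) (hV : IsKleinFour V)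
    (hVS : V ≤ S) (hN : S ≤ normalizer (V : Set G)) (hT : T = S ⊓ centralizer (V : Set G))
    (hi : T.relIndex S = 2) (hmem : ∀ x ∈ T, x * x = 1 → x ∈ V) {h : G}
    (hh : h ∈ normalizer (T : Set G)) (fpf : ∀ v ∈ V, v ≠ 1 → h * v * h⁻¹ ≠ v) {z : G}
    (hz : z ∈ V) (hz1 : z ≠ 1) (hzS : ∀ s ∈ S, s * z = z * s) {n : ℕ}
    (e : T ≃* Multiplicative (ZMod (2 ^ (n + 2)) × ZMod (2 ^ (n + 2)))) : IsWreathed S := by
  have hTS : T ≤ S := hT ▸ inf_le_left
  have hTC : T ≤ centralizer (V : Set G) := hT ▸ inf_le_right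
  have hVT : V ≤ T := hT ▸ le_inf hVS fun a ha b hb => kf_comm hV hb ha
  have hT2 : IsPGroup 2 T := hS.isP.to_le hTS
  have hc : IsMulCommutative T := ⟨⟨fun a b => e.injective (by rw [map_mul, map_mul, mul_comm])⟩⟩
  have hsyl : IsSylowOf 2 T (centralizer (V : Set G)) :=
    hT ▸ hS.inf_of_le le_top (le_normalizer_centralizer hN)
  have hNT : S ≤ normalizer (T : Set G) :=
    hT ▸ le_normalizer_inf le_normalizer (le_normalizer_centralizer hN)
  have cen : ∀ g ∈ normalizer (T : Set G), g ∈ centralizer (V : Set G) → ∀ t ∈ T,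
      g * t * g⁻¹ = t := fun g hg hg' t ht => by
    obtain ⟨a, ha, b, hb, rfl, -, ⟨k, hk⟩, ho⟩ := exists_p_part 2 g
    have h1 : a ∈ T := hsyl.le_of_le_normalizer (isPGroup_zpowers hk)
      ((zpowers_le.2 ha).trans (zpowers_le.2 hg')) ((zpowers_le.2 ha).trans (zpowers_le.2 hg))
      (mem_zpowers a)
    have h2 := (OddAut.of_conj (zpowers_le.2 hg hb) (Nat.coprime_two_right.1 ho)).fix_of_comm hT2 hc
      (fun t ht h2 => by
        rw [← zpowers_le.2 hg' hb t (hmem t ht (sq_of_ord2 h2)), mul_inv_cancel_right]) t ht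
    rw [show a * b * t * (a * b)⁻¹ = a * (b * t * b⁻¹) * a⁻¹ by group, h2, comm_of_mem hc h1 ht,
      mul_inv_cancel_right]
  have hhV : Ivt (MulAut.conj h) V := fun v hv =>
    hmem _ (conj_mem_of_mem_normalizer hh (hVT hv)) (by rw [← map_mul, kf_sq hV hv, map_one])
  obtain ⟨s, hs, hsT⟩ : ∃ s ∈ S, s ∉ T := by
    by_contra hc
    push Not at hc
    rw [relIndex_eq_one.2 hc] at hi
    omega
  have act : ∀ s ∈ S, s ∉ T → ∀ v ∈ V, v ≠ 1 → v ≠ z → s * v * s⁻¹ ≠ v := fun s hs hsT v hv h1 h2 e =>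
    hsT (hT ▸ ⟨hs, kf_mem_centralizer hV hv hz h1 hz1 h2 (mul_inv_eq_iff_eq_mul.1 e).symm
      (hzS s hs).symm⟩)
  have actz : ∀ s ∈ S, ∀ v, v ≠ z → s * v * s⁻¹ ≠ z := fun s hs v h e => h (by
    rw [mul_inv_eq_iff_eq_mul, ← hzS s hs] at e; exact mul_left_cancel e)
  have h3 : ∀ t ∈ T, h ^ 3 * t * (h ^ 3)⁻¹ = t := cen _ (pow_mem hh 3) fun v hv => by
    by_cases h1 : v = 1
    · simp [h1]
    have := (kf_cycle hV hhV fpf hv h1 3).2 dvd_rfl
    rw [← map_pow, MulAut.conj_apply, mul_inv_eq_iff_eq_mul] at this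
    exact this.symm
  obtain ⟨a, ha, ha1, hsh⟩ : ∃ a ∈ V, a ≠ 1 ∧ s * h * a * (s * h)⁻¹ = a := by
    have key : ∀ a ∈ V, a ≠ 1 → a ≠ z → h * a * h⁻¹ ≠ z → s * h * a * (s * h)⁻¹ = a :=
      fun a ha h1 h2 h3 => by
        have m1 : h * a * h⁻¹ ∈ V := hhV a ha
        have n1 : h * a * h⁻¹ ≠ 1 := by simpa using h1
        rw [show s * h * a * (s * h)⁻¹ = s * (h * a * h⁻¹) * s⁻¹ by group]
        exact kf_third hV hz m1 (conj_mem_of_mem_normalizer (hN hs) m1) ha hz1 n1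
          (by simpa using h1) h1 h3.symm (actz s hs _ h3) (act s hs hsT _ m1 n1 h3) h2
          (fpf a ha h1).symm
    obtain ⟨v, hv, hv1, hvz⟩ := kf_exists_ne hV z
    by_cases h4 : h * v * h⁻¹ = z
    · have n1 : s * v * s⁻¹ ≠ 1 := by simpa using hv1
      exact ⟨_, conj_mem_of_mem_normalizer (hN hs) hv, n1, key _
        (conj_mem_of_mem_normalizer (hN hs) hv) n1 (actz s hs v hvz) fun e =>
          act s hs hsT v hv hv1 hvz (by simpa using e.trans h4.symm)⟩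
    · exact ⟨v, hv, hv1, key v hv hv1 hvz h4⟩
  have h4 := cen _ (mul_mem (mul_mem (hNT hs) hh) (mul_mem (hNT hs) hh))
    (kf_sq_mem_centralizer hV ha ha1 (mul_mem (hN hs) (mem_normalizer_of_conj_mem hhV)) hsh)
  have hs2 : s * s ∈ T := mul_mem_of_relIndex_two hi hs hs hsT hsT
  have hρ : ∀ t ∈ T, h * t * h⁻¹ ∈ T := fun t ht => conj_mem_of_mem_normalizer hh ht
  have hN1 : ∀ t ∈ T, h * t * h⁻¹ * (h * (h * t * h⁻¹) * h⁻¹) * t = 1 := fun t ht => by
    by_contra hne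
    have m1 := hρ t ht
    have m2 := hρ _ m1
    have m3 := mul_mem (mul_mem m1 m2) ht
    obtain ⟨k, k1, k2⟩ := exists_invol_pow hT2 (x := ⟨_, m3⟩) (by simpa using hne)
    refine fpf _ (hmem _ (pow_mem m3 k) (congrArg Subtype.val k2)) (by simpa using k1) ?_
    rw [← conj_pow]
    congr 1
    calc _ = h * (h * t * h⁻¹) * h⁻¹ * (h ^ 3 * t * (h ^ 3)⁻¹) * (h * t * h⁻¹) := by group
      _ = _ := by rw [h3 t ht, comm_of_mem hc (mul_mem m2 ht) m1]; group
  obtain ⟨w, hw, hwT, hw2⟩ : ∃ w ∈ S, w ∉ T ∧ w * w = 1 := by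
    refine ⟨h * (s * s) * h⁻¹ * s, mul_mem (hTS (hρ _ hs2)) hs,
      fun h => hsT ((mul_mem_cancel_left (hρ _ hs2)).1 h), ?_⟩
    have m2 := hρ _ (hρ _ hs2)
    have h6 : s * (h * (s * s) * h⁻¹) * s⁻¹ = h * (h * (s * s) * h⁻¹) * h⁻¹ := by
      rw [← h4 _ m2]
      calc _ = s * h * s * (s * s) * (s * h * s)⁻¹ := by group
        _ = s * h * s * (h ^ 3 * (s * s) * (h ^ 3)⁻¹) * (s * h * s)⁻¹ := by rw [h3 _ hs2]
        _ = _ := by simp only [pow_succ, pow_zero, one_mul]; group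
    rw [← hN1 _ hs2, ← h6]
    group
  obtain ⟨x, hx, hxo, hxz⟩ : ∃ x ∈ T, orderOf x = 2 ^ (n + 2) ∧ x ^ 2 ^ (n + 1) ≠ z := by
    have h1 : orderOf ((e.symm (.ofAdd (1, 0)) : T) : G) = 2 ^ (n + 2) := by
      rw [orderOf_coe, MulEquiv.orderOf_eq, orderOf_ofAdd_eq_addOrderOf, Prod.addOrderOf_mk,
        ZMod.addOrderOf_one, addOrderOf_zero, Nat.lcm_one_right]
    by_cases h2 : ((e.symm (.ofAdd (1, 0)) : T) : G) ^ 2 ^ (n + 1) = z
    · exact ⟨_, hρ _ (e.symm (.ofAdd (1, 0))).2, by rw [Inv.orderOf_conj', h1], by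
        rw [conj_pow, h2]; exact fpf z hz hz1⟩
    · exact ⟨_, (e.symm (.ofAdd (1, 0))).2, h1, h2⟩
  have o2 : orderOf (x ^ 2 ^ (n + 1)) = 2 := by
    rw [orderOf_pow_of_dvd (by positivity) (hxo ▸ pow_dvd_pow 2 (by omega)), hxo, pow_succ,
      Nat.mul_div_cancel_left _ (by positivity)]
  have hy := conj_mem_of_mem_normalizer (hNT hw) hx
  refine ⟨n + 2, by omega, ?_, ⟨x, hTS hx⟩, ⟨_, hTS hy⟩, ⟨w, hw⟩, by rw [← orderOf_coe, hxo],
    Subtype.ext (comm_of_mem hc hx hy), ?_, ord2_iff.2 ⟨Subtype.ext hw2, fun e =>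
      hwT ((show w = 1 from congrArg Subtype.val e) ▸ one_mem T)⟩, rfl⟩
  · rw [← card_mul_relIndex hTS, hi, Nat.card_congr e.toEquiv,
      Nat.card_congr (Multiplicative.toAdd (α := _ × _)), Nat.card_prod, Nat.card_zmod]
    ring
  · refine inf_zpowers_eq_bot (n := n + 1) (by rw [← orderOf_coe, hxo])
      (by rw [← orderOf_coe, Inv.orderOf_conj', hxo]) fun e => ?_
    have := congrArg Subtype.val e
    simp only [SubmonoidClass.mk_pow, conj_pow] at this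
    exact act w hw hwT _ (hmem _ (pow_mem hx _) (sq_of_ord2 o2)) (ne_one_of_ord2 o2) hxz this.symm

theorem exists_cj_centralizer_le [Finite G] {S : Subgroup G} (hS : IsSylowOf 2 S ⊤) {z u g : G}
    (hz : ∀ s ∈ S, s * z = z * s) (hg : g * u * g⁻¹ = z) :
    ∃ g, g * u * g⁻¹ = z ∧ cj g (S ⊓ centralizer {u}) ≤ S := by
  have h1 : IsSylowOf 2 S (centralizer {z}) :=
    hS.of_le (fun s hs => mem_centralizer_singleton_iff.2 (hz s hs)) le_top
  obtain ⟨c, hc, h2⟩ := h1.exists_cj_le (isPGroup_cj g (hS.isP.to_inf_left (K := centralizer {u})))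
    (cj_le_iff'.2 fun x hx => mem_centralizer_singleton_iff.2 (by
      rw [← hg]
      calc _ = g * (x * u) * g⁻¹ := by group
        _ = _ := by rw [mem_centralizer_singleton_iff.1 hx.2]; group))
  refine ⟨c * g, ?_, cj_mul c g _ ▸ h2⟩
  calc _ = c * (g * u * g⁻¹) * c⁻¹ := by group
    _ = z := by rw [hg, mem_centralizer_singleton_iff.1 hc, mul_inv_cancel_right]

theorem exists_sq_eq [Finite G] {Y : Subgroup G} (hY : IsPGroup 2 Y) {z : G}
    (h : ∀ y ∈ Y, y * y = 1 → y = 1 ∨ y = z) {y : G} (hy : y ∈ Y) (h1 : y ≠ 1) (h2 : y ≠ z) :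
    ∃ y ∈ Y, y * y = z := by
  obtain ⟨k, hk⟩ := IsPGroup_orderOf hY hy
  obtain ⟨k, rfl⟩ : ∃ m, k = m + 2 := by
    rcases k with _ | _ | k
    · exact absurd (orderOf_eq_one_iff.1 hk) h1
    · exact absurd (h y hy (sq_of_ord2 hk)) (by tauto)
    · exact ⟨k, rfl⟩
  have o2 : orderOf (y ^ 2 ^ (k + 1)) = 2 := by
    rw [orderOf_pow_of_dvd (by positivity) (hk ▸ pow_dvd_pow 2 (by omega)), hk, pow_succ,
      Nat.mul_div_cancel_left _ (by positivity)]
  refine ⟨y ^ 2 ^ k, pow_mem hy _, ?_⟩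
  rw [← pow_add, ← two_mul, ← pow_succ']
  exact (h _ (pow_mem hy _) (sq_of_ord2 o2)).resolve_left (ne_one_of_ord2 o2)

theorem exists_normal_kf [Finite G] (h2 : PRankLE 2 2 G) {A : Subgroup G} [A.Normal]
    (hA : IsMulCommutative A) (hG : IsPGroup 2 G) (hc : ¬ IsCyclic A) :
    ∃ V : Subgroup G, V.Normal ∧ IsKleinFour V := by
  let V : Subgroup G :=
    { carrier := {a | a ∈ A ∧ a * a = 1}
      one_mem' := ⟨one_mem _, mul_one _⟩
      mul_mem' := fun {a b} ha hb => ⟨mul_mem ha.1 hb.1, by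
        rw [mul_assoc, ← mul_assoc b, comm_of_mem hA hb.1 ha.1, mul_assoc, hb.2, mul_one, ha.2]⟩
      inv_mem' := fun {a} ha => ⟨inv_mem ha.1, by rw [← mul_inv_rev, ha.2, inv_one]⟩ }
  have hn : V.Normal := ⟨fun a ha g => ⟨‹A.Normal›.conj_mem a ha.1 g, by
    calc _ = g * (a * a) * g⁻¹ := by group
      _ = 1 := by rw [ha.2]; group⟩⟩
  obtain ⟨W, hW⟩ : ∃ W : Subgroup A, IsKleinFour W := by
    refine exists_kf_of_rank fun h => hc ?_
    let _ : CommGroup A := { (inferInstance : Group A) with mul_comm := hA.1.1 }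
    exact isCyclic_of_card_ker (hG.to_subgroup A) (h _ inferInstance fun a ha => ha)
  have h3 : W.map A.subtype ≤ V := by
    rintro _ ⟨a, ha, rfl⟩
    exact ⟨a.2, congrArg Subtype.val (kf_sq hW ha)⟩
  have h4 := card_le_of_le h3
  rw [card_subtype, kf_card hW] at h4
  exact ⟨V, hn, kf_of_card (le_antisymm (h2 V (isMulCommutative_of_le hA fun a ha => ha.1)
    fun a ha => sq a ▸ ha.2) h4) fun a ha => ha.2⟩

theorem rank2_main [Finite G] (h2 : PRankLE 2 2 G) (hiso : ∀ z : G, ¬ IsIsolatedInvolution z)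
    {S V : Subgroup G} (hS : IsSylowOf 2 S ⊤) (hV : IsKleinFour V) (hVS : V ≤ S)
    (hN : S ≤ normalizer (V : Set G)) {F : Type*} [Field F] [Fintype F]
    (hF : Fintype.card F = 16) (P : Sylow 2 (Cfsg.PSU 3 F 4)) :
    (∃ m : ℕ, 2 ≤ m ∧ Nonempty (S ≃* DihedralGroup m)) ∨ IsQuasiDihedral S ∨ IsWreathed S ∨
      (∃ n : ℕ, 2 ≤ n ∧ Nonempty (S ≃* Multiplicative (ZMod (2 ^ n) × ZMod (2 ^ n)))) ∨
      Nonempty (S ≃* (P : Subgroup (Cfsg.PSU 3 F 4))) := by
  have mc : ∀ {A : Subgroup G}, IsKleinFour A → A ≤ S → S ⊓ centralizer (A : Set G) ≤ A →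
      (∃ m : ℕ, 2 ≤ m ∧ Nonempty (S ≃* DihedralGroup m)) ∨ IsQuasiDihedral S ∨ IsWreathed S ∨
      (∃ n : ℕ, 2 ≤ n ∧ Nonempty (S ≃* Multiplicative (ZMod (2 ^ n) × ZMod (2 ^ n)))) ∨
      Nonempty (S ≃* (P : Subgroup (Cfsg.PSU 3 F 4))) := fun h1 h2 h3 =>
    (max_class_sub hS.isP h1 h2 h3).imp_right .inl
  set T := S ⊓ centralizer (V : Set G) with hT
  have hmem : ∀ x ∈ T, x * x = 1 → x ∈ V := fun x hx h => le_kf_of_rank h2 hV h hx.2
  have hVT : V ≤ T := le_inf hVS fun a ha b hb => kf_comm hV hb ha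
  have hT2 : IsPGroup 2 T := hS.isP.to_inf_left
  have hNT : S ≤ normalizer (T : Set G) :=
    le_normalizer_inf le_normalizer (le_normalizer_centralizer hN)
  have hi : T.relIndex S = 1 ∨ T.relIndex S = 2 := by
    have h1 := kf_relIndex_dvd_six hV hN
    obtain ⟨k, hk⟩ := relIndex_eq_pow_of_isPGroup hS.isP (centralizer (V : Set G))
    rw [hT, inf_relIndex_left, hk]
    rw [hk] at h1
    have : 2 ^ k ∣ 2 := (Nat.Coprime.pow_left k (by norm_num : Nat.Coprime 2 3)).dvd_of_dvd_mul_right h1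
    exact (Nat.dvd_prime Nat.prime_two).1 this
  have hsq : ∀ s ∈ S, s * s ∈ T := fun s hs => by
    by_cases h : s ∈ T
    · exact mul_mem h h
    rcases hi with hi | hi
    · exact absurd (relIndex_eq_one.1 hi hs) h
    · exact mul_mem_of_relIndex_two hi hs hs h h
  obtain ⟨z, hz, hz1, hzS⟩ : ∃ z ∈ V, z ≠ 1 ∧ ∀ s ∈ S, s * z = z * s := by
    have : (V.subgroupOf S).Normal := normal_subgroupOf_of_le_normalizer hN
    have hk := kf_subgroupOf hV hVS
    obtain ⟨z, h0, h1⟩ := (bot_or_exists_ne_one _).resolve_left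
      (PLoc.inf_center_ne_bot hS.isP (N := V.subgroupOf S) fun e => by
        have := kf_card hk
        rw [e, card_bot] at this
        omega)
    exact ⟨z, h0.1, fun e => h1 (Subtype.ext e), fun s hs =>
      congrArg Subtype.val (mem_center_iff.1 h0.2 ⟨s, hs⟩)⟩
  have act : ∀ s ∈ S, s ∉ T → ∀ v ∈ V, v ≠ 1 → s * v * s⁻¹ = v → v = z := fun s hs hsT v hv h1 e => by
    by_contra h2
    exact hsT ⟨hs, kf_mem_centralizer hV hv hz h1 hz1 h2 (mul_inv_eq_iff_eq_mul.1 e).symm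
      (hzS s hs).symm⟩
  obtain ⟨u, hu, huz, g, hg⟩ : ∃ u ∈ S, u ≠ z ∧ ∃ g, g * u * g⁻¹ = z := by
    have h1 := hiso z
    simp only [IsIsolatedInvolution, kf_ord hV hz hz1, true_and, not_forall] at h1
    obtain ⟨g, h1, h3⟩ := h1
    have h4 : IsSylowOf 2 S (centralizer {z}) :=
      hS.of_le (fun s hs => mem_centralizer_singleton_iff.2 (hzS s hs)) le_top
    obtain ⟨c, hc, h5⟩ := h4.exists_cj_le (isPGroup_zpowers (x := g * z * g⁻¹) (k := 1) (by
      rw [pow_one, conj_pow, sq, kf_sq hV hz]; group))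
      (zpowers_le.2 (mem_centralizer_singleton_iff.2 h1.symm.eq))
    refine ⟨_, h5 (conj_mem_cj.2 (mem_zpowers _)), fun e => h3 ?_, (c * g)⁻¹, by group⟩
    rw [mul_inv_eq_iff_eq_mul, ← mem_centralizer_singleton_iff.1 hc] at e
    exact mul_left_cancel e
  have ho : ∀ {u g : G}, g * u * g⁻¹ = z → orderOf u = 2 := fun {u g} hg => by
    rw [← Inv.orderOf_conj' g, hg, kf_ord hV hz hz1]
  by_cases hA : ∃ v ∈ V, v ≠ z ∧ ∃ g, g * v * g⁻¹ = z
  swap
  · have huV : u ∉ V := fun h => hA ⟨u, h, huz, g, hg⟩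
    have huT : u ∉ T := fun h => huV (hmem u h (sq_of_ord2 (ho hg)))
    obtain ⟨g, hg, hg'⟩ := exists_cj_centralizer_le hS hzS hg
    have hY : ∀ y ∈ T ⊓ centralizer {u}, y = 1 ∨ y = z := fun y hy => by
      by_contra hc
      push Not at hc
      obtain ⟨y, hy, e⟩ := exists_sq_eq (z := z) (hT2.to_inf_left (K := centralizer {u}))
        (fun y hy h => or_iff_not_imp_left.2 fun h1 => act u hu huT y (hmem y hy.1 h) h1 (by
          rw [← mem_centralizer_singleton_iff.1 hy.2, mul_inv_cancel_right])) hy hc.1 hc.2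
      have h1 := hsq _ (hg' (conj_mem_cj.2 ⟨hy.1.1, hy.2⟩))
      have h3 : g * y * g⁻¹ * (g * y * g⁻¹) = g * z * g⁻¹ := by rw [← e]; group
      rw [h3] at h1
      refine hA ⟨_, hmem _ h1 (by rw [← sq, conj_pow, sq, kf_sq hV hz]; group), fun e => huz ?_,
        g⁻¹, by group⟩
      simpa using hg.trans e.symm
    have hk := kf_sup (ho hg) (kf_ord hV hz hz1) huz (hzS u hu)
    refine mc hk (sup_le (zpowers_le.2 hu) (zpowers_le.2 (hVS hz))) fun x hx => ?_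
    have hxu : x ∈ centralizer {u} :=
      mem_centralizer_singleton_iff.2 (hx.2 u (mem_sup_left (mem_zpowers u))).symm
    by_cases hxT : x ∈ T
    · rcases hY x ⟨hxT, hxu⟩ with rfl | rfl
      · exact one_mem _
      · exact mem_sup_right (mem_zpowers _)
    · have hi' := hi.resolve_left fun h => huT (relIndex_eq_one.1 h hu)
      refine (mul_mem_cancel_left (mem_sup_left (mem_zpowers u))).1 ?_
      rcases hY (u * x) ⟨mul_mem_of_relIndex_two hi' hu hx.1 huT hxT,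
        mul_mem (mem_centralizer_singleton_iff.2 rfl) hxu⟩ with e | e
      · exact e ▸ one_mem _
      · exact e ▸ mem_sup_right (mem_zpowers _)
  obtain ⟨v, hv, hvz, g, hg⟩ := hA
  have hv1 := ne_one_of_ord2 (ho hg)
  obtain ⟨g, hg, hg'⟩ := exists_cj_centralizer_le hS hzS hg
  have hTg : cj g T ≤ S := (cj_mono g (le_inf inf_le_left fun x hx =>
    mem_centralizer_singleton_iff.2 (hx.2 v hv).symm)).trans hg'
  have fpf : ∀ h ∈ normalizer (V : Set G), (∃ a ∈ V, h * h * a * (h * h)⁻¹ ≠ a) →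
      ∀ a ∈ V, a ≠ 1 → h * a * h⁻¹ ≠ a := fun h hh ⟨b, hb, hb'⟩ a ha h1 e =>
    hb' (by rw [← kf_sq_mem_centralizer hV ha h1 hh e b hb, mul_inv_cancel_right])
  have small : ∀ {A : Subgroup G}, V ≤ A →
      (A ≃* Multiplicative (ZMod (2 ^ 1) × ZMod (2 ^ 1))) → A ≤ V := fun {A} h e =>
    (eq_of_le_of_card_ge h (by
      rw [kf_card hV, Nat.card_congr e.toEquiv, Nat.card_congr (Multiplicative.toAdd (α := _ × _)),
        Nat.card_prod, Nat.card_zmod]; rfl)).ge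
  rcases hi with hi | hi
  · have hST : T = S := le_antisymm inf_le_left (relIndex_eq_one.1 hi)
    rw [hST] at hTg hmem
    have hgS := mem_normalizer_of_cj_le hTg
    obtain ⟨a, ha, b, hb, e, hab, ⟨k, hk⟩, hbo⟩ := exists_p_part 2 g
    have haS : a ∈ T := hST ▸ hS.le_of_le_normalizer (isPGroup_zpowers hk) le_top
      ((zpowers_le.2 ha).trans (zpowers_le.2 hgS)) (mem_zpowers a)
    have hbS := zpowers_le.2 hgS hb
    have hbV : b ∈ normalizer (V : Set G) := mem_normalizer_of_conj_mem fun x hx =>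
      hmem _ (conj_mem_of_mem_normalizer hbS (hVS hx)) (by rw [← sq, conj_pow, sq, kf_sq hV hx]; group)
    have hb' : ∀ a ∈ V, a ≠ 1 → b * a * b⁻¹ ≠ a := fun c hc h1 e' => hvz (by
      have := mem_centralizer_of_sq_of_odd (Nat.coprime_two_right.1 hbo)
        (kf_sq_mem_centralizer hV hc h1 hbV e')
      rw [← hg, e, ← mul_mem haS.2 this v hv, mul_inv_cancel_right])
    rcases rank2_sub hS.isP hV hVS hmem hbS hb' hF P with ⟨n, hn, ⟨e⟩⟩ | h
    · rcases hn.eq_or_lt with rfl | hn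
      · exact mc hV hVS (inf_le_left.trans (small hVS e))
      · exact .inr (.inr (.inr (.inl ⟨n, hn, ⟨e⟩⟩)))
    · exact .inr (.inr (.inr (.inr h)))
  obtain ⟨s, hs, hsT⟩ : ∃ s ∈ S, s ∉ T := by
    by_contra hc
    push Not at hc
    rw [relIndex_eq_one.2 hc] at hi
    omega
  by_cases hgV : g ∈ normalizer (V : Set G)
  · have hgT : g ∈ normalizer (T : Set G) := mem_normalizer_of_cj_le (le_inf hTg
      ((cj_mono g inf_le_right).trans (cj_eq_self_iff.2
        (normalizer_le_normalizer_centralizer V hgV)).le))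
    obtain ⟨h, hh, hf⟩ : ∃ h ∈ normalizer (T : Set G), ∀ a ∈ V, a ≠ 1 → h * a * h⁻¹ ≠ a := by
      by_cases h1 : g * z * g⁻¹ = v
      · refine ⟨s * g, mul_mem (hNT hs) hgT, fpf _ (mul_mem (hN hs) hgV) ⟨v, hv, fun e => hvz ?_⟩⟩
        refine act s hs hsT v hv hv1 ?_
        calc _ = s * (g * (s * z * s⁻¹) * g⁻¹) * s⁻¹ := by rw [hzS s hs, mul_inv_cancel_right, h1]
          _ = s * g * (s * g) * v * (s * g * (s * g))⁻¹ := by rw [← hg]; group
          _ = v := e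
      · refine ⟨g, hgT, fpf _ hgV ⟨v, hv, fun e => h1 ?_⟩⟩
        rw [← e, ← hg]; group
    rcases rank2_sub hT2 hV hVT hmem hh hf hF P with ⟨n, hn, ⟨e⟩⟩ | ⟨⟨e⟩⟩
    · rcases hn.eq_or_lt with rfl | hn
      · exact mc hV hVS (small hVT e)
      · obtain ⟨n, rfl⟩ : ∃ m, n = m + 2 := ⟨n - 2, by omega⟩
        exact .inr (.inr (.inl (wreathed_of hS hV hVS hN hT hi hmem hh hf hz hz1 hzS e)))
    · exact (not_u34 hV hVT hmem inf_le_right (hNT hs) (hsq s hs) (act s hs hsT) hF P e).elim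
  obtain ⟨v', hv', hv'V⟩ : ∃ v' ∈ cj g V, v' ∉ V := by
    by_contra hc
    push Not at hc
    exact hgV (mem_normalizer_of_cj_le hc)
  have hV' := kf_cj hV g
  have hv'S : v' ∈ S := hTg (cj_mono g hVT hv')
  have hv'T : v' ∉ T := fun h => hv'V (hmem _ h (kf_sq hV' hv'))
  have hi' : (cj g T).relIndex S = 2 := relIndex_eq_two_of_card hTg (by
    rw [card_cj, ← card_mul_relIndex (show T ≤ S from inf_le_left), hi, mul_comm])
  have hT' : ∀ x ∈ cj g T, v' * x = x * v' := fun x hx =>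
    (cj_centralizer g V ▸ cj_mono g (show T ≤ centralizer (V : Set G) from inf_le_right) hx) v' hv'
  have hE : ∀ x ∈ T ⊓ cj g T, x * x = 1 → x = 1 ∨ x = z := fun x hx h =>
    or_iff_not_imp_left.2 fun h1 => act v' hv'S hv'T x (hmem x hx.1 h) h1 (by
      rw [hT' x hx.2, mul_inv_cancel_right])
  have hE' : ∀ x ∈ T ⊓ cj g T, x = 1 ∨ x = z := fun x hx => by
    by_contra hc
    push Not at hc
    obtain ⟨y, hy, e⟩ := exists_sq_eq hT2.to_inf_left hE hx hc.1 hc.2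
    have hy' : g * y * g⁻¹ ∈ cj g T := conj_mem_cj.2 hy.1
    have h3 : g * y * g⁻¹ * (g * y * g⁻¹) = g * z * g⁻¹ := by rw [← e]; group
    have h4 : g * z * g⁻¹ * (g * z * g⁻¹) = 1 := by rw [← sq, conj_pow, sq, kf_sq hV hz]; group
    rcases hE _ ⟨h3 ▸ hsq _ (hTg hy'), h3 ▸ mul_mem hy' hy'⟩ h4 with e | e
    · exact hz1 (by simpa using e)
    · exact hvz (by simpa using hg.trans e.symm)
  have hvT' : v ∉ cj g T := fun h => by
    rcases hE' v ⟨hVT hv, h⟩ with e | e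
    · exact hv1 e
    · exact hvz e
  refine mc hV hVS fun x hx => ?_
  by_cases h : x ∈ cj g T
  · rcases hE' x ⟨hx, h⟩ with rfl | rfl
    · exact one_mem _
    · exact hz
  · refine (mul_mem_cancel_left hv).1 ?_
    rcases hE' (v * x) ⟨mul_mem (hVT hv) hx, mul_mem_of_relIndex_two hi' (hVS hv) hx.1 hvT' h⟩
      with e | e
    · exact e ▸ one_mem _
    · exact e ▸ hz

theorem rank2_sylow [Finite G] (h2 : PRankLE 2 2 G) (h1 : ¬ PRankLE 2 1 G)
    (hiso : ∀ z : G, ¬ IsIsolatedInvolution z) (S : Sylow 2 G) {F : Type*} [Field F] [Fintype F]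
    (hF : Fintype.card F = 16) (P : Sylow 2 (Cfsg.PSU 3 F 4)) :
    (∃ m : ℕ, 2 ≤ m ∧ Nonempty ((S : Subgroup G) ≃* DihedralGroup m)) ∨
      IsQuasiDihedral (S : Subgroup G) ∨ IsWreathed (S : Subgroup G) ∨
      (∃ n : ℕ, 2 ≤ n ∧
        Nonempty ((S : Subgroup G) ≃* Multiplicative (ZMod (2 ^ n) × ZMod (2 ^ n)))) ∨
      Nonempty ((S : Subgroup G) ≃* (P : Subgroup (Cfsg.PSU 3 F 4))) := by
  by_cases hn : ∀ A : Subgroup S, A.Normal → IsMulCommutative A → IsCyclic A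
  · obtain ⟨W, hW⟩ := exists_kf_of_rank h1
    obtain ⟨g, -, hg⟩ := (isSylowOf_top S).exists_cj_le (kf_isPGroup hW) le_top
    have hW' := kf_subgroupOf (kf_cj hW g) hg
    rcases two_group_ncyc S.isPGroup' hn with h | ⟨n, ⟨e⟩⟩ | ⟨n, h⟩ | h
    · exact absurd (isCyclic_of_le le_top) (kf_not_isCyclic hW')
    · exfalso
      obtain ⟨a, ha, ha1, -⟩ := kf_exists_ne hW' 1
      obtain ⟨b, hb, hb1, hba⟩ := kf_exists_ne hW' a
      have := (Nat.card_eq_one_iff_unique.1 (s0218 n)).1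
      exact hba (e.injective (congrArg Subtype.val (Subsingleton.elim
        (α := {x : QuaternionGroup (2 ^ (n + 1)) // orderOf x = 2})
        ⟨e b, by rw [MulEquiv.orderOf_eq, kf_ord hW' hb hb1]⟩
        ⟨e a, by rw [MulEquiv.orderOf_eq, kf_ord hW' ha ha1]⟩)))
    · exact .inl ⟨_, le_trans (by norm_num)
        (Nat.pow_le_pow_right (by norm_num) (Nat.le_add_left 3 n)), h⟩
    · exact .inr (.inl h)
  push Not at hn
  obtain ⟨A, hA, hA1, hA2⟩ := hn
  obtain ⟨V, hVn, hV⟩ := exists_normal_kf (G := S) (fun B h1 h3 => by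
    rw [← card_subtype]
    refine h2 _ inferInstance ?_
    rintro _ ⟨a, ha, rfl⟩
    exact congrArg Subtype.val (h3 a ha)) hA1 S.isPGroup' hA2
  refine rank2_main h2 hiso (isSylowOf_top S) (V := V.map (S : Subgroup G).subtype)
    (kf_of_card (by rw [card_subtype, kf_card hV]) ?_) (map_subtype_le _) (fun s hs => ?_) hF P
  · rintro _ ⟨a, ha, rfl⟩
    exact congrArg Subtype.val (kf_sq hV ha)
  · refine mem_normalizer_of_conj_mem ?_
    rintro _ ⟨a, ha, rfl⟩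
    exact ⟨_, hVn.conj_mem a ha ⟨s, hs⟩, rfl⟩

end Cfsg.Agent.Dih
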