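import Cfsg.Agent.Inv.QDFus

/-! Dihedral 2-groups and fusion in groups with dihedral Sylow 2-subgroups. -/

set_option autoImplicit false
set_option linter.unusedVariables false
set_option linter.unusedSectionVars false

namespace Cfsg.Agent.Dih

open Cfsg.Agent.PLoc Cfsg.Agent.Inv Subgroup

variable {G : Type*} [Group G]

structure DH (S : Subgroup G) (x y : G) (l : ℕ) : Prop where
  pw : ∃ k, l = 2 ^ k
  ord : orderOf x = 2 * l
  ysq : y * y = 1
  conj : y * x * y⁻¹ = x⁻¹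
  y_not_mem : y ∉ zpowers x
  mem : ∀ g, g ∈ S ↔ ∃ k : ℤ, g = x ^ k ∨ g = x ^ k * y

theorem exists_DH [Finite G] {S : Subgroup G} (hS : IsPGroup 2 S) {m : ℕ} (hm : 2 ≤ m)
    (e : S ≃* DihedralGroup m) : ∃ x y l, DH S x y l ∧ m = 2 * l := by
  have : NeZero m := ⟨by omega⟩
  obtain ⟨n, hn⟩ := IsPGroup.iff_card.1 hS
  rw [Nat.card_congr e.toEquiv, DihedralGroup.nat_card] at hn
  obtain ⟨k, hk⟩ : ∃ k, m = 2 * 2 ^ k := by
    have h1 : m ∣ 2 ^ n := ⟨2, by omega⟩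
    obtain ⟨j, -, rfl⟩ := (Nat.dvd_prime_pow Nat.prime_two).1 h1
    cases j with
    | zero => omega
    | succ j => exact ⟨j, by ring⟩
  have hx : ∀ k : ℤ, ((e.symm (.r 1) : S) : G) ^ k = (e.symm (.r k) : S) := by
    intro k
    rw [← Subgroup.coe_zpow, ← map_zpow]
    congr 2
    rw [DihedralGroup.r_zpow]; simp
  refine ⟨(e.symm (.r 1) : S), (e.symm (.sr 0) : S), 2 ^ k, ⟨⟨k, rfl⟩, ?_, ?_, ?_, ?_, ?_⟩, hk⟩
  · rw [Subgroup.orderOf_coe, e.symm.orderOf_eq, DihedralGroup.orderOf_r_one, hk]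
  · rw [← Subgroup.coe_mul, ← map_mul]; simp
  · rw [← Subgroup.coe_inv, ← Subgroup.coe_inv, ← Subgroup.coe_mul, ← Subgroup.coe_mul, ← map_inv,
      ← map_inv, ← map_mul, ← map_mul]
    simp
  · rintro ⟨j, hj⟩
    have : ((e.symm (.r 1) : S) : G) ^ j = (e.symm (.sr 0) : S) := hj
    rw [hx] at this
    exact absurd (e.symm.injective (Subtype.ext this)) (by simp)
  · intro g
    constructor
    · intro hg
      rcases h : e ⟨g, hg⟩ with i | i
      · obtain ⟨i, rfl⟩ := ZMod.intCast_surjective i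
        exact ⟨i, Or.inl (by rw [hx, ← h]; simp)⟩
      · obtain ⟨i, rfl⟩ := ZMod.intCast_surjective i
        refine ⟨-i, Or.inr ?_⟩
        rw [hx, ← Subgroup.coe_mul, ← map_mul, DihedralGroup.r_mul_sr]
        simp [← h]
    · rintro ⟨k, rfl | rfl⟩
      · exact zpow_mem (Subtype.prop _) k
      · exact mul_mem (zpow_mem (Subtype.prop _) k) (Subtype.prop _)

/-- the four-subgroups -/
def V4 (x y : G) (l : ℕ) (k : ℤ) : Subgroup G := zpowers (x ^ (l : ℤ)) ⊔ zpowers (x ^ k * y)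

namespace DH

variable [Finite G] {S : Subgroup G} {x y : G} {l : ℕ}

theorem lpos (h : DH S x y l) : 0 < l := by obtain ⟨k, rfl⟩ := h.pw; positivity

theorem l_cases (h : DH S x y l) : l = 1 ∨ ∃ m, l = 2 * m := by
  obtain ⟨_ | k, rfl⟩ := h.pw
  · exact Or.inl rfl
  · exact Or.inr ⟨2 ^ k, by ring⟩

theorem eq_iff (h : DH S x y l) {a b : ℤ} : x ^ a = x ^ b ↔ ∃ c : ℤ, a - b = 2 * (l * c) := by
  rw [zpow_eq_iff_dvd h.ord]
  exact exists_congr fun c => by push_cast; rw [mul_assoc]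

theorem xmem (h : DH S x y l) (k : ℤ) : x ^ k ∈ S := (h.mem _).2 ⟨k, Or.inl rfl⟩
theorem omem (h : DH S x y l) (k : ℤ) : x ^ k * y ∈ S := (h.mem _).2 ⟨k, Or.inr rfl⟩
theorem ymem (h : DH S x y l) : y ∈ S := by simpa using h.omem 0
theorem x1mem (h : DH S x y l) : x ∈ S := by simpa using h.xmem 1
theorem X_le (h : DH S x y l) : zpowers x ≤ S := zpowers_le.2 h.x1mem
theorem yinv (h : DH S x y l) : y⁻¹ = y := inv_eq_of_mul_eq_one_right h.ysq

theorem y_mul (h : DH S x y l) (k : ℤ) : y * x ^ k = x ^ (-k) * y := by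
  rw [← conj_zpow_inv h.conj]; group

theorem ne_of_small (h : DH S x y l) {a b : ℤ} (h0 : a ≠ b) (h1 : a - b < 2 * l)
    (h2 : b - a < 2 * l) : x ^ a ≠ x ^ b := by
  rw [Ne, zpow_eq_iff_dvd h.ord]
  intro hd
  have := Int.eq_zero_of_abs_lt_dvd hd (by push_cast; rw [abs_lt]; omega)
  omega

theorem o_not_mem (h : DH S x y l) (k : ℤ) : x ^ k * y ∉ zpowers x := fun hk =>
  h.y_not_mem (by simpa using mul_mem (inv_mem (zpow_mem (mem_zpowers x) k)) hk)

theorem exists_o (h : DH S x y l) {w : G} (hw : w ∈ S) (h1 : w ∉ zpowers x) :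
    ∃ k : ℤ, w = x ^ k * y := by
  obtain ⟨k, rfl | rfl⟩ := (h.mem w).1 hw
  · exact absurd (zpow_mem (mem_zpowers x) k) h1
  · exact ⟨k, rfl⟩

theorem zord (h : DH S x y l) : orderOf (x ^ (l : ℤ)) = 2 := by
  have := h.lpos
  refine ord2_iff.2 ⟨?_, ?_⟩
  · rw [← zpow_add, ← zpow_zero x, h.eq_iff]; exact ⟨1, by ring⟩
  · rw [← zpow_zero x]; exact h.ne_of_small (by omega) (by omega) (by omega)

theorem eq_z (h : DH S x y l) {t : G} (ht : t ∈ zpowers x) (h2 : orderOf t = 2) :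
    t = x ^ (l : ℤ) :=
  invol_eq_of_isCyclic inferInstance ht (zpow_mem (mem_zpowers x) _) h2 h.zord

theorem o_conj (h : DH S x y l) (k j : ℤ) :
    (x ^ k * y) * x ^ j * (x ^ k * y)⁻¹ = (x ^ j)⁻¹ := by
  rw [mul_assoc (x ^ k), h.y_mul]; group

theorem o_conj' (h : DH S x y l) {w c : G} (hw : w ∈ S) (h1 : w ∉ zpowers x) (hc : c ∈ zpowers x) :
    w * c * w⁻¹ = c⁻¹ := by
  obtain ⟨k, rfl⟩ := h.exists_o hw h1
  obtain ⟨j, rfl⟩ := hc
  exact h.o_conj k j

theorem z_comm (h : DH S x y l) {g : G} (hg : g ∈ S) :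
    g * x ^ (l : ℤ) = x ^ (l : ℤ) * g := by
  obtain ⟨k, rfl | rfl⟩ := (h.mem g).1 hg
  · group
  · have := h.o_conj k l
    rw [inv_of_ord2 h.zord] at this
    exact mul_inv_eq_iff_eq_mul.1 this

theorem conj_z (h : DH S x y l) {g : G} (hg : g ∈ S) :
    g * x ^ (l : ℤ) * g⁻¹ = x ^ (l : ℤ) := by rw [h.z_comm hg, mul_inv_cancel_right]

theorem le_centralizer_z (h : DH S x y l) : S ≤ centralizer {x ^ (l : ℤ)} := fun g hg =>
  mem_centralizer_singleton_iff.2 (h.z_comm hg)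

theorem sq_o (h : DH S x y l) (k : ℤ) : (x ^ k * y) * (x ^ k * y) = 1 := by
  rw [mul_assoc, ← mul_assoc y, h.y_mul, mul_assoc, h.ysq]; group

theorem ord_o (h : DH S x y l) (k : ℤ) : orderOf (x ^ k * y) = 2 :=
  ord2_iff.2 ⟨h.sq_o k, fun e => h.o_not_mem _ (e ▸ one_mem _)⟩

theorem ord_out (h : DH S x y l) {w : G} (hw : w ∈ S) (h1 : w ∉ zpowers x) : orderOf w = 2 := by
  obtain ⟨k, rfl⟩ := h.exists_o hw h1
  exact h.ord_o k

theorem yord (h : DH S x y l) : orderOf y = 2 := by simpa using h.ord_o 0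
theorem xyord (h : DH S x y l) : orderOf (x * y) = 2 := by simpa using h.ord_o 1

theorem o_ne_z (h : DH S x y l) (k : ℤ) : x ^ k * y ≠ x ^ (l : ℤ) := fun e =>
  h.o_not_mem k (e ▸ zpow_mem (mem_zpowers x) _)

theorem invol (h : DH S x y l) {t : G} (ht : t ∈ S) (h2 : orderOf t = 2) :
    t = x ^ (l : ℤ) ∨ ∃ k : ℤ, t = x ^ k * y := by
  by_cases h1 : t ∈ zpowers x
  · exact Or.inl (h.eq_z h1 h2)
  · exact Or.inr (h.exists_o ht h1)

theorem conj_out (h : DH S x y l) (k a : ℤ) :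
    x ^ a * (x ^ k * y) * (x ^ a)⁻¹ = x ^ (k + 2 * a) * y := by
  rw [← zpow_neg, mul_assoc, mul_assoc, h.y_mul]; group

theorem isConj_o (h : DH S x y l) (k a : ℤ) : IsConj (x ^ k * y) (x ^ (k + 2 * a) * y) :=
  isConj_iff.2 ⟨x ^ a, h.conj_out k a⟩

theorem conj_mem_X (h : DH S x y l) {g c : G} (hg : g ∈ S) (hc : c ∈ zpowers x) :
    g * c * g⁻¹ ∈ zpowers x := by
  by_cases h1 : g ∈ zpowers x
  · exact mul_mem (mul_mem h1 hc) (inv_mem h1)
  · rw [h.o_conj' hg h1 hc]; exact inv_mem hc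

theorem comm_o (h : DH S x y l) {g : G} (hg : g ∈ zpowers x) {a : ℤ}
    (hk : x ^ a * y * g = g * (x ^ a * y)) : g = 1 ∨ g = x ^ (l : ℤ) := by
  have h1 := h.o_conj' (h.omem a) (h.o_not_mem a) hg
  rw [hk, mul_inv_cancel_right] at h1
  by_cases h2 : g = 1
  · exact Or.inl h2
  · exact Or.inr (h.eq_z hg (ord2_iff.2 ⟨mul_eq_one_iff_eq_inv.2 h1, h2⟩))

theorem eq_sup (h : DH S x y l) : S = zpowers x ⊔ zpowers y := by
  refine le_antisymm (fun g hg => ?_) (sup_le h.X_le (zpowers_le.2 h.ymem))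
  obtain ⟨k, rfl | rfl⟩ := (h.mem g).1 hg
  · exact mem_sup_left (zpow_mem (mem_zpowers x) k)
  · exact mul_mem_sup (zpow_mem (mem_zpowers x) k) (mem_zpowers y)

theorem le_of (h : DH S x y l) {N : Subgroup G} (h1 : y ∈ N) (h2 : x * y ∈ N) : S ≤ N := by
  rw [h.eq_sup]
  exact sup_le (zpowers_le.2 (by simpa using mul_mem h2 (inv_mem h1))) (zpowers_le.2 h1)

theorem card (h : DH S x y l) : Nat.card S = 2 * (2 * l) := by
  have h2 : y * y ∈ zpowers x := by rw [h.ysq]; exact one_mem _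
  rw [h.eq_sup, card_sup_zpowers (fun a ha => h.conj_mem_X h.ymem ha) h2 h.y_not_mem,
    Nat.card_zpowers, h.ord]

theorem equiv (h : DH S x y l) : Nonempty (S ≃* DihedralGroup (2 * l)) := by
  have := dihedral_equiv h.ord h.ysq h.conj h.y_not_mem
  rwa [closure_pair_eq_sup, ← h.eq_sup] at this

theorem isPGroup (h : DH S x y l) : IsPGroup 2 S := by
  obtain ⟨k, hk⟩ := h.pw
  exact IsPGroup.of_card (n := k + 2) (by rw [h.card, hk]; ring)

theorem relIndex_X (h : DH S x y l) : (zpowers x).relIndex S = 2 :=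
  relIndex_eq_two_of_card h.X_le (by rw [h.card, Nat.card_zpowers, h.ord])

theorem mul_mem_X (h : DH S x y l) {a b : G} (ha : a ∈ S) (hb : b ∈ S) (ha' : a ∉ zpowers x)
    (hb' : b ∉ zpowers x) : a * b ∈ zpowers x :=
  mul_mem_of_relIndex_two h.relIndex_X ha hb ha' hb'

theorem cj (h : DH S x y l) (g : G) : DH (cj g S) (g * x * g⁻¹) (g * y * g⁻¹) l := by
  refine ⟨h.pw, by rw [Inv.orderOf_conj', h.ord], by
    rw [show g * y * g⁻¹ * (g * y * g⁻¹) = g * (y * y) * g⁻¹ by group, h.ysq]; group, by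
    rw [show g * y * g⁻¹ * (g * x * g⁻¹) * (g * y * g⁻¹)⁻¹ = g * (y * x * y⁻¹) * g⁻¹ by group,
      h.conj]; group, ?_, fun a => ?_⟩
  · rw [← cj_zpowers, conj_mem_cj]; exact h.y_not_mem
  · rw [mem_cj, h.mem]
    refine exists_congr fun k => or_congr ?_ ?_
    · rw [conj_zpow]; constructor
      · intro e; rw [← e]; group
      · intro e; rw [e]; group
    · rw [conj_zpow]; constructor
      · intro e; rw [show g * x ^ k * g⁻¹ * (g * y * g⁻¹) = g * (x ^ k * y) * g⁻¹ by group, ← e]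
        group
      · intro e; rw [e]; group

theorem map {G' : Type*} [Group G'] (h : DH S x y l) (f : G →* G')
    (hf : ∀ a ∈ S, f a = 1 → a = 1) : DH (S.map f) (f x) (f y) l := by
  have hinj : ∀ a ∈ S, ∀ b ∈ S, f a = f b → a = b := fun a ha b hb e =>
    mul_inv_eq_one.1 (hf _ (mul_mem ha (inv_mem hb)) (by simp [e]))
  refine ⟨h.pw, ?_, by rw [← map_mul, h.ysq, map_one], by
    rw [← map_inv, ← map_mul, ← map_mul, h.conj, map_inv], ?_, fun a => ?_⟩
  · rw [← h.ord, orderOf_eq_orderOf_iff]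
    intro n
    rw [← map_pow]
    exact ⟨hf _ (pow_mem h.x1mem n), fun e => by rw [e, map_one]⟩
  · rintro ⟨k, hk⟩
    exact h.y_not_mem ⟨k, hinj _ (h.xmem k) _ h.ymem (by rw [map_zpow]; exact hk)⟩
  · constructor
    · rintro ⟨b, hb, rfl⟩
      obtain ⟨k, rfl | rfl⟩ := (h.mem b).1 hb
      · exact ⟨k, Or.inl (by simp)⟩
      · exact ⟨k, Or.inr (by simp)⟩
    · rintro ⟨k, rfl | rfl⟩
      · exact ⟨_, h.xmem k, by simp⟩
      · exact ⟨_, h.omem k, by simp⟩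

theorem subgroupOf (h : DH S x y l) {H : Subgroup G} (hH : S ≤ H) :
    DH (S.subgroupOf H) ⟨x, hH h.x1mem⟩ ⟨y, hH h.ymem⟩ l := by
  refine ⟨h.pw, by rw [← h.ord, ← Subgroup.orderOf_coe], Subtype.ext h.ysq, Subtype.ext h.conj,
    ?_, fun a => ?_⟩
  · rintro ⟨k, hk⟩
    exact h.y_not_mem ⟨k, congrArg Subtype.val hk⟩
  · rw [mem_subgroupOf, h.mem]
    exact exists_congr fun k => or_congr ⟨fun e => Subtype.ext e, fun e => congrArg Subtype.val e⟩
      ⟨fun e => Subtype.ext e, fun e => congrArg Subtype.val e⟩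

/-- change of the reflection -/
theorem shift (h : DH S x y l) (k : ℤ) : DH S x (x ^ k * y) l := by
  refine ⟨h.pw, h.ord, h.sq_o k, by simpa using h.o_conj k 1, h.o_not_mem k, fun g => ?_⟩
  rw [h.mem]
  constructor
  · rintro ⟨a, rfl | rfl⟩
    · exact ⟨a, Or.inl rfl⟩
    · exact ⟨a - k, Or.inr (by group)⟩
  · rintro ⟨a, rfl | rfl⟩
    · exact ⟨a, Or.inl rfl⟩
    · exact ⟨a + k, Or.inr (by group)⟩

theorem x2ord (h : DH S x y l) : orderOf (x ^ (2 : ℤ)) = l := card_zpowers_sq h.ord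

theorem sq_mem_X2 (h : DH S x y l) {g : G} (hg : g ∈ S) : g * g ∈ zpowers (x ^ (2 : ℤ)) := by
  obtain ⟨k, rfl | rfl⟩ := (h.mem g).1 hg
  · rw [← zpow_add, ← two_mul]; exact QD.even_mem _
  · rw [h.sq_o]; exact one_mem _

theorem o_norm_X2 (h : DH S x y l) (k : ℤ) :
    ∀ a ∈ zpowers (x ^ (2 : ℤ)), (x ^ k * y) * a * (x ^ k * y)⁻¹ ∈ zpowers (x ^ (2 : ℤ)) := by
  rintro _ ⟨j, rfl⟩
  simp only [← zpow_mul, h.o_conj]
  exact inv_mem (QD.even_mem j)

theorem mem_M (h : DH S x y l) (k : ℤ) {g : G} :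
    g ∈ closure {x ^ (2 : ℤ), x ^ k * y} ↔ ∃ a : ℤ, g = x ^ (2 * a) ∨ g = x ^ (2 * a + k) * y := by
  rw [closure_pair_eq_sup, mem_sup_zpowers_iff (h.o_norm_X2 k) (h.sq_mem_X2 (h.omem k))]
  constructor
  · rintro (⟨a, ha⟩ | ⟨a, ha⟩)
    · exact ⟨a, Or.inl (by rw [← ha, zpow_mul])⟩
    · refine ⟨a, Or.inr ?_⟩
      rw [zpow_add, zpow_mul, show (x ^ (2 : ℤ)) ^ a = g * (x ^ k * y)⁻¹ from ha]; group
  · rintro ⟨a, rfl | rfl⟩
    · exact Or.inl (QD.even_mem a)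
    · exact Or.inr ⟨a, by simp only [← zpow_mul]; group⟩

theorem M_le (h : DH S x y l) (k : ℤ) : closure {x ^ (2 : ℤ), x ^ k * y} ≤ S := by
  rw [closure_pair_eq_sup]
  exact sup_le (zpowers_le.2 (h.xmem 2)) (zpowers_le.2 (h.omem k))

theorem card_M (h : DH S x y l) (k : ℤ) :
    Nat.card (closure {x ^ (2 : ℤ), x ^ k * y} : Subgroup G) = 2 * l := by
  rw [closure_pair_eq_sup, card_sup_zpowers (h.o_norm_X2 k) (h.sq_mem_X2 (h.omem k))
    (fun e => h.o_not_mem k (QD.X2_le_X e)), Nat.card_zpowers, h.x2ord]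

theorem relIndex_M (h : DH S x y l) (k : ℤ) :
    (closure {x ^ (2 : ℤ), x ^ k * y} : Subgroup G).relIndex S = 2 :=
  relIndex_eq_two_of_card (h.M_le k) (by rw [h.card, h.card_M])

theorem DH_M (h : DH S x y l) {m : ℕ} (hl : l = 2 * m) (k : ℤ) :
    DH (closure {x ^ (2 : ℤ), x ^ k * y}) (x ^ (2 : ℤ)) (x ^ k * y) m := by
  refine ⟨?_, by rw [h.x2ord, hl], h.sq_o k, h.o_conj k 2, fun e => h.o_not_mem k (QD.X2_le_X e),
    fun g => ?_⟩
  · obtain ⟨_ | j, hj⟩ := h.pw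
    · omega
    · exact ⟨j, by rw [pow_succ] at hj; omega⟩
  · rw [h.mem_M]
    refine exists_congr fun a => ?_
    rw [← zpow_mul, ← mul_assoc, ← zpow_add]

theorem kf_V (h : DH S x y l) (k : ℤ) : IsKleinFour (V4 x y l k) :=
  kf_sup h.zord (h.ord_o k) (h.o_ne_z k).symm (h.z_comm (h.omem k)).symm

theorem V_le (h : DH S x y l) (k : ℤ) : V4 x y l k ≤ S :=
  sup_le (zpowers_le.2 (h.xmem _)) (zpowers_le.2 (h.omem k))

theorem z_mem_V (k : ℤ) : x ^ (l : ℤ) ∈ V4 x y l k := mem_sup_left (mem_zpowers _)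
theorem o_mem_V (k : ℤ) : x ^ k * y ∈ V4 x y l k := mem_sup_right (mem_zpowers _)

theorem mem_V (h : DH S x y l) {k : ℤ} {g : G} : g ∈ V4 x y l k ↔
    g = 1 ∨ g = x ^ (l : ℤ) ∨ g = x ^ k * y ∨ g = x ^ (l + k) * y := by
  rw [V4, mem_sup_ord2 (sq_of_ord2 h.zord) (h.sq_o k) (h.z_comm (h.omem k)).symm, ← mul_assoc,
    ← zpow_add]

theorem kf (h : DH S x y l) {T : Subgroup G} (hT : IsKleinFour T) (hTS : T ≤ S) :
    ∃ k : ℤ, T = V4 x y l k := by
  obtain ⟨a, ha, ha1, haz⟩ := kf_exists_ne hT (x ^ (l : ℤ))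
  obtain ⟨k, rfl⟩ := (h.invol (hTS ha) (kf_ord hT ha ha1)).resolve_left haz
  refine ⟨k, kf_eq_sup hT ?_ ha (ne_one_of_ord2 h.zord) ha1 haz.symm⟩
  obtain ⟨b, hb, hb1, hba⟩ := kf_exists_ne hT (x ^ k * y)
  rcases h.invol (hTS hb) (kf_ord hT hb hb1) with rfl | ⟨j, rfl⟩
  · exact hb
  · have h1 := T.mul_mem hb (T.inv_mem ha)
    rwa [h.eq_z (t := x ^ j * y * (x ^ k * y)⁻¹) ⟨j - k, by group⟩
      (kf_ord hT h1 (fun e => hba (mul_inv_eq_one.1 e)))] at h1

theorem z_mem_kf (h : DH S x y l) {T : Subgroup G} (hT : IsKleinFour T) (hTS : T ≤ S) :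
    x ^ (l : ℤ) ∈ T := by
  obtain ⟨k, rfl⟩ := h.kf hT hTS
  exact z_mem_V k

theorem cj_V (h : DH S x y l) (k a : ℤ) : PLoc.cj (x ^ a) (V4 x y l k) = V4 x y l (k + 2 * a) := by
  rw [V4, cj_sup, cj_zpowers, cj_zpowers, h.conj_out, h.conj_z (h.xmem a), V4]

theorem kf_conj (h : DH S x y l) {T : Subgroup G} (hT : IsKleinFour T) (hTS : T ≤ S) (k : ℤ) :
    ∃ a : ℤ, PLoc.cj (x ^ a) (V4 x y l k) = T ∨ PLoc.cj (x ^ a) (V4 x y l (k + 1)) = T := by
  obtain ⟨j, rfl⟩ := h.kf hT hTS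
  rcases Int.even_or_odd' (j - k) with ⟨a, e | e⟩
  · exact ⟨a, Or.inl (by rw [h.cj_V]; congr 1; omega)⟩
  · exact ⟨a, Or.inr (by rw [h.cj_V]; congr 1; omega)⟩

theorem V_eq_of_one (h : DH S x y 1) (k : ℤ) : V4 x y 1 k = S :=
  eq_of_le_of_card_ge (h.V_le k) (by rw [h.card, kf_card (h.kf_V k)])

theorem centralizer_o (h : DH S x y l) (k : ℤ) : S ⊓ centralizer {x ^ k * y} = V4 x y l k := by
  refine le_antisymm ?_ (le_inf (h.V_le k) fun a ha =>
    mem_centralizer_singleton_iff.2 (kf_comm (h.kf_V k) ha (o_mem_V k)))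
  have key : ∀ g ∈ zpowers x, g ∈ centralizer {x ^ k * y} → g ∈ V4 x y l k := by
    intro g hg hc
    rcases h.comm_o hg (mem_centralizer_singleton_iff.1 hc).symm with rfl | rfl
    · exact one_mem _
    · exact z_mem_V k
  rintro g ⟨hg, hc⟩
  by_cases h1 : g ∈ zpowers x
  · exact key g h1 hc
  · have := key (g * (x ^ k * y)) (h.mul_mem_X hg (h.omem _) h1 (h.o_not_mem _))
      (mul_mem hc (mem_centralizer_singleton_iff.2 rfl))
    exact (mul_mem_cancel_right (o_mem_V k)).1 this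

theorem kf_centralizer (h : DH S x y l) {T : Subgroup G} (hT : IsKleinFour T) (hTS : T ≤ S) :
    S ⊓ centralizer (T : Set G) ≤ T := by
  obtain ⟨k, rfl⟩ := h.kf hT hTS
  rw [← h.centralizer_o k]
  exact inf_le_inf_left _ fun g hg => mem_centralizer_singleton_iff.2
    (hg _ (by rw [h.centralizer_o]; exact o_mem_V k)).symm

theorem odd_or (h : DH S x y l) {T : Subgroup G} (hT : T ≤ S) {g : G}
    (hg : g ∈ normalizer (T : Set G)) (hodd : Odd (orderOf g)) :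
    g ∈ centralizer (T : Set G) ∨ IsKleinFour T := by
  refine (odd_centralizes_or h.isPGroup inferInstance h.relIndex_X
    (fun w hw hwX => Or.inl (h.ord_out hw hwX)) hT hg hodd).imp_right ?_
  rintro (h1 | ⟨⟨w, hw, hwX, h4⟩, -⟩)
  · exact h1
  · rw [h.ord_out hw hwX] at h4; omega

theorem V_le_M (h : DH S x y l) {m : ℕ} (hl : l = 2 * m) (k a : ℤ) :
    V4 x y l (k + 2 * a) ≤ closure {x ^ (2 : ℤ), x ^ k * y} :=
  sup_le (zpowers_le.2 ((h.mem_M k).2 ⟨m, Or.inl (by rw [hl]; push_cast; rfl)⟩))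
    (zpowers_le.2 ((h.mem_M k).2 ⟨a, Or.inr (by rw [add_comm])⟩))

theorem conj_mem_M (h : DH S x y l) (k : ℤ) {s g : G} (hs : s ∈ S)
    (hg : g ∈ closure {x ^ (2 : ℤ), x ^ k * y}) :
    s * g * s⁻¹ ∈ closure {x ^ (2 : ℤ), x ^ k * y} := by
  have := QD.X2_le_M (x := x) (y := y) k
    (commutator_mem_of_sq (fun a ha => h.sq_mem_X2 ha) hs (h.M_le k hg))
  simpa using mul_mem this hg

theorem o_not_mem_M (h : DH S x y l) (k : ℤ) :
    x ^ (k + 1) * y ∉ closure {x ^ (2 : ℤ), x ^ k * y} := by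
  rw [h.mem_M]
  rintro ⟨a, e | e⟩
  · exact h.o_not_mem _ (e ▸ zpow_mem (mem_zpowers x) _)
  · rw [mul_left_inj, h.eq_iff] at e
    obtain ⟨c, hc⟩ := e
    omega

variable {P : Sylow 2 G}

/-- four-subgroups fused in `G` are fused in `S` -/
theorem kf_fusion (h : DH P x y l) {T : Subgroup G} (hT : IsKleinFour T) (hTS : T ≤ P) {g : G}
    (hg : PLoc.cj g T ≤ P) : ∃ s ∈ (P : Subgroup G), PLoc.cj s T = PLoc.cj g T := by
  rw [← inv_inv g] at hg ⊢
  generalize g⁻¹ = g at hg ⊢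
  have hch := alperin_chain P T g hTS hg
  clear hTS hg
  induction hch with
  | nil A => exact ⟨1, one_mem _, by simp⟩
  | cons A Q u g ht hu hA _ ih =>
    obtain ⟨s, hs, e⟩ := ih (kf_cj hT _)
    rw [mul_inv_rev, cj_mul, ← e]
    suffices ∃ c ∈ (P : Subgroup G), PLoc.cj c A = PLoc.cj u⁻¹ A by
      obtain ⟨c, hc, e'⟩ := this
      exact ⟨s * c, mul_mem hs hc, by rw [cj_mul, e']⟩
    by_cases hk : IsKleinFour ((P : Subgroup G) ⊓ Q : Subgroup G)
    · have : A = (P : Subgroup G) ⊓ Q := eq_of_le_of_card_ge hA (by rw [kf_card hk, kf_card hT])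
      exact ⟨1, one_mem _, by rw [cj_one, this, cj_eq_self_iff.2 (inv_mem hu)]⟩
    · have hS : IsSylowOf 2 ((P : Subgroup G) ⊓ normalizer _) (normalizer _) :=
        ⟨inf_le_right, P.2.to_inf_left, ht.1⟩
      have hu' := inv_mem hu
      rw [← hS.sup_pResOf] at hu'
      obtain ⟨c, hc, b, hb, e'⟩ := (mem_sup_of_le_normalizer_right
        (hS.le.trans (le_normalizer_pResOf _))).mp hu'
      have hb' : b ∈ centralizer _ := pResOf_le_iff.mpr (fun g hg hc =>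
        (h.odd_or inf_le_left hg (Nat.coprime_two_right.1 hc)).resolve_right hk) hb
      refine ⟨c, hc.1, ?_⟩
      rw [← e', cj_mul, cj_eq_self_iff.2 (centralizer_le_normalizer _ (centralizer_anti hA hb'))]

theorem not_cj_V (h : DH P x y l) {m : ℕ} (hl : l = 2 * m) (k : ℤ) (g : G) :
    PLoc.cj g (V4 x y l k) ≠ V4 x y l (k + 1) := by
  intro e
  obtain ⟨s, hs, e'⟩ := h.kf_fusion (h.kf_V k) (h.V_le k) (e ▸ h.V_le (k + 1))
  refine h.o_not_mem_M k ?_
  have h1 : PLoc.cj s (V4 x y l k) ≤ closure {x ^ (2 : ℤ), x ^ k * y} :=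
    cj_le_iff'.2 fun a ha => h.conj_mem_M k hs (by simpa using h.V_le_M hl k 0 (by simpa using ha))
  rw [e', e] at h1
  exact h1 (o_mem_V _)

theorem exists_cj_V (h : DH P x y l) {T : Subgroup G} (hT : IsKleinFour T) (k : ℤ) :
    ∃ g : G, PLoc.cj g T = V4 x y l k ∨ PLoc.cj g T = V4 x y l (k + 1) := by
  obtain ⟨g, -, hg⟩ := (isSylowOf_top P).exists_cj_le (kf_isPGroup hT) le_top
  obtain ⟨a, e | e⟩ := h.kf_conj (kf_cj hT g) hg k
  · exact ⟨(x ^ a)⁻¹ * g, Or.inl (by rw [cj_mul, ← e, cj_inv_cj])⟩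
  · exact ⟨(x ^ a)⁻¹ * g, Or.inr (by rw [cj_mul, ← e, cj_inv_cj])⟩

theorem exists_K (h : DH P x y l) (k : ℤ) (hf : ¬ OddAct (V4 x y l (k + 1))) :
    ∃ K : Subgroup G, K.Normal ∧ K ⊓ P = closure {x ^ (2 : ℤ), x ^ k * y} ∧ K.index = 2 := by
  suffices ∃ K : Subgroup G, K.Normal ∧ K ⊓ P = closure {x ^ (2 : ℤ), x ^ k * y} ∧
    K.index = (closure {x ^ (2 : ℤ), x ^ k * y} : Subgroup G).relIndex P by
    rwa [h.relIndex_M k] at this
  refine exists_normal_inf_eq P (h.M_le k) fun a ha g hg =>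
    fusion_principle P (equivalence_mul_inv_mem _) ?_ ?_ ha hg
  · intro s hs a ha
    exact QD.X2_le_M k (commutator_mem_of_sq (fun a ha => h.sq_mem_X2 ha) hs ha)
  · intro T hT _ _ g hg hc hgc a ha
    have hodd := Nat.coprime_two_right.1 hc
    have hk := (h.odd_or hT hg hodd).resolve_left hgc
    have ho : OddAct T := ⟨g, hg, hodd, hgc⟩
    have : T ≤ closure {x ^ (2 : ℤ), x ^ k * y} := by
      rcases h.l_cases with rfl | ⟨m, hm⟩
      · obtain ⟨j, rfl⟩ := h.kf hk hT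
        rw [h.V_eq_of_one] at ho hf
        exact absurd ho hf
      · obtain ⟨a, e | e⟩ := h.kf_conj hk hT k
        · rw [← e, h.cj_V]; exact h.V_le_M hm k a
        · have := ho.cj (x ^ a)⁻¹
          rw [← e, cj_inv_cj] at this
          exact absurd this hf
    exact this (mul_mem (conj_mem_of_mem_normalizer hg ha) (inv_mem ha))

theorem oddAct_of_no_index_two (h : DH P x y l) (hG : ∀ H : Subgroup G, H.index ≠ 2) (k : ℤ) :
    OddAct (V4 x y l k) := by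
  by_contra h1
  obtain ⟨K, -, -, h2⟩ := h.exists_K (k - 1) (by simpa using h1)
  exact hG K h2

theorem isConj_of_oddAct (h : DH S x y l) {k : ℤ} (hf : OddAct (V4 x y l k)) :
    IsConj (x ^ (l : ℤ)) (x ^ k * y) := by
  obtain ⟨g, h3, h4, h5⟩ := hf
  obtain ⟨n, -, e⟩ := kf_conj_of_odd (h.kf_V k) h3 h4 h5 (z_mem_V k) (o_mem_V k)
    (ne_one_of_ord2 h.zord) (ne_one_of_ord2 (h.ord_o k))
  exact isConj_iff.2 ⟨n, e⟩

theorem isConj_z (h : DH P x y l) (hf : ∀ k, OddAct (V4 x y l k)) {t : G} (ht : orderOf t = 2) :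
    IsConj (x ^ (l : ℤ)) t := by
  obtain ⟨u, hu, h1, h2⟩ := exists_isConj_mem_sylow P (k := 1) ht
  rcases h.invol hu h2 with rfl | ⟨k, rfl⟩
  · exact h1
  · exact (h.isConj_of_oddAct (hf k)).trans h1

theorem one_class (h : DH P x y l) (hG : ∀ H : Subgroup G, H.index ≠ 2) {a b : G}
    (ha : orderOf a = 2) (hb : orderOf b = 2) : IsConj a b :=
  (h.isConj_z (h.oddAct_of_no_index_two hG) ha).symm.trans
    (h.isConj_z (h.oddAct_of_no_index_two hG) hb)

theorem no_index_two (h : DH P x y l) (h1 : ∀ a b : G, orderOf a = 2 → orderOf b = 2 → IsConj a b)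
    (H : Subgroup G) : H.index ≠ 2 := by
  intro hH
  have := Subgroup.normal_of_index_eq_two hH
  have key : ∀ a ∈ H, orderOf a = 2 → False := by
    intro a ha h2
    have : ∀ b, orderOf b = 2 → b ∈ H := fun b hb => by
      obtain ⟨g, rfl⟩ := isConj_iff.1 (h1 a b h2 hb)
      exact Normal.conj_mem inferInstance a ha g
    exact not_le_of_index_two P hH (h.le_of (this _ h.yord) (this _ h.xyord))
  by_cases a1 : y ∈ H
  · exact key _ a1 h.yord
  by_cases a2 : x ^ (l : ℤ) ∈ H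
  · exact key _ a2 h.zord
  exact key _ ((mul_mem_iff_of_index_two hH).2 (by tauto)) (h.ord_o l)

/-- an odd element normalizing a subgroup of `S` and centralizing `z` centralizes it -/
theorem mem_centralizer_of_fix (h : DH S x y l) {T : Subgroup G} (hT : T ≤ S) {g : G}
    (hg : g ∈ normalizer (T : Set G)) (hodd : Odd (orderOf g))
    (hz : g * x ^ (l : ℤ) * g⁻¹ = x ^ (l : ℤ)) : g ∈ centralizer (T : Set G) :=
  (h.odd_or hT hg hodd).elim id fun hk => mem_centralizer_of_sq_of_odd hodd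
    (kf_sq_mem_centralizer hk (h.z_mem_kf hk hT) (ne_one_of_ord2 h.zord) hg hz)

theorem npc_of_le_centralizer (h : DH S x y l) {H : Subgroup G} (hS : IsSylowOf 2 S H)
    (hH : H ≤ centralizer {x ^ (l : ℤ)}) : NPC 2 H :=
  hS.npc_of_frobenius fun T hT _ g hg hn hc => h.mem_centralizer_of_fix hT hn
    (Nat.coprime_two_right.1 hc) (by rw [mem_centralizer_singleton_iff.1 (hH hg)]; group)

theorem npc_centralizer (h : DH P x y l) : NPC 2 (centralizer {x ^ (l : ℤ)} : Subgroup G) :=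
  h.npc_of_le_centralizer (isSylowOf_sylow P h.le_centralizer_z) le_rfl

theorem npc_of_not_oddAct (h : DH S x y l) {H : Subgroup G} (hS : IsSylowOf 2 S H)
    (hf : ∀ T ≤ S, IsKleinFour T → ∀ g ∈ H, g ∈ normalizer (T : Set G) → Odd (orderOf g) →
      g ∈ centralizer (T : Set G)) : NPC 2 H :=
  hS.npc_of_frobenius fun T hT _ g hg hn hc => (h.odd_or hT hn (Nat.coprime_two_right.1 hc)).elim
    id fun hk => hf T hT hk g hg hn (Nat.coprime_two_right.1 hc)

end DH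

theorem s1256 {X : Type*} [Group X] [Finite X] (S : Sylow 2 X) (m : ℕ) (hm : 2 ≤ m) (eS : (S : Subgroup X) ≃* DihedralGroup m) : (Nat.card S = 4 → ∀ U V : Subgroup X, IsKleinFour U → IsKleinFour V → (∃ x : X, U.map (MulAut.conj x).toMonoidHom = V)) ∧ (4 < Nat.card S → ∃ U₁ U₂ : Subgroup X, IsKleinFour U₁ ∧ IsKleinFour U₂ ∧ ¬ (∃ x : X, U₁.map (MulAut.conj x).toMonoidHom = U₂) ∧ ∀ V : Subgroup X, IsKleinFour V → (∃ x : X, V.map (MulAut.conj x).toMonoidHom = U₁) ∨ (∃ x : X, V.map (MulAut.conj x).toMonoidHom = U₂)) := by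
  obtain ⟨x, y, l, h, -⟩ := exists_DH S.2 hm eS
  have hc : Nat.card S = 2 * (2 * l) := h.card
  constructor
  · intro h4 U V hU hV
    obtain rfl : l = 1 := by omega
    obtain ⟨a, ha⟩ := h.exists_cj_V hU 0
    obtain ⟨b, hb⟩ := h.exists_cj_V hV 0
    simp only [h.V_eq_of_one, or_self] at ha hb
    exact ⟨b⁻¹ * a, by rw [cj_def, cj_mul, ha, ← hb, cj_inv_cj]⟩
  · intro h4
    obtain ⟨k, hk⟩ := h.l_cases.resolve_left (by omega)
    refine ⟨V4 x y l 0, V4 x y l (0 + 1), h.kf_V _, h.kf_V _, fun ⟨g, hg⟩ => h.not_cj_V hk 0 g hg,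
      fun V hV => ?_⟩
    obtain ⟨g, e | e⟩ := h.exists_cj_V hV 0
    · exact Or.inl ⟨g, e⟩
    · exact Or.inr ⟨g, e⟩

theorem s1255 {X : Type*} [Group X] [Finite X] (S : Sylow 2 X) (m : ℕ) (hm : 2 ≤ m) (eS : (S : Subgroup X) ≃* DihedralGroup m) : ((∀ H : Subgroup X, H.index ≠ 2) ∧ (∀ z : X, ¬ Cfsg.IsIsolatedInvolution z)) ↔ ((∀ a b : X, orderOf a = 2 → orderOf b = 2 → IsConj a b) ∨ (∀ U : Subgroup X, U ≤ S → IsKleinFour U → (Subgroup.centralizer (U : Set X)).relIndex (Subgroup.normalizer (U : Set X)) = (if Nat.card S = 4 then 3 else 6))) := by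
  obtain ⟨x, y, l, h, -⟩ := exists_DH S.2 hm eS
  refine ⟨fun h1 => Or.inl fun a b => h.one_class h1.1, fun h1 => ?_⟩
  have h2 : ∀ a b : X, orderOf a = 2 → orderOf b = 2 → IsConj a b := by
    refine h1.elim id fun h2 a b ha hb => ?_
    have : ∀ k, OddAct (V4 x y l k) := fun k => by
      obtain ⟨g, h1, h2, h3⟩ := exists_coprime_not_mem (p := 2)
        (H := normalizer (V4 x y l k : Set X)) (K := centralizer (V4 x y l k : Set X)) (by
          rw [h2 _ (h.V_le k) (h.kf_V k)]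
          rintro ⟨j, hj⟩
          have : 3 ∣ 2 ^ j := by rw [← hj]; split_ifs <;> norm_num
          have := Nat.prime_three.dvd_of_dvd_pow this
          omega)
      exact ⟨g, h1, Nat.coprime_two_right.1 h2, h3⟩
    exact (h.isConj_z this ha).symm.trans (h.isConj_z this hb)
  refine ⟨h.no_index_two h2, fun z hz => ?_⟩
  have h3 := isolated_of_isConj hz (h2 _ _ hz.1 h.zord)
  exact h.o_ne_z 0 (isolated_eq h3 (h2 _ _ h.zord (h.ord_o 0)) (h.z_comm (h.omem 0)).symm)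

theorem s1254 {X : Type*} [Group X] [Finite X] (S : Sylow 2 X) (m : ℕ) (hm : 2 ≤ m) (eS : (S : Subgroup X) ≃* DihedralGroup m) : Cfsg.HasNormalPComplement 2 X ↔ ∀ U : Subgroup X, U ≤ S → IsKleinFour U → Subgroup.normalizer (U : Set X) = Subgroup.centralizer (U : Set X) ⊔ ((S : Subgroup X) ⊓ Subgroup.normalizer (U : Set X)) := by
  obtain ⟨x, y, l, h, -⟩ := exists_DH S.2 hm eS
  rw [hasNPC_iff_top]
  constructor
  · intro hN U hUS hU
    refine le_antisymm ?_ (sup_le (centralizer_le_normalizer _) inf_le_right)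
    have hS : IsSylowOf 2 ((S : Subgroup X) ⊓ normalizer (U : Set X)) (normalizer (U : Set X)) := by
      obtain ⟨a, ha, hS⟩ := exists_fully_normalized S hUS
      have hle : cj a⁻¹ U ≤ S := (cj_mono _ (le_inf hUS le_normalizer)).trans ha
      obtain ⟨s, hs, e⟩ := h.kf_fusion hU hUS hle
      rw [← e] at hS
      have := hS.cj s⁻¹
      rwa [cj_inf, cj_normalizer, cj_inv_cj, cj_eq_of_mem (inv_mem hs)] at this
    conv_lhs => rw [← hS.sup_pResOf, sup_comm]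
    refine sup_le_sup_right (pResOf_le_iff.2 fun g hg hc a ha => ?_) _
    have h1 : a⁻¹ * (g * a * g⁻¹) ∈ U := mul_mem (inv_mem ha) (conj_mem_of_mem_normalizer hg ha)
    have h2 : (orderOf (a⁻¹ * (g * a * g⁻¹))).Coprime 2 := by
      have := hN (a⁻¹ * g * a⁻¹⁻¹) trivial g⁻¹ trivial (by rwa [PLoc.orderOf_conj'])
        (by rwa [orderOf_inv])
      simpa [mul_assoc] using this
    have := eq_one_of_isPGroup_of_coprime (kf_isPGroup hU) h1 h2
    calc a * g = a * (a⁻¹ * (g * a * g⁻¹)) * g := by rw [this]; group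
      _ = _ := by group
  · intro hN
    refine h.npc_of_not_oddAct (isSylowOf_top S) fun T hT hk g _ hg hodd => ?_
    obtain ⟨k, hk⟩ := relIndex_eq_pow_of_isPGroup (p := 2)
      (S.2.to_inf_left (K := normalizer (T : Set X))) (centralizer (T : Set X))
    refine mem_of_coprime_of_relIndex (p := 2) (k := k) (normalizer_le_normalizer_centralizer T) ?_
      hg (Nat.coprime_two_right.2 hodd)
    rw [← hk]
    conv_lhs => rw [hN T hT ‹_›, sup_comm]
    exact relIndex_sup_of_le_normalizer (inf_le_right.trans (normalizer_le_normalizer_centralizer T))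

end Cfsg.Agent.Dih
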