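import Cfsg.Agent.Char.Norm
import Cfsg.Agent.Char.Misc
import Cfsg.Agent.Char.Integral
import Cfsg.Agent.Dih.DH

/-! The Brauer–Suzuki–Wall theorem: the character theory. -/

set_option autoImplicit false
set_option linter.unusedVariables false
set_option linter.unusedSectionVars false

namespace Cfsg.Agent.Dih

open Cfsg.Agent.PLoc Cfsg.Agent.Inv Cfsg.Agent.Char Subgroup Finset
open scoped ComplexConjugate

variable {G : Type*} [Group G] [Fintype G]

/-- The number of ways of writing `g` as a product of two conjugates of `t`. -/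
noncomputable def pairFun (t g : G) : ℂ := ∑ u, classInd t u * classInd t (u⁻¹ * g)

theorem isClassFunction_pairFun (t : G) : IsClassFunction G (pairFun t) := fun g h => by
  unfold pairFun
  rw [← (MulAut.conj h).toEquiv.sum_comp]
  refine sum_congr rfl fun u _ => ?_
  have e : ((MulAut.conj h).toEquiv u)⁻¹ * (h * g * h⁻¹) = h * (u⁻¹ * g) * h⁻¹ := by
    simp [mul_assoc]
  rw [e, isClassFunction_classInd t (u⁻¹ * g) h]
  exact congrArg (· * _) (isClassFunction_classInd t u h)

theorem conj_pairFun (t g : G) : conj (pairFun t g) = pairFun t g := by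
  simp only [pairFun, map_sum, map_mul, classInd, apply_ite conj, map_one, map_zero]

theorem sum_mul_pairFun (t : G) (φ : G → ℂ) :
    ∑ g, φ g * pairFun t g = ∑ u, classInd t u * ∑ v, classInd t v * φ (u * v) := by
  simp only [pairFun, mul_sum]
  rw [sum_comm]
  refine sum_congr rfl fun u _ => ?_
  rw [← Equiv.sum_comp (Equiv.mulLeft u)]
  refine sum_congr rfl fun v _ => ?_
  simp only [Equiv.coe_mulLeft, inv_mul_cancel_left]
  ring

theorem card_mul_inner_pairFun (t : G) {χ : G → ℂ} (h : IsDirr χ) :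
    (Nat.card G : ℂ) * classInner χ (pairFun t) =
      ((centralizer ({t} : Set G)).index : ℂ) ^ 2 * (χ t ^ 2 / χ 1) := by
  have key : ∀ χ : G → ℂ, IsIrrCharacter G χ → (Nat.card G : ℂ) * classInner χ (pairFun t) =
      ((centralizer ({t} : Set G)).index : ℂ) ^ 2 * (χ t ^ 2 / χ 1) := fun χ h => by
    rw [card_mul_classInner]
    simp only [conj_pairFun]
    rw [sum_mul_pairFun]
    have e : ∀ u, ∑ v, classInd t v * χ (u * v) =
        ((centralizer ({t} : Set G)).index * χ t / χ 1) * χ u := fun u => by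
      simp only [fun v => h.isClassFunction.mul_comm u v]
      rw [h.sum_mul_apply_mul (isClassFunction_classInd t) u, sum_classInd_mul t h.isClassFunction]
      ring
    simp only [e, mul_left_comm (classInd t _)]
    rw [← mul_sum, sum_classInd_mul t h.isClassFunction]
    ring
  rcases h with h | h
  · exact key χ h
  · have := key _ h
    rw [classInner_neg_left] at this
    simp only [Pi.neg_apply] at this
    linear_combination -this

section
omit [Fintype G]
variable [Finite G]

/-- complex conjugate of an irreducible character -/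
def irrBar (l : IrrCharacter G) : IrrCharacter G := ⟨fun g => conj (l.1 g), l.2.conj⟩

theorem irrBar_irrBar (l : IrrCharacter G) : irrBar (irrBar l) = l :=
  Subtype.ext (funext fun g => by simp [irrBar])

theorem irrBar_one : irrBar (irrOne G) = irrOne G :=
  Subtype.ext (funext fun g => by simp [irrBar])

theorem irrBar_eq_one {l : IrrCharacter G} : irrBar l = irrOne G ↔ l = irrOne G :=
  ⟨fun h => by rw [← irrBar_irrBar l, h, irrBar_one], fun h => h ▸ irrBar_one⟩

end

/-- The hypothesis of the Brauer–Suzuki–Wall theorem. -/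
structure BSW (t : G) (K : Subgroup G) : Prop where
  ord : orderOf t = 2
  mem : t ∈ K
  comm : ∀ a ∈ K, ∀ b ∈ K, a * b = b * a
  idx : K.relIndex (centralizer {t}) = 2
  out : ∀ s ∈ centralizer {t}, s ∉ K → s * s = 1
  ti : ∀ g, g ∉ centralizer {t} → ∀ y ∈ K, g * y * g⁻¹ ∈ K → y = 1
  cls : ∀ u, orderOf u = 2 → IsConj t u
  odd : Odd (centralizer ({t} : Set G)).index

namespace BSW

variable {t : G} {K : Subgroup G} (h : BSW t K)
include h

theorem le : K ≤ centralizer {t} := fun a ha =>
  mem_centralizer_singleton_iff.2 (h.comm a ha t h.mem)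

theorem card_C : Nat.card (centralizer ({t} : Set G)) = 2 * Nat.card K := by
  rw [← PLoc.card_mul_relIndex h.le, h.idx, mul_comm]

theorem card_G : Nat.card G = 2 * Nat.card K * (centralizer ({t} : Set G)).index := by
  rw [← h.card_C, card_mul_index]

theorem inv_of_out {s y : G} (hs : s ∈ centralizer {t}) (hK : s ∉ K) (hy : y ∈ K) :
    s * y * s⁻¹ = y⁻¹ := by
  have e1 := h.out s hs hK
  have e2 := h.out (s * y) (mul_mem hs (h.le hy)) fun e => hK (by simpa using mul_mem e (inv_mem hy))
  rw [eq_inv_iff_mul_eq_one, inv_eq_of_mul_eq_one_right e1, ← e2]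
  group

theorem eq_t {u : G} (hu : u ∈ K) (h2 : orderOf u = 2) : u = t := by
  obtain ⟨g, rfl⟩ := isConj_iff.1 (h.cls u h2)
  by_cases hg : g ∈ centralizer {t}
  · rw [mem_centralizer_singleton_iff.1 hg, mul_inv_cancel_right]
  · exact absurd (h.ti g hg t h.mem hu) (ne_one_of_ord2 h.ord)

theorem isConj_iff' {u : G} : IsConj t u ↔ orderOf u = 2 :=
  ⟨fun e => (orderOf_isConj e).symm.trans h.ord, h.cls u⟩

theorem ord_out {s : G} (hs : s ∈ centralizer {t}) (hK : s ∉ K) : orderOf s = 2 :=
  ord2_iff.2 ⟨h.out s hs hK, fun e => hK (e ▸ one_mem K)⟩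

open Classical in
theorem card_out : (univ.filter fun s => s ∈ centralizer {t} ∧ s ∉ K).card = Nat.card K := by
  have e : (univ.filter fun s => s ∈ centralizer {t} ∧ s ∉ K) =
      univ.filter (· ∈ centralizer ({t} : Set G)) \ univ.filter (· ∈ K) := by
    ext; simp
  rw [e, card_sdiff_of_subset fun a ha => by simpa using h.le (by simpa using ha),
    ← card_subgroup_eq_filter, ← card_subgroup_eq_filter, h.card_C]
  omega

theorem ind_apply (ψ : K → ℂ) (y : K) (hy : y ≠ 1) : indFun K ψ y = ψ y + ψ y⁻¹ := by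
  classical
  rw [indFun_apply']
  have e : ∀ x : G, extendByZero K ψ (x * y * x⁻¹) = (if x ∈ K then ψ y else 0) +
      if x ∈ centralizer {t} ∧ x ∉ K then ψ y⁻¹ else 0 := fun x => by
    by_cases hx : x ∈ K
    · rw [h.comm x hx y y.2, mul_inv_cancel_right, extendByZero_of_mem K ψ y.2]
      simp [hx]
    · by_cases hc : x ∈ centralizer {t}
      · rw [h.inv_of_out hc hx y.2, extendByZero_of_mem K ψ (inv_mem y.2)]
        simp only [hx, hc, not_false_eq_true, and_self, if_true, if_false, zero_add]
        rfl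
      · rw [extendByZero_of_not_mem K ψ fun e => hy (Subtype.ext (h.ti x hc y y.2 e))]
        simp [hx, hc]
  simp only [e, sum_add_distrib, ← sum_filter, sum_const, nsmul_eq_mul]
  rw [h.card_out, ← card_subgroup_eq_filter]
  field_simp [card_ne_zero K]

theorem pairFun_apply {y : G} (hy : y ∈ K) (h1 : y ≠ 1) : pairFun t y = Nat.card K := by
  classical
  rw [← h.card_out, card_filter, pairFun]
  push_cast
  refine sum_congr rfl fun u _ => ?_
  simp only [classInd, h.isConj_iff', mul_ite, mul_one, mul_zero, ← ite_and]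
  refine if_congr ⟨fun ⟨a, b⟩ => ?_, fun ⟨a, b⟩ => ⟨h.ord_out (mul_mem (inv_mem a) (h.le hy))
    fun e => b (by simpa using inv_mem (mul_mem e (inv_mem hy))), h.ord_out a b⟩⟩ rfl rfl
  have e : u * y * u⁻¹ = y⁻¹ := by
    have := (ord2_iff.1 a).1
    rw [inv_of_ord2 b] at this ⊢
    rw [eq_inv_iff_mul_eq_one, ← this]; group
  have hc : u ∈ centralizer {t} := by
    by_contra hc
    exact h1 (h.ti u hc y hy (e ▸ inv_mem hy))
  refine ⟨hc, fun hu => h1 ?_⟩
  have e1 := h.eq_t hu b
  have e2 := h.eq_t (mul_mem (inv_mem hu) hy) a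
  rw [e1, inv_mul_eq_iff_eq_mul] at e2
  rw [e2, (ord2_iff.1 h.ord).1]

omit h in
/-- `α_λ = (1 - λ)^G`. -/
noncomputable def al (K : Subgroup G) (l : IrrCharacter K) : G → ℂ :=
  indFun K ((fun _ => 1) - l.1)

theorem lin_one (l : IrrCharacter K) : l.1 1 = 1 :=
  l.2.one_eq_one_of_comm fun a b => Subtype.ext (h.comm a a.2 b b.2)

theorem lin_mul (l : IrrCharacter K) (a b : K) : l.1 (a * b) = l.1 a * l.1 b :=
  l.2.isCharacter.map_mul_of_one (h.lin_one l) a b

theorem lin_t (l : IrrCharacter K) : l.1 ⟨t, h.mem⟩ = 1 ∨ l.1 ⟨t, h.mem⟩ = -1 := by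
  rw [← mul_self_eq_one_iff, ← h.lin_mul, ← h.lin_one l]
  exact congrArg _ (Subtype.ext (ord2_iff.1 h.ord).1)

theorem sum_lin [Fintype K] (y : K) [Decidable (y = 1)] :
    ∑ l : IrrCharacter K, l.1 y = if y = 1 then (Nat.card K : ℂ) else 0 := by
  have := sum_irr_one_mul y
  simp only [h.lin_one, one_mul] at this
  convert this

omit h in
theorem isGen_al (l : IrrCharacter K) : IsGeneralizedCharacter G (al K l) :=
  (isGen_one.sub l.2.isGen).indFun

theorem al_one (l : IrrCharacter K) : al K l 1 = 0 := by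
  rw [al, indFun_one, Pi.sub_apply, h.lin_one, sub_self, mul_zero]

theorem al_res (l : IrrCharacter K) : (fun y : K => al K l y) =
    ((fun _ => 1) - l.1) + ((fun _ => 1) - (irrBar l).1) := by
  funext y
  by_cases hy : y = 1
  · subst hy
    simp [h.al_one, h.lin_one]
  · rw [al, h.ind_apply _ y hy]
    simp only [Pi.sub_apply, Pi.add_apply, irrBar, l.2.isCharacter.apply_inv]

omit h in
theorem al_irrOne : al K (irrOne K) = 0 := by
  rw [al, irrOne_coe, sub_self, ← indLin_apply, map_zero]

omit h in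
theorem inner_al [Fintype K] {φ : G → ℂ} (hφ : IsClassFunction G φ) (l : IrrCharacter K) :
    classInner φ (al K l) = classInner (fun y : K => φ y) (fun _ => 1) -
      classInner (fun y : K => φ y) l.1 := by
  rw [al, classInner_indFun_right K _ hφ, classInner_sub_right]

omit h in
theorem one_al {l : IrrCharacter K} (hl : l ≠ irrOne K) :
    classInner (fun _ => (1 : ℂ)) (al K l) = 1 := by
  classical
  have := Fintype.ofFinite K
  rw [inner_al (isClassFunction_const 1), ← irrOne_coe, irr_classInner, irr_classInner,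
    if_pos rfl, if_neg hl.symm, sub_zero]

open Classical in
theorem al_al {l m : IrrCharacter K} (hl : l ≠ irrOne K)
    (hm : m ≠ irrOne K) : classInner (al K l) (al K m) =
      2 + (if l = m then 1 else 0) + if irrBar l = m then 1 else 0 := by
  have := Fintype.ofFinite K
  rw [inner_al (isGen_al l).isClassFunction, h.al_res, ← irrOne_coe]
  simp only [classInner_add_left, classInner_sub_left, irr_classInner, hl, hm.symm,
    irrBar_eq_one, if_true, if_false]
  split_ifs <;> ring

theorem apply_eq [Fintype K] {φ : G → ℂ} (hφ : IsClassFunction G φ) (y : K) [Decidable (y = 1)] :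
    φ y = classInner (fun y : K => φ y) (fun _ => 1) * (if y = 1 then (Nat.card K : ℂ) else 0) -
      ∑ l : IrrCharacter K, classInner φ (al K l) * l.1 y := by
  rw [← h.sum_lin y, (hφ.restrict K).apply_eq_sum_irr y, mul_sum, ← sum_sub_distrib]
  exact sum_congr rfl fun l _ => by rw [inner_al hφ]; ring

theorem al_pairFun {l : IrrCharacter K} (hl : l ≠ irrOne K) :
    classInner (al K l) (pairFun t) = Nat.card K := by
  classical
  have := Fintype.ofFinite K
  rw [al, classInner_indFun_left K _ (isClassFunction_pairFun t), classInner_def]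
  have e : ∀ y : K, ((fun _ => 1) - l.1 : K → ℂ) y * conj (pairFun t y) =
      Nat.card K * (((fun _ => 1) - l.1 : K → ℂ) y * conj 1) := fun y => by
    by_cases hy : y = 1
    · subst hy; simp [h.lin_one]
    · rw [conj_pairFun, h.pairFun_apply y.2 (by simpa using hy), map_one]; ring
  simp only [e]
  rw [← mul_sum, inv_mul_cancel_left₀ (card_ne_zero K)]
  have := card_mul_classInner ((fun _ => 1) - l.1 : K → ℂ) (fun _ => 1)
  rw [← this, classInner_sub_left, ← irrOne_coe, irr_classInner, irr_classInner, if_pos rfl,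
    if_neg hl, sub_zero, mul_one]

theorem order_eq {l : IrrCharacter K} (hl : l ≠ irrOne K) {a b : G → ℂ} (ha : IsDirr a)
    (hb : IsDirr b) (e : al K l = (fun _ => 1) + a + b) :
    ((centralizer ({t} : Set G)).index : ℂ) * (1 + a t ^ 2 / a 1 + b t ^ 2 / b 1) =
      2 * (Nat.card K : ℂ) ^ 2 := by
  have e1 := h.al_pairFun hl
  rw [e, classInner_add_left, classInner_add_left] at e1
  have e2 := card_mul_inner_pairFun t ha
  have e3 := card_mul_inner_pairFun t hb
  have e4 := card_mul_inner_pairFun t (isIrrCharacter_one (G := G)).isDirr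
  have e5 : (Nat.card G : ℂ) = 2 * Nat.card K * (centralizer ({t} : Set G)).index := by
    exact_mod_cast h.card_G
  apply mul_left_cancel₀ (Nat.cast_ne_zero.2 (index_pos' (centralizer ({t} : Set G))).ne' :
    ((centralizer ({t} : Set G)).index : ℂ) ≠ 0)
  simp only [one_pow, div_one] at e4
  linear_combination (Nat.card G : ℂ) * e1 - e2 - e3 - e4 + (Nat.card K : ℂ) * e5

open Classical in
theorem card_real :
    (univ.filter fun l : IrrCharacter K => irrBar l = l).card = 2 := by
  classical
  have := Fintype.ofFinite K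
  have e1 : ∀ l : IrrCharacter K, (Nat.card K : ℂ) * (if irrBar l = l then 1 else 0) =
      ∑ y : K, l.1 (y * y) := fun l => by
    rw [← if_congr eq_comm rfl rfl, ← irr_classInner, card_mul_classInner]
    exact sum_congr rfl fun y _ => by simp [irrBar, h.lin_mul]
  have e2 : ∑ l : IrrCharacter K, ∑ y : K, l.1 (y * y) = Nat.card K * 2 := by
    rw [sum_comm]
    simp only [h.sum_lin]
    rw [← sum_filter, sum_const]
    have : (univ.filter fun y : K => y * y = 1) = {1, ⟨t, h.mem⟩} := by
      ext y
      simp only [mem_filter, mem_univ, true_and, mem_insert, mem_singleton]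
      refine ⟨fun e => ?_, ?_⟩
      · by_cases hy : y = 1
        · exact Or.inl hy
        · exact Or.inr (Subtype.ext (h.eq_t y.2 (ord2_iff.2 ⟨congrArg Subtype.val e,
            by simpa using hy⟩)))
      · rintro (rfl | rfl)
        · simp
        · exact Subtype.ext (ord2_iff.1 h.ord).1
    rw [this, card_pair fun e => ne_one_of_ord2 h.ord (congrArg Subtype.val e).symm]
    simp [mul_comm]
  simp only [← e1] at e2
  rw [← mul_sum, sum_boole] at e2
  have e3 := mul_left_cancel₀ (card_ne_zero K) e2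
  norm_cast at e3
  convert e3

theorem exists_real : ∃ l₀ : IrrCharacter K, l₀ ≠ irrOne K ∧ irrBar l₀ = l₀ ∧
    ∀ l, irrBar l = l → l = irrOne K ∨ l = l₀ := by
  classical
  obtain ⟨a, b, hab, e⟩ := card_eq_two.1 h.card_real
  have e' : ∀ l, irrBar l = l ↔ l = a ∨ l = b := fun l => by
    simpa using Finset.ext_iff.1 e l
  rcases (e' _).1 irrBar_one with h1 | h1
  · exact ⟨b, h1 ▸ hab.symm, (e' b).2 (Or.inr rfl), fun l hl => h1 ▸ (e' l).1 hl⟩
  · exact ⟨a, h1 ▸ hab, (e' a).2 (Or.inl rfl), fun l hl => h1 ▸ ((e' l).1 hl).symm⟩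

omit h in
theorem dirr_cases {β a : G → ℂ} (hβ : IsGeneralizedCharacter G β) (ha : IsDirr a)
    (h3 : classInner β β = 2 ∨ classInner β β = 3) :
    classInner β a = 0 ∨ classInner β a = 1 ∨ classInner β a = -1 := by
  obtain ⟨n, hn⟩ := hβ.classInner_int ha.isGen
  have e := norm_classInner_sq_le β a
  have e2 : nrm β ≤ 3 := by
    rcases h3 with h3 | h3 <;> rw [nrm_def, h3] <;> norm_num
  rw [ha.nrm_eq, hn, Complex.norm_intCast, sq_abs] at e
  have e3 : n ^ 2 ≤ 3 := by exact_mod_cast (e.trans (by linarith) : (n : ℝ) ^ 2 ≤ 3)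
  have : -2 < n ∧ n < 2 := by constructor <;> nlinarith
  rw [hn]
  obtain ⟨a, b⟩ := this
  interval_cases n <;> simp

omit h in
theorem dirr_split {β a b : G → ℂ} (hβ : IsGeneralizedCharacter G β) (ha : IsDirr a)
    (hb : IsDirr b) (h3 : classInner β β = 2 ∨ classInner β β = 3)
    (h1 : classInner β (a + b) = 1) : (classInner β a = 1 ∧ classInner β b = 0) ∨
      (classInner β a = 0 ∧ classInner β b = 1) := by
  rw [classInner_add_right] at h1
  rcases dirr_cases hβ ha h3 with e | e | e <;> rcases dirr_cases hβ hb h3 with e' | e' | e' <;>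
    rw [e, e'] at h1 ⊢ <;> first | (norm_num; done) | norm_num at h1

omit h in
theorem dirr_sub {β b : G → ℂ} (hβ : IsGeneralizedCharacter G β) (hb : IsDirr b)
    (h2 : classInner β β = 2) (h1 : classInner β b = 1) : IsDirr (β - b) := by
  refine (hβ.sub hb.isGen).isDirr ?_
  rw [classInner_sub_left, classInner_sub_right, classInner_sub_right, h2, h1,
    hb.isGen.classInner_comm hβ, h1, hb.classInner_self]
  norm_num

omit h in
/-- `β_λ = α_λ - 1`. -/
noncomputable def be (K : Subgroup G) (l : IrrCharacter K) : G → ℂ := al K l - fun _ => 1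

omit h in
theorem isGen_be (l : IrrCharacter K) : IsGeneralizedCharacter G (be K l) :=
  (isGen_al l).sub isGen_one

omit h in
theorem al_one' {l : IrrCharacter K} (hl : l ≠ irrOne K) :
    classInner (al K l) (fun _ => (1 : ℂ)) = 1 := by
  rw [(isGen_al l).classInner_comm isGen_one, one_al hl]

omit h in
theorem be_one {l : IrrCharacter K} (hl : l ≠ irrOne K) :
    classInner (be K l) (fun _ => (1 : ℂ)) = 0 := by
  rw [be, classInner_sub_left, al_one' hl, isIrrCharacter_one.classInner_self, sub_self]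

open Classical in
theorem be_be {l m : IrrCharacter K} (hl : l ≠ irrOne K) (hm : m ≠ irrOne K) :
    classInner (be K l) (be K m) =
      1 + (if l = m then 1 else 0) + if irrBar l = m then 1 else 0 := by
  rw [be, classInner_sub_left, (isGen_one.classInner_comm (isGen_be m)), be_one hm, be,
    classInner_sub_right, al_one' hl, h.al_al hl hm]
  ring

theorem be_self {l : IrrCharacter K} (hl : irrBar l ≠ l) :
    classInner (be K l) (be K l) = 2 := by
  have : l ≠ irrOne K := fun e => hl (e ▸ irrBar_one)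
  rw [h.be_be this this, if_pos rfl, if_neg hl]; norm_num

theorem be_self' {l : IrrCharacter K} (hl : l ≠ irrOne K) :
    classInner (be K l) (be K l) = 2 ∨ classInner (be K l) (be K l) = 3 := by
  rw [h.be_be hl hl, if_pos rfl]
  split_ifs <;> norm_num

theorem be_bar (l : IrrCharacter K) : be K (irrBar l) = be K l := by
  classical
  by_cases hl : l = irrOne K
  · rw [hl, irrBar_one]
  have hl' : irrBar l ≠ irrOne K := fun e => hl (irrBar_eq_one.1 e)
  rw [← sub_eq_zero, ← classInner_self_eq_zero, classInner_sub_left, classInner_sub_right,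
    classInner_sub_right, h.be_be hl hl, h.be_be hl hl', h.be_be hl' hl, h.be_be hl' hl',
    irrBar_irrBar]
  by_cases e : irrBar l = l
  · simp [e]
  · simp [e, Ne.symm e]

omit h in
theorem orth_one {l : IrrCharacter K} (hl : l ≠ irrOne K) {a : G → ℂ} (ha : IsDirr a)
    (h1 : classInner (be K l) a = 1) : classInner a (fun _ => (1 : ℂ)) = 0 := by
  have := be_one hl
  rcases ha.classInner_cases (isIrrCharacter_one (G := G)).isDirr with e | ⟨rfl, -⟩ | ⟨rfl, -⟩
  · exact e
  · rw [this] at h1; exact absurd h1 zero_ne_one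
  · rw [classInner_neg_right, this] at h1; norm_num at h1

omit h in
theorem inner_al_eq {a : G → ℂ} (ha : IsDirr a) (h1 : classInner a (fun _ => (1 : ℂ)) = 0)
    (l : IrrCharacter K) : classInner a (al K l) = classInner (be K l) a := by
  rw [(isGen_be l).classInner_comm ha.isGen, be, classInner_sub_right, h1, sub_zero]

omit h in
theorem inner_be_one {a : G → ℂ} (ha : IsDirr a) (h1 : classInner a (fun _ => (1 : ℂ)) = 0) :
    classInner (be K (irrOne K)) a = 0 := by
  rw [← inner_al_eq ha h1, al_irrOne]; simp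

theorem not_bad {l₀ l₁ μ : IrrCharacter K} (h0 : l₀ ≠ irrOne K) (h0' : irrBar l₀ = l₀)
    (hr : ∀ l, irrBar l = l → l = irrOne K ∨ l = l₀) (hl : irrBar l₁ ≠ l₁) (hμ : irrBar μ ≠ μ)
    (h1 : l₁ ≠ μ) (h2 : irrBar l₁ ≠ μ) {b : G → ℂ} (hb : IsDirr b)
    (hb0 : classInner (be K l₀) b = 0)
    (hb1 : ∀ ν, irrBar ν ≠ ν → classInner (be K ν) b = 1) : False := by
  classical
  have := Fintype.ofFinite K
  have n1 : ∀ {ν : IrrCharacter K}, irrBar ν ≠ ν → ν ≠ irrOne K := fun hν e => hν (e ▸ irrBar_one)
  have d : ∀ ν, irrBar ν ≠ ν → IsDirr (be K ν - b) := fun ν hν =>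
    dirr_sub (isGen_be ν) hb (h.be_self hν) (hb1 ν hν)
  have i1 : ∀ ν, irrBar ν ≠ ν → ∀ m, m ≠ irrOne K → classInner (be K m) (be K ν - b) =
      (if m = l₀ then 1 else 0) + (if m = ν then 1 else 0) + if m = irrBar ν then 1 else 0 := by
    intro ν hν m hm
    rw [classInner_sub_right, h.be_be hm (n1 hν)]
    have e : irrBar m = ν ↔ m = irrBar ν :=
      ⟨fun e => by rw [← e, irrBar_irrBar], fun e => by rw [e, irrBar_irrBar]⟩
    by_cases hm' : irrBar m = m
    · obtain rfl := (hr m hm').resolve_left hm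
      simp [hb0, e]
    · have : m ≠ l₀ := fun e => hm' (e ▸ h0')
      rw [hb1 m hm']
      simp only [this, e, if_false]; ring
  have o1 : ∀ ν, irrBar ν ≠ ν → classInner (be K ν - b) (fun _ => (1 : ℂ)) = 0 := fun ν hν => by
    rw [classInner_sub_left, be_one (n1 hν), orth_one (n1 hν) hb (hb1 ν hν), sub_zero]
  let t' : K := ⟨t, h.mem⟩
  have ht' : t' ≠ 1 := fun e => ne_one_of_ord2 h.ord (congrArg Subtype.val e)
  have v : ∀ ν, irrBar ν ≠ ν → (be K ν - b) t = -(l₀.1 t' + 2 * ν.1 t') := fun ν hν => by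
    have e := h.apply_eq (d ν hν).isClassFunction t'
    rw [if_neg ht', mul_zero, zero_sub] at e
    rw [e, neg_inj]
    have e2 : ∀ m : IrrCharacter K, classInner (be K ν - b) (al K m) * m.1 t' =
        (if m = l₀ then m.1 t' else 0) + (if m = ν then m.1 t' else 0) +
          if m = irrBar ν then m.1 t' else 0 := fun m => by
      rw [inner_al_eq (d ν hν) (o1 ν hν)]
      by_cases hm : m = irrOne K
      · subst hm
        rw [inner_be_one (d ν hν) (o1 ν hν), if_neg h0.symm, if_neg (n1 hν).symm,
          if_neg fun e => n1 hν (irrBar_eq_one.1 e.symm)]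
        simp
      · rw [i1 ν hν m hm]; split_ifs <;> ring
    simp only [e2, sum_add_distrib, sum_ite_eq', mem_univ, if_true]
    rcases h.lin_t ν with e | e <;> simp [irrBar, t', e] <;> ring
  have w : ∀ ν, irrBar ν ≠ ν → (be K ν - b) 1 = -1 - b 1 := fun ν hν => by
    simp [be, h.al_one]
  have T : ∀ ν, irrBar ν ≠ ν → _ := fun ν hν =>
    h.order_eq (n1 hν) (d ν hν) hb (by rw [be]; abel)
  have s : ∀ ν, irrBar ν ≠ ν → ν.1 t' = l₁.1 t' := fun ν hν => by
    have e1 := (T ν hν).trans (T l₁ hl).symm
    have e2 := mul_left_cancel₀ (Nat.cast_ne_zero.2 (index_pos' (centralizer ({t} : Set G))).ne' :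
      ((centralizer ({t} : Set G)).index : ℂ) ≠ 0) e1
    have e3 := (d ν hν).one_ne_zero
    rw [v ν hν, v l₁ hl, w ν hν, w l₁ hl, add_left_inj, add_right_inj] at e2
    rw [w ν hν] at e3
    rw [div_left_inj' e3] at e2
    rcases h.lin_t ν with a | a <;> rcases h.lin_t l₁ with b | b <;>
      rcases h.lin_t l₀ with c | c <;> simp only [t', a, b, c] at e2 ⊢ <;> norm_num at e2
  have z := h.sum_lin t'
  rw [if_neg ht', ← sum_filter_add_sum_filter_not univ (fun l => irrBar l = l)] at z
  have z1 : (univ.filter fun l : IrrCharacter K => irrBar l = l) = {irrOne K, l₀} := by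
    ext l
    simp only [mem_filter, mem_univ, true_and, mem_insert, mem_singleton]
    exact ⟨hr l, by rintro (rfl | rfl); exacts [irrBar_one, h0']⟩
  rw [z1, sum_pair h0.symm, sum_congr rfl fun ν hν => s ν (mem_filter.1 hν).2, sum_const] at z
  have z2 : 3 ≤ (univ.filter fun l : IrrCharacter K => ¬ irrBar l = l).card := by
    rw [← card_eq_three.2 ⟨l₁, irrBar l₁, μ, hl.symm, h1, h2, rfl⟩]
    refine card_le_card fun l => ?_
    simp only [mem_filter, mem_univ, true_and, mem_insert, mem_singleton]
    rintro (rfl | rfl | rfl)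
    exacts [hl, by rw [irrBar_irrBar]; exact hl.symm, hμ]
  generalize (univ.filter fun l : IrrCharacter K => ¬ irrBar l = l).card = n at z z2
  rcases h.lin_t l₁ with b | b <;> rcases h.lin_t l₀ with c | c <;>
    simp only [t', b, c, irrOne_coe, nsmul_eq_mul] at z <;> norm_cast at z <;> omega

theorem exists_common (hk : Nat.card K ≠ 2) : ∃ l₁ : IrrCharacter K, irrBar l₁ ≠ l₁ ∧
    ∃ a b : G → ℂ, IsDirr a ∧ IsDirr b ∧ be K l₁ = a + b ∧
      ∀ l, l ≠ irrOne K → classInner (be K l) a = 1 := by
  classical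
  have := Fintype.ofFinite K
  obtain ⟨l₀, h0, h0', hr⟩ := h.exists_real
  have n1 : ∀ {ν : IrrCharacter K}, irrBar ν ≠ ν → ν ≠ irrOne K := fun hν e => hν (e ▸ irrBar_one)
  obtain ⟨l₁, hl⟩ : ∃ l₁ : IrrCharacter K, irrBar l₁ ≠ l₁ := by
    by_contra hc
    push Not at hc
    have e := h.sum_lin 1
    have e2 := h.card_real
    simp only [hc, filter_true] at e2
    simp only [h.lin_one, sum_const, if_true, nsmul_eq_mul, mul_one] at e
    exact hk (by exact_mod_cast e.symm.trans (congrArg _ (by convert e2)))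
  refine ⟨l₁, hl, ?_⟩
  have b0 : ∀ ν, irrBar ν ≠ ν → classInner (be K l₀) (be K ν) = 1 := fun ν hν => by
    have : l₀ ≠ ν := fun e => hν (e ▸ h0')
    rw [h.be_be h0 (n1 hν), h0', if_neg this]; norm_num
  have key : ∀ a b : G → ℂ, IsDirr a → IsDirr b → be K l₁ = a + b → classInner a b = 0 →
      classInner (be K l₀) a = 1 → classInner (be K l₀) b = 0 →
      ∀ l, l ≠ irrOne K → classInner (be K l) a = 1 := by
    intro a b ha hb e hab a0 bb0 μ hμ
    by_contra hc
    have ba : classInner b a = 0 := classInner_eq_zero_comm.1 hab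
    have a1 : classInner (be K l₁) a = 1 := by
      rw [e, classInner_add_left, ha.classInner_self, ba, add_zero]
    have b1 : classInner (be K l₁) b = 1 := by
      rw [e, classInner_add_left, hb.classInner_self, hab, zero_add]
    have sp : ∀ ν, ν ≠ irrOne K → ν ≠ l₁ → irrBar ν ≠ l₁ → _ := fun ν h1 h2 h3 =>
      dirr_split (isGen_be ν) ha hb (h.be_self' h1) (by
        rw [← e, h.be_be h1 (n1 hl), if_neg h2, if_neg h3]; norm_num)
    have m1 : μ ≠ l₁ := fun e => hc (e ▸ a1)
    have m2 : irrBar μ ≠ l₁ := fun e => hc (by rw [← h.be_bar, e, a1])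
    have m3 : irrBar μ ≠ μ := fun e => hc (((hr μ e).resolve_left hμ) ▸ a0)
    obtain ⟨ma, mb⟩ := (sp μ hμ m1 m2).resolve_left fun e => hc e.1
    have hc' := dirr_sub (isGen_be μ) hb (h.be_self m3) mb
    refine h.not_bad h0 h0' hr hl m3 m1.symm (fun e => m2 (by rw [← e, irrBar_irrBar])) hb bb0
      fun ν hν => ?_
    by_cases q1 : ν = l₁
    · rw [q1, b1]
    by_cases q2 : irrBar ν = l₁
    · rw [← h.be_bar, q2, b1]
    by_cases q3 : ν = μ
    · rw [q3, mb]
    by_cases q4 : irrBar ν = μ
    · rw [← h.be_bar, q4, mb]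
    refine ((sp ν (n1 hν) q1 q2).resolve_left fun ⟨na, nb⟩ => ?_).2
    have nc : classInner (be K ν) (be K μ - b) = 1 := by
      rw [classInner_sub_right, h.be_be (n1 hν) hμ, if_neg q3, if_neg q4, nb]; norm_num
    have ac : classInner (be K μ - b) a = 0 := by rw [classInner_sub_left, ma, ba, sub_zero]
    have e2 : be K ν = a + (be K μ - b) := by
      generalize be K μ - b = c at *
      rw [← sub_eq_zero, ← classInner_self_eq_zero]
      simp only [classInner_sub_left, classInner_sub_right, classInner_add_left,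
        classInner_add_right, h.be_self hν, na, nc, ha.isGen.classInner_comm (isGen_be ν),
        hc'.isGen.classInner_comm (isGen_be ν), ac, classInner_eq_zero_comm.1 ac,
        ha.classInner_self, hc'.classInner_self]
      norm_num
    have e3 := b0 ν hν
    rw [e2, classInner_add_right, a0, classInner_sub_right, b0 μ m3, bb0] at e3
    norm_num at e3
  obtain ⟨μ, ν, x, y, hμ, hν, hne, hx, hy, e⟩ :=
    (isGen_be l₁).exists_of_norm_two (h.be_self hl)
  have ha : IsDirr ((x : ℂ) • μ) := hμ.isDirr.smul (by exact_mod_cast hx)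
  have hb : IsDirr ((y : ℂ) • ν) := hν.isDirr.smul (by exact_mod_cast hy)
  have hab : classInner ((x : ℂ) • μ) ((y : ℂ) • ν) = 0 := by
    rw [classInner_smul_left, classInner_smul_right, hμ.classInner_of_ne hν hne]; simp
  rcases dirr_split (isGen_be l₀) ha hb (h.be_self' h0) (e ▸ b0 l₁ hl) with ⟨p, q⟩ | ⟨p, q⟩
  · exact ⟨_, _, ha, hb, e, key _ _ ha hb e hab p q⟩
  · exact ⟨_, _, hb, ha, e.trans (add_comm _ _), key _ _ hb ha (e.trans (add_comm _ _))
      (classInner_eq_zero_comm.1 hab) q p⟩

end BSW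

end Cfsg.Agent.Dih
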