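import Cfsg.Agent.Class.Uni
import Cfsg.Agent.Class.PL
import Cfsg.Agent.Inv.WR
import Cfsg.Agent.Lie.P2Cl
import Cfsg.Agent.Comp.Layer
import Cfsg.Agent.Class.Exc1
import Cfsg.Agent.PF.FT

/-! Sylow 2-subgroups of `GL₂(q)` and `GU₂(q)`, and centralizers of involutions in linear groups. -/

set_option autoImplicit false
set_option linter.unusedVariables false
set_option linter.unusedSectionVars false

namespace Cfsg.Agent.Dih

open Cfsg.Agent.PLoc Cfsg.Agent.Inv Cfsg.Agent.Class Subgroup Matrix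
open scoped commutatorElement MatrixGroups

variable {G : Type*} [Group G]

theorem isPGroup_sup_zpowers [Finite G] {p : ℕ} [Fact p.Prime] {A : Subgroup G} (hA : IsPGroup p A)
    {z : G} {k : ℕ} (hz : z ^ p ^ k = 1) (h : ∀ a ∈ A, z * a * z⁻¹ ∈ A) :
    IsPGroup p (A ⊔ zpowers z : Subgroup G) :=
  hA.to_sup_of_normal_left' (isPGroup_zpowers hz) (zpowers_le.2 (mem_normalizer_of_conj_mem h))

theorem wreathed_sylow [Finite G] (P : Sylow 2 G) {n m : ℕ} (hn : 2 ≤ n)
    (hc : Nat.card G = 2 ^ (2 * n + 1) * m) (hm : Odd m) {x y z : G} (hx : orderOf x = 2 ^ n)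
    (hxy : x * y = y * x) (hd : zpowers x ⊓ zpowers y = ⊥) (hz : orderOf z = 2)
    (h : z * x * z⁻¹ = y) : IsWreathed (P : Subgroup G) := by
  have hy : orderOf y = 2 ^ n := by rw [← h, Inv.orderOf_conj', hx]
  have h1 : IsPGroup 2 (zpowers x ⊔ zpowers y : Subgroup G) :=
    isPGroup_sup_zpowers (isPGroup_zpowers (hx ▸ pow_orderOf_eq_one x))
      (hy ▸ pow_orderOf_eq_one y) (by
        rintro _ ⟨k, rfl⟩
        exact ⟨k, by simp only; rw [← conj_zpow, ← hxy, mul_inv_cancel_right]⟩)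
  have h' : z * y * z⁻¹ = x := by
    rw [← h, show z * (z * x * z⁻¹) * z⁻¹ = z * z * x * (z * z)⁻¹ by group, sq_of_ord2 hz]; group
  have h2 := isPGroup_sup_zpowers h1 (z := z) (k := 1) (by rw [pow_one, sq, sq_of_ord2 hz])
    (cj_le_iff'.1 (by rw [cj_sup, cj_zpowers, cj_zpowers, h, h', sup_comm]))
  obtain ⟨Q, hQ⟩ := h2.exists_le_sylow
  refine isWR_of_equiv (Sylow.equiv Q P) ⟨n, hn, card_sylow_of_card Q hc hm.not_two_dvd_nat,
    ⟨x, hQ (mem_sup_left (mem_sup_left (mem_zpowers x)))⟩,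
    ⟨y, hQ (mem_sup_left (mem_sup_right (mem_zpowers y)))⟩, ⟨z, hQ (mem_sup_right (mem_zpowers z))⟩,
    by rw [← orderOf_coe, hx], Subtype.ext hxy, ?_, by rw [← orderOf_coe, hz], Subtype.ext h⟩
  rw [eq_bot_iff]
  rintro a ⟨⟨i, hi⟩, ⟨j, hj⟩⟩
  exact Subtype.ext (hd.le ⟨⟨i, congrArg Subtype.val hi⟩, ⟨j, congrArg Subtype.val hj⟩⟩)

theorem qd_sylow [Finite G] (P : Sylow 2 G) {n m : ℕ} (hn : 3 ≤ n)
    (hc : Nat.card G = 2 ^ (n + 1) * m) (hm : Odd m) {x y : G} (hx : orderOf x = 2 ^ n)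
    (hy : orderOf y = 2) (h : y * x * y⁻¹ = x ^ (2 ^ (n - 1) - 1)) :
    IsQuasiDihedral (P : Subgroup G) := by
  have h2 := isPGroup_sup_zpowers (isPGroup_zpowers (hx ▸ pow_orderOf_eq_one x)) (z := y) (k := 1)
    (by rw [pow_one, sq, sq_of_ord2 hy]) (cj_le_iff'.1 (by
      rw [cj_zpowers, h]; exact zpowers_le.2 (npow_mem_zpowers _ _)))
  obtain ⟨Q, hQ⟩ := h2.exists_le_sylow
  exact isQD_of_equiv (Sylow.equiv Q P) ⟨n, hn, card_sylow_of_card Q hc hm.not_two_dvd_nat,
    ⟨x, hQ (mem_sup_left (mem_zpowers x))⟩, ⟨y, hQ (mem_sup_right (mem_zpowers y))⟩,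
    by rw [← orderOf_coe, hx], by rw [← orderOf_coe, hy], Subtype.ext h⟩

variable {F : Type*} [Field F]

theorem exists_unit_orderOf [Finite F] {d : ℕ} (h : d ∣ Nat.card F - 1) :
    ∃ u : Fˣ, orderOf u = d := by
  obtain ⟨g, hg⟩ := IsCyclic.exists_ofOrder_eq_natCard (α := Fˣ)
  rw [Nat.card_units] at hg
  obtain ⟨k, hk⟩ := h
  have h0 : Nat.card F - 1 ≠ 0 := hg ▸ (orderOf_pos g).ne'
  have k0 : k ≠ 0 := by rintro rfl; simp_all
  exact ⟨g ^ k, by rw [orderOf_pow_of_dvd k0 (hg ▸ hk ▸ dvd_mul_left _ _), hg, hk,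
    Nat.mul_div_cancel _ (Nat.pos_of_ne_zero k0)]⟩

/-- diagonal matrices -/
noncomputable def dg : Fˣ × Fˣ →* GL (Fin 2) F := MonoidHom.mk'
  (fun a => gl2 a.1 0 0 a.2 (by simp)) fun a b => by
    ext i j; fin_cases i <;> fin_cases j <;> simp [gl2, Matrix.mul_apply, Fin.sum_univ_two]

theorem dg_coe (a : Fˣ × Fˣ) : (dg a : Matrix (Fin 2) (Fin 2) F) = !![(a.1 : F), 0; 0, (a.2 : F)] := rfl

theorem dg_injective : Function.Injective (dg (F := F)) := fun a b h => by
  have h1 := congrArg (fun g : GL (Fin 2) F => g.1 0 0) h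
  have h2 := congrArg (fun g : GL (Fin 2) F => g.1 1 1) h
  exact Prod.ext (Units.ext h1) (Units.ext h2)

/-- the swap -/
noncomputable def sw : GL (Fin 2) F := gl2 0 1 1 0 (by simp)

theorem sw_coe : ((sw : GL (Fin 2) F) : Matrix (Fin 2) (Fin 2) F) = !![0, 1; 1, 0] := rfl

theorem sw_ord : orderOf (sw : GL (Fin 2) F) = 2 := ord2_iff.2 ⟨by
    ext i j; fin_cases i <;> fin_cases j <;> simp [sw_coe, Matrix.mul_apply, Fin.sum_univ_two],
  fun h => by simpa [sw_coe] using congrArg (fun g : GL (Fin 2) F => g.1 0 0) h⟩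

theorem sw_conj (a b : Fˣ) : sw * dg (a, b) * sw⁻¹ = dg (b, a) := by
  rw [mul_inv_eq_iff_eq_mul]
  ext i j; fin_cases i <;> fin_cases j <;> simp [sw_coe, dg_coe, Matrix.mul_apply, Fin.sum_univ_two]

theorem dg_disj (a : Fˣ) : zpowers (dg (a, 1)) ⊓ zpowers (dg (1, a)) = ⊥ := by
  rw [eq_bot_iff]
  rintro _ ⟨⟨i, rfl⟩, ⟨j, hj⟩⟩
  simp only [← map_zpow] at hj ⊢
  have h1 := congrArg Prod.fst (dg_injective hj)
  simp only [Prod.pow_fst, _root_.one_zpow] at h1
  rw [mem_bot, ← map_one dg]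
  exact congrArg _ (Prod.ext h1.symm (by simp))

theorem dg_ord (a : Fˣ) : orderOf (dg (a, 1)) = orderOf a := by
  rw [orderOf_injective _ dg_injective, Prod.orderOf_mk, orderOf_one, Nat.lcm_one_right]

theorem exists_two_part {a : ℕ} (h : 4 ∣ a) (h0 : a ≠ 0) : ∃ k m, Odd m ∧ a = 2 ^ (k + 2) * m := by
  obtain ⟨b, rfl⟩ := h
  obtain ⟨k, m, hm, e⟩ := Nat.exists_eq_two_pow_mul_odd (n := b) (by omega)
  exact ⟨k, m, hm, by rw [e]; ring⟩

theorem s1217 {F : Type*} [Field F] [Fintype F] (P : Sylow 2 (GL (Fin 2) F)) : (Fintype.card F % 4 = 3 → Cfsg.IsQuasiDihedral (P : Subgroup (GL (Fin 2) F))) ∧ (Fintype.card F % 4 = 1 → Cfsg.IsWreathed (P : Subgroup (GL (Fin 2) F))) := by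
  classical
  have hc := card_GL2 (F := F)
  have h1 := Fintype.one_lt_card (α := F)
  rw [show Fintype.card F ^ 2 - 1 = (Fintype.card F + 1) * (Fintype.card F - 1) from
    Nat.sq_sub_sq _ 1] at hc
  constructor <;> intro hq
  · obtain ⟨k, m, hm, e⟩ := exists_two_part (a := Fintype.card F + 1) (by omega) (by omega)
    obtain ⟨r, hr⟩ : ∃ r, Fintype.card F - 1 = 2 * (2 * r + 1) := ⟨Fintype.card F / 4, by omega⟩
    obtain ⟨p, _⟩ := CharP.exists F
    have : Fact p.Prime := ⟨CharP.char_is_prime F p⟩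
    let K := FiniteField.Extension F p 2
    have hK : Nat.card K = Fintype.card F ^ 2 := by
      rw [FiniteField.natCard_extension, Nat.card_eq_fintype_card]
    obtain ⟨ξ, hξ⟩ := exists_unit_orderOf (F := K) (d := 2 ^ (k + 3)) ⟨m * (2 * r + 1), by
      rw [hK, show Fintype.card F ^ 2 - 1 = (Fintype.card F + 1) * (Fintype.card F - 1) from
        Nat.sq_sub_sq _ 1, e, hr]; ring⟩
    let b := Module.finBasisOfFinrankEq F K (FiniteField.finrank_extension F p 2)
    let E : (K ≃ₗ[F] K) ≃* GL (Fin 2) F :=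
      (LinearMap.GeneralLinearGroup.generalLinearEquiv F K).symm.trans
        (GeneralLinearGroup.toLin' b).symm
    let φ := FiniteField.frobeniusAlgEquivOfAlgebraic F K
    have hφ : ∀ x, φ x = x ^ Fintype.card F := fun x => rfl
    let μ := DistribMulAction.toModuleAut F K (S := Kˣ)
    have hμ : Function.Injective μ := fun a b h => by
      simpa [μ, Units.smul_def, Units.ext_iff] using congrArg (fun g : K ≃ₗ[F] K => g 1) h
    refine qd_sylow P (n := k + 3) (m := (2 * r + 1) * (Fintype.card F * (m * (2 * r + 1))))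
      (by omega) (by rw [hc, e, hr]; ring) ((odd_two_mul_add_one r).mul
        ((Nat.odd_iff.2 (by omega)).mul (hm.mul (odd_two_mul_add_one r)))) (x := E (μ ξ))
      (y := E φ.toLinearEquiv) (by rw [MulEquiv.orderOf_eq, orderOf_injective _ hμ, hξ]) ?_ ?_
    · rw [MulEquiv.orderOf_eq]
      refine ord2_iff.2 ⟨LinearEquiv.ext fun x => ?_, fun h => ?_⟩
      · change φ (φ x) = x
        have := Fintype.ofFinite K
        rw [hφ, hφ, ← pow_mul, ← sq, ← hK, Nat.card_eq_fintype_card, FiniteField.pow_card]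
      · have h2 : (ξ : K) ^ Fintype.card F = ξ := congrArg (fun g : K ≃ₗ[F] K => g ξ) h
        have h3 : ξ ^ (Fintype.card F - 1) = 1 := by
          rw [← mul_left_inj ξ, ← pow_succ, Nat.sub_add_cancel h1.le, one_mul]
          exact Units.ext (by simpa using h2)
        have := orderOf_dvd_of_pow_eq_one h3
        rw [hξ, hr, pow_succ', pow_succ'] at this
        have := Nat.dvd_of_mul_dvd_mul_left (by norm_num) this
        have := (dvd_mul_right _ _).trans this
        omega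
    · rw [← map_inv, ← map_mul, ← map_mul, ← map_pow, ← map_pow]
      congr 1
      rw [mul_inv_eq_iff_eq_mul]
      refine LinearEquiv.ext fun x => ?_
      change φ (ξ * x) = (ξ ^ (2 ^ (k + 3 - 1) - 1) : Kˣ) * φ x
      rw [map_mul, hφ, ← Units.val_pow_eq_pow_val]
      congr 2
      rw [pow_eq_pow_iff_modEq, hξ]
      obtain ⟨s, rfl⟩ := hm
      have := Nat.one_le_two_pow (n := k + 2)
      rw [show Fintype.card F = 2 ^ (k + 3 - 1) - 1 + 2 ^ (k + 3) * s by
        rw [show k + 3 - 1 = k + 2 by omega, pow_succ 2 (k + 2)]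
        zify [this] at e ⊢
        linear_combination e]
      exact Nat.add_mul_mod_self_left _ _ _
  · obtain ⟨k, m, hm, e⟩ := exists_two_part (a := Fintype.card F - 1) (by omega) (by omega)
    obtain ⟨r, hr⟩ : ∃ r, Fintype.card F + 1 = 2 * (2 * r + 1) := ⟨Fintype.card F / 4, by omega⟩
    obtain ⟨ζ, hζ⟩ := exists_unit_orderOf (F := F) (d := 2 ^ (k + 2))
      ⟨m, by rw [Nat.card_eq_fintype_card, e]⟩
    exact wreathed_sylow P (n := k + 2) (m := m * (Fintype.card F * ((2 * r + 1) * m))) (by omega)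
      (by rw [hc, e, hr]; ring) (hm.mul ((Nat.odd_iff.2 (by omega)).mul
        ((odd_two_mul_add_one r).mul hm))) (by rw [dg_ord, hζ])
      (by rw [← map_mul, ← map_mul, mul_comm]) (dg_disj ζ) sw_ord (sw_conj _ _)

theorem mem_GU2 {σ : F →+* F} {q : ℕ} (h : UF σ q) {g : GL (Fin 2) F} :
    g ∈ GU 2 F q ↔ ∀ u v : Fin 2 → F, (g.1 *ᵥ u) 0 * σ ((g.1 *ᵥ v) 0) + (g.1 *ᵥ u) 1 * σ ((g.1 *ᵥ v) 1)
      = u 0 * σ (v 0) + u 1 * σ (v 1) := by
  refine forall₂_congr fun u v => ?_
  simp [hermForm, h.eq, Fin.sum_univ_two]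

theorem s1218 {F : Type*} [Field F] [Fintype F] (q : ℕ) (hF : Fintype.card F = q ^ 2) (hq : Odd q) (P : Sylow 2 (GU 2 F q)) : (q % 4 = 1 → Cfsg.IsQuasiDihedral (P : Subgroup (GU 2 F q))) ∧ (q % 4 = 3 → Cfsg.IsWreathed (P : Subgroup (GU 2 F q))) := by
  obtain ⟨σ, h⟩ := exists_UF hF
  have h2 := h.two_le
  have hc : Nat.card (GU 2 F q) = q * ((q + 1) * ((q + 1) * (q - 1))) := by
    rw [card_GU h, ← Nat.sq_sub_sq q 1]; simp [guCard, uFac, Finset.prod_range_succ]
  have hσ : ∀ a : Fˣ, σ a = (a ^ q : Fˣ) := fun a => by rw [h.eq, Units.val_pow_eq_pow_val]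
  constructor <;> intro hq
  · obtain ⟨k, m, hm, e⟩ := exists_two_part (a := q - 1) (by omega) (by omega)
    obtain ⟨r, hr⟩ : ∃ r, q + 1 = 2 * (2 * r + 1) := ⟨q / 4, by omega⟩
    obtain ⟨ξ, hξ⟩ := exists_unit_orderOf (F := F) (d := 2 ^ (k + 3)) ⟨m * (2 * r + 1), by
      rw [h.card_sub_one, e, hr]; ring⟩
    obtain ⟨c, hc'⟩ := h.exists_norm (μ := -1) (by simp)
    have c0 : c ≠ 0 := by rintro rfl; simp at hc'
    have t0 : (2 : F) ≠ 0 := fun t => by
      have : CharP F 2 := CharTwo.of_one_ne_zero_of_two_eq_zero one_ne_zero t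
      have := FiniteField.even_card_of_char_two (F := F) (ringChar.eq F 2)
      rw [hF, Nat.pow_mod, show q % 2 = 1 by omega] at this
      omega
    let B : GL (Fin 2) F := gl2 1 1 c (-c) (by
      rw [show 1 * -c - 1 * c = -(2 * c) by ring]; simp [c0, t0])
    have hB : ∀ u : Fin 2 → F, B.1 *ᵥ u = ![u 0 + u 1, c * (u 0 - u 1)] := fun u => by
      ext i; fin_cases i <;> simp [B, gl2, mulVec, dotProduct, Fin.sum_univ_two]; ring
    have key : ∀ g : GL (Fin 2) F, (∀ u v : Fin 2 → F, (g.1 *ᵥ u) 0 * σ ((g.1 *ᵥ v) 1) +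
        (g.1 *ᵥ u) 1 * σ ((g.1 *ᵥ v) 0) = u 0 * σ (v 1) + u 1 * σ (v 0)) →
        B * g * B⁻¹ ∈ GU 2 F q := fun g hg => (mem_GU2 h).2 fun u v => by
      obtain ⟨u, rfl⟩ : ∃ u', u = B.1 *ᵥ u' := ⟨(B⁻¹).1 *ᵥ u, by
        rw [mulVec_mulVec, ← Units.val_mul, mul_inv_cancel, Units.val_one, one_mulVec]⟩
      obtain ⟨v, rfl⟩ : ∃ v', v = B.1 *ᵥ v' := ⟨(B⁻¹).1 *ᵥ v, by
        rw [mulVec_mulVec, ← Units.val_mul, mul_inv_cancel, Units.val_one, one_mulVec]⟩
      have e : ∀ u, (B * g * B⁻¹).1 *ᵥ (B.1 *ᵥ u) = B.1 *ᵥ (g.1 *ᵥ u) := fun u => by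
        rw [mulVec_mulVec, mulVec_mulVec, ← Units.val_mul, inv_mul_cancel_right, Units.val_mul]
      have := hg u v
      rw [e, e, hB, hB, hB, hB]
      generalize g.1 *ᵥ u = u' at *
      generalize g.1 *ᵥ v = v' at *
      simp only [cons_val_zero, cons_val_one, map_add, map_mul, map_sub]
      linear_combination 2 * this + ((u' 0 - u' 1) * (σ (v' 0) - σ (v' 1)) -
        (u 0 - u 1) * (σ (v 0) - σ (v 1))) * hc'
    have hq2 : ξ ^ (q * q) = ξ := Units.ext (by
      rw [pow_mul, ← hσ, ← hσ, h.σσ])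
    refine qd_sylow P (n := k + 3) (m := q * ((2 * r + 1) * ((2 * r + 1) * m))) (by omega)
      (by rw [hc, e, hr]; ring) ((Nat.odd_iff.2 (by omega)).mul ((odd_two_mul_add_one r).mul
        ((odd_two_mul_add_one r).mul hm))) (x := ⟨_, key (dg (ξ, (ξ ^ q)⁻¹)) fun u v => ?_⟩)
      (y := ⟨_, key sw fun u v => ?_⟩) ?_ ?_ (Subtype.ext ?_)
    · simp only [dg_coe, mulVec, dotProduct, Fin.sum_univ_two, of_apply, cons_val', cons_val_zero,
        cons_val_one, cons_val_fin_one, zero_mul, add_zero, zero_add, map_mul,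
        Units.val_inv_eq_inv_val, ← hσ, map_inv₀, h.σσ]
      have : σ ξ ≠ 0 := by simp
      field_simp
    · simp [sw_coe, mulVec, dotProduct, Fin.sum_univ_two, add_comm]
    · rw [orderOf_mk, Inv.orderOf_conj', orderOf_injective _ dg_injective, Prod.orderOf_mk,
        orderOf_inv, hξ, Nat.lcm_eq_left (hξ ▸ orderOf_pow_dvd q)]
    · rw [orderOf_mk, Inv.orderOf_conj', sw_ord]
    · have e1 : ξ ^ (2 ^ (k + 3 - 1) - 1) = (ξ ^ q)⁻¹ := by
        rw [eq_inv_iff_mul_eq_one, ← pow_add, ← orderOf_dvd_iff_pow_eq_one, hξ]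
        obtain ⟨s, rfl⟩ := hm
        have := Nat.one_le_two_pow (n := k + 2)
        refine ⟨s + 1, ?_⟩
        rw [show k + 3 - 1 = k + 2 by omega, pow_succ 2 (k + 2)]
        zify [this, show 1 ≤ q by omega] at e ⊢
        linear_combination e
      simp only [coe_mul, coe_inv, SubmonoidClass.mk_pow, conj_pow]
      rw [← map_pow, Prod.pow_mk, inv_pow, ← pow_mul, mul_comm q, pow_mul, e1, inv_pow, inv_inv,
        ← pow_mul, hq2, ← sw_conj ξ]
      group
  · obtain ⟨k, m, hm, e⟩ := exists_two_part (a := q + 1) (by omega) (by omega)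
    obtain ⟨r, hr⟩ : ∃ r, q - 1 = 2 * (2 * r + 1) := ⟨q / 4, by omega⟩
    obtain ⟨ζ, hζ⟩ := exists_unit_orderOf (F := F) (d := 2 ^ (k + 2))
      ⟨(q - 1) * m, by rw [h.card_sub_one, e]; ring⟩
    have hn : (ζ : F) * σ ζ = 1 := by
      rw [hσ, ← Units.val_mul, ← pow_succ', e, pow_mul, ← hζ, pow_orderOf_eq_one, one_pow]; rfl
    refine wreathed_sylow P (n := k + 2) (m := q * (m * (m * (2 * r + 1)))) (by omega)
      (by rw [hc, e, hr]; ring) ((Nat.odd_iff.2 (by omega)).mul (hm.mul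
        (hm.mul (odd_two_mul_add_one r)))) (x := ⟨dg (ζ, 1), (mem_GU2 h).2 fun u v => ?_⟩)
      (y := ⟨dg (1, ζ), (mem_GU2 h).2 fun u v => ?_⟩) (z := ⟨sw, (mem_GU2 h).2 fun u v => ?_⟩)
      (by rw [orderOf_mk, dg_ord, hζ]) (Subtype.ext (by
        simp only [coe_mul]; rw [← map_mul, ← map_mul, mul_comm])) ?_
      (by rw [orderOf_mk, sw_ord]) (Subtype.ext (sw_conj _ _))
    · simp [dg_coe, mulVec, dotProduct, Fin.sum_univ_two]
      linear_combination (u 0 * σ (v 0)) * hn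
    · simp [dg_coe, mulVec, dotProduct, Fin.sum_univ_two]
      linear_combination (u 1 * σ (v 1)) * hn
    · simp [sw_coe, mulVec, dotProduct, Fin.sum_univ_two, add_comm]
    · rw [eq_bot_iff]
      rintro a ⟨⟨i, hi⟩, ⟨j, hj⟩⟩
      exact Subtype.ext ((dg_disj ζ).le ⟨⟨i, congrArg Subtype.val hi⟩, ⟨j, congrArg Subtype.val hj⟩⟩)

theorem sl_mul {ι : Type*} [Fintype ι] [DecidableEq ι] (A B : SpecialLinearGroup ι F) :
    (A * B).1 = A.1 * B.1 := rfl

theorem sl_one {ι : Type*} [Fintype ι] [DecidableEq ι] : (1 : SpecialLinearGroup ι F).1 = 1 := rfl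

theorem sl_ext {ι : Type*} [Fintype ι] [DecidableEq ι] {A B : SpecialLinearGroup ι F}
    (h : A.1 = B.1) : A = B := Subtype.ext h

theorem eq_zero_of_rank {ι : Type*} [Fintype ι] [DecidableEq ι] {A : Matrix ι ι F}
    (h : A.rank = 0) : A = 0 := by
  rw [Matrix.rank, Submodule.finrank_eq_zero, LinearMap.range_eq_bot] at h
  exact Matrix.toLin'.injective (h.trans (map_zero _).symm)

section Blk
variable {m : ℕ}

/-- block diagonal matrices -/
def blk (A : Matrix (Fin m) (Fin m) F) (b : F) : Matrix (Fin (m + 1)) (Fin (m + 1)) F :=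
  reindex finSumFinEquiv finSumFinEquiv (fromBlocks A 0 0 (diagonal fun _ : Fin 1 => b))

@[simp] theorem blk_cc (A : Matrix (Fin m) (Fin m) F) (b : F) (i j : Fin m) :
    blk A b i.castSucc j.castSucc = A i j := by simp [blk]
@[simp] theorem blk_cl (A : Matrix (Fin m) (Fin m) F) (b : F) (i : Fin m) :
    blk A b i.castSucc (Fin.last m) = 0 := by simp [blk]
@[simp] theorem blk_lc (A : Matrix (Fin m) (Fin m) F) (b : F) (i : Fin m) :
    blk A b (Fin.last m) i.castSucc = 0 := by simp [blk]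
@[simp] theorem blk_ll (A : Matrix (Fin m) (Fin m) F) (b : F) :
    blk A b (Fin.last m) (Fin.last m) = b := by simp [blk]

theorem blk_mul (A B : Matrix (Fin m) (Fin m) F) (a b : F) :
    blk A a * blk B b = blk (A * B) (a * b) := by
  simp [blk, submatrix_mul_equiv, fromBlocks_multiply]

theorem blk_one : blk (1 : Matrix (Fin m) (Fin m) F) 1 = 1 := by simp [blk]

theorem det_blk (A : Matrix (Fin m) (Fin m) F) (b : F) : (blk A b).det = A.det * b := by
  simp [blk]

theorem blk_inj {A B : Matrix (Fin m) (Fin m) F} {a b : F} (h : blk A a = blk B b) :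
    A = B ∧ a = b :=
  ⟨Matrix.ext fun i j => by rw [← blk_cc A a, h, blk_cc], by rw [← blk_ll A a, h, blk_ll]⟩

theorem blk_diag (c d : F) : blk (scalar (Fin m) c) d =
    diagonal fun i : Fin (m + 1) => if i = Fin.last m then d else c := by
  ext i j
  induction i using Fin.lastCases <;> induction j using Fin.lastCases <;>
    simp [diagonal_apply, Fin.castSucc_ne_last, (Fin.castSucc_ne_last _).symm]

theorem eq_blk_of_comm {M : Matrix (Fin (m + 1)) (Fin (m + 1)) F} {c d : F} (hcd : c ≠ d)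
    (h : M * blk (scalar (Fin m) c) d = blk (scalar (Fin m) c) d * M) : ∃ A b, M = blk A b := by
  refine ⟨M.submatrix Fin.castSucc Fin.castSucc, M (Fin.last m) (Fin.last m), ?_⟩
  rw [blk_diag] at h
  ext i j
  have := congrFun (congrFun h i) j
  rw [mul_diagonal, diagonal_mul] at this
  induction i using Fin.lastCases <;> induction j using Fin.lastCases <;>
    simp_all [Fin.castSucc_ne_last, mul_comm, hcd.symm]

/-- `GL_m` inside `SL_{m+1}` -/
noncomputable def glEmb : GL (Fin m) F →* SpecialLinearGroup (Fin (m + 1)) F := MonoidHom.mk'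
  (fun A => ⟨blk A (A.1.det)⁻¹, by rw [det_blk, mul_inv_cancel₀ A.det_ne_zero]⟩)
  fun A B => sl_ext (by
    change blk _ _ = blk _ _ * blk _ _
    simp [blk_mul, mul_comm])

theorem glEmb_coe (A : GL (Fin m) F) : (glEmb A).1 = blk A (A.1.det)⁻¹ := rfl

theorem glEmb_injective : Function.Injective (glEmb (m := m) (F := F)) := fun A B h =>
  Units.ext (blk_inj (congrArg Subtype.val h)).1

theorem centralizer_eq_glEmb {t : SpecialLinearGroup (Fin (m + 1)) F} {c d : F} (hcd : c ≠ d)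
    (ht : t.1 = blk (scalar (Fin m) c) d) : centralizer {t} = glEmb.range := by
  ext g
  rw [mem_centralizer_singleton_iff]
  constructor
  · intro h
    have h1 : g.1 * t.1 = t.1 * g.1 := congrArg Subtype.val h
    rw [ht] at h1
    obtain ⟨A, b, e⟩ := eq_blk_of_comm hcd h1
    have h2 := g.2
    rw [e, det_blk] at h2
    exact ⟨GeneralLinearGroup.mkOfDetNeZero A (left_ne_zero_of_mul_eq_one h2), sl_ext (by
      rw [glEmb_coe, e]; exact congrArg _ (eq_inv_of_mul_eq_one_right h2).symm)⟩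
  · rintro ⟨A, rfl⟩
    refine sl_ext ?_
    simp only [sl_mul, ht, glEmb_coe, blk_mul]
    rw [mul_comm d, (scalar_commute c (Commute.all c) A.1).eq]

end Blk

theorem two_ne_zero_of_odd [Fintype F] (hF : Odd (Fintype.card F)) : (2 : F) ≠ 0 := fun t => by
  have : CharP F 2 := CharTwo.of_one_ne_zero_of_two_eq_zero one_ne_zero t
  have := FiniteField.even_card_of_char_two (F := F) (ringChar.eq F 2)
  rw [Nat.odd_iff] at hF
  omega

theorem neg_one_ne_one (h : (2 : F) ≠ 0) : (-1 : F) ≠ 1 := fun e => h (by linear_combination -e)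

theorem sl3_invol_conj (h2 : (2 : F) ≠ 0) {T : SL(3, F)} (h : T * T = 1) (h1 : T ≠ 1) :
    ∃ g : SL(3, F), (g * T * g⁻¹).1 = blk (scalar (Fin 2) (-1)) 1 := by
  have hT : T.1 * T.1 = 1 := congrArg Subtype.val h
  have idem : ∀ {E : Matrix (Fin 3) (Fin 3) F}, E * E = (2 : F) • E → E.rank = 1 →
      ∃ a l, a ≠ 0 ∧ l ≠ 0 ∧ l ⬝ᵥ a = 2 ∧ E = vecMulVec a l := fun {E} h h' => by
    obtain ⟨a, l, ha, hl, rfl⟩ := exists_vecMulVec_of_rank h'
    refine ⟨a, l, ha, hl, ?_, rfl⟩
    obtain ⟨i, hi⟩ := Function.ne_iff.1 ha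
    obtain ⟨j, hj⟩ := Function.ne_iff.1 hl
    have := congrFun (congrFun h i) j
    rw [vecMulVec_mul_vecMulVec] at this
    simp only [vecMulVec_apply, Pi.smul_apply, smul_eq_mul, Matrix.smul_apply] at this
    exact mul_right_cancel₀ (mul_ne_zero hi hj) (by linear_combination this)
  have h3 := rank_add_rank_le_card_of_mul_eq_zero (A := 1 + T.1) (B := 1 - T.1) (by
    rw [add_mul, mul_sub, mul_sub, hT]; simp)
  have r1 : (1 + T.1).rank ≠ 0 := fun e => by
    have e1 : T.1 = -1 := eq_neg_of_add_eq_zero_right (eq_zero_of_rank e)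
    have := T.2
    rw [e1, det_neg] at this
    exact neg_one_ne_one h2 (by simp at this; linear_combination this)
  have r2 : (1 - T.1).rank ≠ 0 := fun e =>
    h1 (Subtype.ext (sub_eq_zero.1 (eq_zero_of_rank e)).symm)
  have r3 : (1 - T.1).rank ≠ 1 := fun e => by
    obtain ⟨a, l, -, -, h3, h4⟩ := idem (by
      rw [sub_mul, mul_sub, mul_sub, hT, two_smul]; simp; abel) e
    have e1 : T.1 = 1 + vecMulVec (-a) l := by rw [neg_vecMulVec, ← h4]; simp
    have := T.2
    rw [e1, det_one_add_vecMulVec, dotProduct_neg, h3] at this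
    exact h2 (by linear_combination -this)
  obtain ⟨a, l, ha, hl, h4, h5⟩ := idem (E := 1 + T.1) (by
    rw [add_mul, mul_add, mul_add, hT, two_smul]; simp [add_comm]) (by
      rw [Fintype.card_fin] at h3; omega)
  obtain ⟨g, e1, e2⟩ := exists_SL_flag (ι := Fin 3) (by simp) ha
    (a' := Pi.single 2 2) (l' := Pi.single 2 1) (by simp [h2]) hl (by simp) (by simp [h4])
  refine ⟨g, ?_⟩
  have h6 := conj_vecMulVec (sl_mul_inv g) (-a) l
  have h7 : T.1 = -(1 + vecMulVec (-a) l) := by rw [neg_vecMulVec, ← h5]; simp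
  rw [sl_mul, sl_mul, h7, mul_neg, neg_mul, h6, mulVec_neg,
    e1, ← e2, vecMul_vecMul, sl_mul_inv, vecMul_one, blk_diag]
  ext i j
  fin_cases i <;> fin_cases j <;> simp [vecMulVec_apply, Fin.last]; norm_num

theorem s1219 {F : Type*} [Field F] [Fintype F] (hF : Odd (Fintype.card F)) (t : Matrix.ProjectiveSpecialLinearGroup (Fin 3) F) (ht : orderOf t = 2) : ∃ (Z : Subgroup (GL (Fin 2) F)) (_ : Z.Normal), Z ≤ Subgroup.center (GL (Fin 2) F) ∧ Nat.card Z = Nat.gcd (Fintype.card F - 1) 3 ∧ Nonempty (↥(Subgroup.centralizer ({t} : Set (Matrix.ProjectiveSpecialLinearGroup (Fin 3) F))) ≃* GL (Fin 2) F ⧸ Z) := by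
  classical
  have h2 := two_ne_zero_of_odd hF
  have hZ : ∀ z ∈ center SL(3, F), z ^ 3 = 1 := fun z hz =>
    orderOf_dvd_iff_pow_eq_one.1 ((orderOf_dvd_card_of_mem hz).trans (by
      rw [card_center_SL]; exact Nat.gcd_dvd_left _ _))
  obtain ⟨T', rfl⟩ := QuotientGroup.mk_surjective t
  have h3 : T' * T' ∈ center SL(3, F) := (QuotientGroup.eq_one_iff _).1 (sq_of_ord2 ht)
  have h4 : (T' : PSL(3, F)) = (T' * (T' * T') : SL(3, F)) := by
    rw [QuotientGroup.mk_mul, (QuotientGroup.eq_one_iff _).2 h3, mul_one]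
  obtain ⟨g, hg⟩ := sl3_invol_conj h2 (T := T' * (T' * T')) (by
    rw [← hZ _ h3]; simp only [pow_succ, pow_zero, one_mul, mul_assoc]) fun e =>
    ne_one_of_ord2 ht (by rw [h4, e]; rfl)
  rw [h4]
  generalize T' * (T' * T') = T at hg
  have hC := centralizer_eq_glEmb (neg_one_ne_one h2) hg
  have hsq : (g * T * g⁻¹) * (g * T * g⁻¹) = 1 := sl_ext (by
    rw [sl_mul, hg, blk_mul, ← map_mul]; simp [blk_one, sl_one])
  have e1 : centralizer {((g * T * g⁻¹ : SL(3, F)) : PSL(3, F))} =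
      cj (g : PSL(3, F)) (centralizer {(T : PSL(3, F))}) := by
    rw [← PLoc.centralizer_zpowers, ← PLoc.centralizer_zpowers, cj_centralizer, cj_zpowers]; rfl
  generalize g * T * g⁻¹ = T₀ at *
  let f : GL (Fin 2) F →* PSL(3, F) := (QuotientGroup.mk' _).comp glEmb
  have hf : f.range = centralizer {(T₀ : PSL(3, F))} := by
    rw [MonoidHom.range_comp, ← hC]
    refine le_antisymm ?_ fun x hx => ?_
    · rintro _ ⟨x, hx, rfl⟩
      exact mem_centralizer_singleton_iff.2 (congrArg QuotientGroup.mk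
        (mem_centralizer_singleton_iff.1 hx))
    · obtain ⟨x, rfl⟩ := QuotientGroup.mk_surjective x
      refine ⟨x, mem_centralizer_singleton_iff.2 ?_, rfl⟩
      have h5 : (x * T₀)⁻¹ * (T₀ * x) ∈ center SL(3, F) :=
        QuotientGroup.eq.1 (mem_centralizer_singleton_iff.1 hx)
      have h6 := hZ _ h5
      generalize hz : (x * T₀)⁻¹ * (T₀ * x) = z at h5 h6
      have h7 : x⁻¹ * T₀ * x = T₀ * z := by rw [← hz]; group
      have h8 : z * z = 1 := by
        calc _ = T₀ * T₀ * (z * z) := by rw [hsq, one_mul]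
          _ = T₀ * z * (T₀ * z) := by
            rw [mul_assoc T₀ z, ← mul_assoc z T₀, ← mem_center_iff.1 h5 T₀, mul_assoc, mul_assoc]
          _ = x⁻¹ * (T₀ * T₀) * x := by rw [← h7]; group
          _ = 1 := by rw [hsq]; group
      rw [pow_succ, sq, h8, one_mul] at h6
      rw [h6, inv_mul_eq_one] at hz
      exact hz
  have hk : f.ker = (center SL(3, F)).comap glEmb := by
    rw [← MonoidHom.comap_ker, QuotientGroup.ker_mk']
  refine ⟨f.ker, inferInstance, fun A hA => mem_center_iff.2 fun B => glEmb_injective ?_, ?_, ?_⟩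
  · rw [map_mul, map_mul, mem_center_iff.1 (hk.le hA)]
  · rw [hk, card_comap_of_injective _ glEmb_injective, ← hC,
      inf_eq_right.2 (center_le_centralizer _), card_center_SL, Nat.gcd_comm]; rfl
  · obtain ⟨e⟩ := nonempty_equiv_cj (g : PSL(3, F)) (centralizer {(T : PSL(3, F))})
    exact ⟨e.trans ((MulEquiv.subgroupCongr (hf.trans e1).symm).trans
      (QuotientGroup.quotientKerEquivRange f).symm)⟩

theorem s1339 {F : Type*} [Field F] [Fintype F] [DecidableEq F] (hF : Fintype.card F = 2) (n : ℕ) (hn : 3 ≤ n) (i j : Fin n) (hij : i ≠ j) (t : Matrix.SpecialLinearGroup (Fin n) F) (ht : (t : Matrix (Fin n) (Fin n) F) = Matrix.transvection i j 1) : Cfsg.generalizedFittingSubgroup ↥(Subgroup.centralizer ({t} : Set (Matrix.SpecialLinearGroup (Fin n) F))) = Cfsg.pCore 2 ↥(Subgroup.centralizer ({t} : Set (Matrix.SpecialLinearGroup (Fin n) F))) := by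
  have : CharP F 2 := charP_of_card_eq_prime_pow (f := 1) hF
  have : Nonempty (Fin n) := ⟨i⟩
  have h1 : (slLin (Fin n) F).range = LinearEquiv.det.ker := by
    ext g
    exact ⟨by rintro ⟨A, rfl⟩; exact det_slLin A, fun h => exists_slLin h⟩
  have ho : orderOf t = 2 := ord2_iff.2 ⟨sl_ext (by
    rw [sl_mul, ht, transvection_mul_transvection_same i j hij,
      CharTwo.add_self_eq_zero, transvection_zero]; rfl), fun e => by
    have := congrFun (congrFun ht i) j
    rw [e] at this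
    simp [transvection, hij] at this⟩
  obtain ⟨h2, h3⟩ := (Lie.p2All_GL.of_normal (slLin (Fin n) F) slLin_injective
    (h1 ▸ inferInstance)).result (card_eq_one.1 (by rw [card_center_SL, hF]; simp))
  have h4 := (map_eq_bot_iff_of_injective _ (subtype_injective _)).1 (h3 t ho)
  rw [generalizedFittingSubgroup, Core.fitting_eq_pCore_of_pPrimeCore_eq_bot 2 h4, sup_eq_right,
    ← Comp.Lay_top, Comp.Lay_eq_bot_iff.2 fun K hK => ?_]
  · exact bot_le
  have h5 := hK.map_inj (f := QuotientGroup.mk' (pPrimeCore 2 _)) (by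
    rw [← MonoidHom.ker_eq_bot_iff, QuotientGroup.ker_mk', h4])
  rw [map_top_of_surjective _ (QuotientGroup.mk'_surjective _), Comp.compIn_top] at h5
  exact h2 t ho _ h5

theorem qs_SL [Fintype F] {m : ℕ} (hm : 2 ≤ m) (h : ¬ (m = 2 ∧ Fintype.card F ≤ 3)) :
    Comp.QS (⊤ : Subgroup (SpecialLinearGroup (Fin m) F)) := by
  have hp : commutator (SpecialLinearGroup (Fin m) F) = ⊤ := by
    rcases hm.eq_or_lt with rfl | hm
    · exact SL2_perfect (by omega)
    · exact commutator_SL_eq_top (by rw [Fintype.card_fin]; omega)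
  have : Nontrivial (Fin m) := Fin.nontrivial_iff_two_le.2 hm
  exact Comp.isQuasisimple_iff_top.1 ⟨⟨hp⟩, PSL_isSimpleGroup_of_perfect hp⟩

theorem s1340 {F : Type*} [Field F] [Fintype F] [DecidableEq F] (hF : Odd (Fintype.card F)) (n : ℕ) (hn : 3 ≤ n) (h33 : ¬ (n = 3 ∧ Fintype.card F = 3)) : ∃ t : Matrix.GeneralLinearGroup (Fin n) F, orderOf t = 2 ∧ t ∉ Subgroup.center (Matrix.GeneralLinearGroup (Fin n) F) ∧ Cfsg.HasComponent (↥(Subgroup.centralizer ({t} : Set (Matrix.GeneralLinearGroup (Fin n) F))) ⧸ Cfsg.oddCore ↥(Subgroup.centralizer ({t} : Set (Matrix.GeneralLinearGroup (Fin n) F)))) := by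
  obtain ⟨m, rfl⟩ : ∃ m, n = m + 1 := ⟨n - 1, by omega⟩
  have h2 := neg_one_ne_one (two_ne_zero_of_odd hF)
  have h1 := Fintype.one_lt_card (α := F)
  have hq := qs_SL (F := F) (m := m) (by omega) (by rw [Nat.odd_iff] at hF; omega)
  let t : GL (Fin (m + 1)) F := GeneralLinearGroup.mkOfDetNeZero (blk (scalar (Fin m) 1) (-1)) (by
    simp [det_blk])
  have ht : t.1 = blk (scalar (Fin m) 1) (-1) := rfl
  let f : SpecialLinearGroup (Fin m) F →* GL (Fin (m + 1)) F :=
    SpecialLinearGroup.toGL.comp (glEmb.comp SpecialLinearGroup.toGL)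
  have hf : ∀ A, (f A).1 = blk A.1 1 := fun A => by
    change blk A.1 (A.1.det)⁻¹ = _
    rw [A.2, inv_one]
  have hK : Comp.CompIn f.range (centralizer {t}) := by
    refine ⟨.of_normal ?_ fun g hg => mem_normalizer_of_conj_mem ?_, ?_⟩
    · rintro _ ⟨A, rfl⟩
      exact mem_centralizer_singleton_iff.2 (Units.ext (by simp [hf, ht, blk_mul]))
    · rintro _ ⟨A, rfl⟩
      obtain ⟨B, b, e⟩ := eq_blk_of_comm h2.symm
        (congrArg Units.val (mem_centralizer_singleton_iff.1 hg))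
      obtain ⟨B', b', e'⟩ := eq_blk_of_comm h2.symm
        (congrArg Units.val (mem_centralizer_singleton_iff.1 (inv_mem hg)))
      have h3 := blk_inj (show blk (B * B') (b * b') = blk 1 1 by
        rw [← blk_mul, ← e, ← e', ← Units.val_mul, mul_inv_cancel, blk_one]; rfl)
      refine ⟨⟨B * A.1 * B', by
        rw [det_mul, det_mul, A.2, mul_one, ← det_mul, h3.1, det_one]⟩, Units.ext ((hf _).trans ?_)⟩
      rw [Units.val_mul, Units.val_mul, e, e', hf, blk_mul, blk_mul, mul_one b]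
      exact congrArg _ h3.2.symm
    · rw [MonoidHom.range_eq_map]
      exact hq.map_inj fun a b h => SpecialLinearGroup.toGL_injective
        (glEmb_injective (SpecialLinearGroup.toGL_injective h))
  refine ⟨t, ord2_iff.2 ⟨Units.ext (by simp [ht, blk_mul, blk_one]), fun e => h2 ?_⟩, fun h => ?_, ?_⟩
  · rw [← blk_ll (scalar (Fin m) 1) (-1), ← ht, e]; simp
  · obtain ⟨c, hc⟩ := GeneralLinearGroup.mem_center_iff_val_mem_range_scalar.1 h
    have e1 := congrFun (congrFun hc (Fin.last m)) (Fin.last m)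
    have e2 := congrFun (congrFun hc (Fin.castSucc ⟨0, by omega⟩)) (Fin.castSucc ⟨0, by omega⟩)
    rw [ht, blk_ll] at e1
    rw [ht, blk_cc] at e2
    simp at e1 e2
    exact h2 (e1.symm.trans e2)
  · have h3 := Comp.compIn_top.2 (Comp.compIn_iff.1 hK).2
    have h4 := h3.map_of_ne_bot (QuotientGroup.mk' (oddCore _)) fun e => by
      rw [Subgroup.map_eq_bot_iff, QuotientGroup.ker_mk'] at e
      exact h3.qs.not_le_solvable (PF.feit_thompson (Nat.coprime_two_right.1 pPrimeCore_coprime)) e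
    rw [map_top_of_surjective _ (QuotientGroup.mk'_surjective _), Comp.compIn_top] at h4
    exact ⟨_, h4⟩

theorem s1348 {F : Type*} [Field F] [Fintype F] [DecidableEq F] (hF : Odd (Fintype.card F)) (n : ℕ) (hn : 7 ≤ n) (hodd : Odd n) (t : Matrix.SpecialLinearGroup (Fin n) F) (ht : (t : Matrix (Fin n) (Fin n) F) = Matrix.diagonal (fun i : Fin n => if (i : ℕ) + 1 = n then (1 : F) else -1)) : Cfsg.IsStandardSubgroup ((Cfsg.layer ↥(Subgroup.centralizer ({t} : Set (Matrix.SpecialLinearGroup (Fin n) F)))).map (Subgroup.centralizer ({t} : Set (Matrix.SpecialLinearGroup (Fin n) F))).subtype) := by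
  obtain ⟨m, rfl⟩ : ∃ m, n = m + 1 := ⟨n - 1, by omega⟩
  have h2 := neg_one_ne_one (two_ne_zero_of_odd hF)
  have hq := qs_SL (F := F) (m := m) (by omega) (by omega)
  have ht' : t.1 = blk (scalar (Fin m) (-1)) 1 := by
    rw [ht, blk_diag]; congr 1; ext i; simp [Fin.ext_iff]
  have hC := centralizer_eq_glEmb h2 ht'
  have ho : orderOf t = 2 := ord2_iff.2 ⟨sl_ext (by
    rw [sl_mul, ht', blk_mul, ← map_mul]; simp [blk_one, sl_one]), fun e => h2 (by
      have := congrFun (congrFun ht' (Fin.castSucc ⟨0, by omega⟩)) (Fin.castSucc ⟨0, by omega⟩)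
      rw [blk_cc, e] at this
      simpa using this.symm)⟩
  set L := (GeneralLinearGroup.det : GL (Fin m) F →* Fˣ).ker.map glEmb with hL
  have hLq : Comp.QS L := by
    rw [hL, ← range_toGL, MonoidHom.range_eq_map]
    exact (hq.map_inj SpecialLinearGroup.toGL_injective).map_inj glEmb_injective
  have hLC : L ≤ centralizer {t} := hC ▸ map_le_range _ _
  have hN : centralizer {t} ≤ normalizer (L : Set _) := by
    rw [hC, MonoidHom.range_eq_map]
    exact (map_mono (normalizer_eq_top _).ge).trans (le_normalizer_map _)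
  have hLay : Comp.Lay (centralizer {t}) = L := by
    refine le_antisymm (Comp.Lay_le_iff.2 fun K hK => ?_) (Comp.CompIn.le_Lay ⟨.of_normal hLC hN, hLq⟩)
    rw [← hK.qs.perfect]
    refine (commutator_mono hK.le hK.le).trans ?_
    rw [hC, MonoidHom.range_eq_map, ← map_commutator]
    exact map_mono (commutator_le.2 fun a _ b _ => by
      rw [MonoidHom.mem_ker, map_commutatorElement, commutatorElement_eq_one_iff_mul_comm, mul_comm])
  rw [Comp.Lay_eq, hLay]
  have hm : Even m := by rw [Nat.odd_add_one, Nat.not_odd_iff_even] at hodd; exact hodd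
  have htL : t ∈ L := ⟨-1, by
    rw [SetLike.mem_coe, MonoidHom.mem_ker]; ext; simp [det_neg, hm.neg_one_pow], sl_ext (by
    rw [glEmb_coe, ht', map_neg, map_one]; simp [det_neg, hm.neg_one_pow])⟩
  have htC : t ∈ centralizer (L : Set _) := fun g hg => mem_centralizer_singleton_iff.1 (hLC hg)
  have hcyc : IsCyclic (centralizer (L : Set (SpecialLinearGroup (Fin (m + 1)) F))) := by
    have : IsCyclic (glEmb.comp (GeneralLinearGroup.scalar (R := F) (Fin m))).range :=
      isCyclic_of_surjective _ (MonoidHom.rangeRestrict_surjective _)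
    refine isCyclic_of_le (H' := (glEmb.comp (GeneralLinearGroup.scalar (R := F) (Fin m))).range)
      fun g hg => ?_
    obtain ⟨A, rfl⟩ := hC.le (mem_centralizer_singleton_iff.2 (hg t htL).symm)
    obtain ⟨c, hc⟩ := mem_range_scalar_of_commute_transvectionStruct (M := A.1) fun s => by
      have := hg _ ⟨SpecialLinearGroup.toGL ⟨s.toMatrix, s.det⟩, range_toGL.le ⟨_, rfl⟩, rfl⟩
      rw [← map_mul, ← map_mul] at this
      exact congrArg Units.val (glEmb_injective this)
    have c0 : c ≠ 0 := by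
      rintro rfl
      have : Nonempty (Fin m) := ⟨⟨0, by omega⟩⟩
      exact A.det_ne_zero (by rw [← hc, map_zero, det_zero])
    exact ⟨Units.mk0 c c0, congrArg glEmb (Units.ext hc)⟩
  have key : ∀ g, g * t * g⁻¹ ∈ centralizer (L : Set _) → g ∈ normalizer (L : Set _) := fun g hg =>
    hN (mem_centralizer_singleton_iff.2 (mul_inv_eq_iff_eq_mul.1
      (invol_eq_of_isCyclic hcyc hg htC ((Inv.orderOf_conj' g t).trans ho) ho)))
  refine ⟨Comp.qs_iff.1 hLq, ⟨even_iff_two_dvd.2 (ho ▸ orderOf_dvd_card_of_mem htC), fun g hg => ?_⟩,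
    fun g _ h => ?_, le_antisymm (normalizer_le_normalizer_centralizer L) fun g hg =>
      key g (conj_mem_of_mem_normalizer hg htC)⟩
  · by_contra h
    obtain ⟨s, hs, hs2⟩ := exists_mem_orderOf_eq_prime Nat.prime_two
      (Nat.not_odd_iff_even.1 h).two_dvd
    obtain rfl := invol_eq_of_isCyclic hcyc hs.1 htC hs2 ho
    refine hg (normalizer_le_normalizer_centralizer L ((inv_mem_iff (x := g)).1 (key _ ?_)))
    obtain ⟨x, hx, e⟩ := hs.2
    rw [← e]
    simpa [mul_assoc] using hx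
  · have h3 : cj g L ≤ centralizer (L : Set _) := fun x hx y hy => Comp.comm_bot_iff.1 h y hy x hx
    have h4 := (hLq.map_inj (f := (MulAut.conj g).toMonoidHom) (MulAut.conj g).injective).not_comm
    exact h4 (Comp.comm_bot_iff.2 fun a ha b hb =>
      comm_of_mem hcyc.isMulCommutative (h3 ha) (h3 hb))

end Cfsg.Agent.Dih
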