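import Cfsg.Agent.Dih.DH
import Cfsg.Agent.Inv.WRFus
import Cfsg.Agent.Blk.ZStar
import Cfsg.Agent.PLoc.MaxCl
import Cfsg.Agent.PLoc.Stab2
import Cfsg.Agent.PLoc.Hol
import Cfsg.Agent.BG.S04a

/-! Miscellaneous results on 2-groups of small rank and their fusion. -/

set_option autoImplicit false
set_option linter.unusedVariables false
set_option linter.unusedSectionVars false

namespace Cfsg.Agent.Dih

open Cfsg.Agent.PLoc Cfsg.Agent.Inv Subgroup

universe u

variable {G : Type*} [Group G]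

theorem kf_not_isCyclic {T : Subgroup G} (hT : IsKleinFour T) : ¬ IsCyclic T :=
  IsKleinFour.not_isCyclic

theorem kf_centralizer_of_inv [Finite G] {X T : Subgroup G} (hX : IsCyclic X) (hi : X.index = 2)
    (hinv : ∀ w ∉ X, ∀ c ∈ X, w * c * w⁻¹ = c⁻¹) (hT : IsKleinFour T) :
    centralizer (T : Set G) ≤ T := by
  obtain ⟨a, ha, haX⟩ : ∃ a ∈ T, a ∉ X := by
    by_contra hc
    push Not at hc
    exact kf_not_isCyclic hT (isCyclic_of_le hc)
  obtain ⟨z, hz, hz1, hzX⟩ : ∃ z ∈ T, z ≠ 1 ∧ z ∈ X := by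
    obtain ⟨b, hb, hb1, hba⟩ := kf_exists_ne hT a
    by_cases h : b ∈ X
    · exact ⟨b, hb, hb1, h⟩
    · refine ⟨b * a, mul_mem hb ha, fun e => hba ?_, (mul_mem_iff_of_index_two hi).2 (by tauto)⟩
      rw [mul_eq_one_iff_eq_inv.1 e, inv_eq_of_mul_eq_one_right (kf_sq hT ha)]
  have key : ∀ g ∈ X, g ∈ centralizer (T : Set G) → g ∈ T := by
    intro g hg hc
    have h1 := hinv a haX g hg
    rw [hc a ha, mul_inv_cancel_right] at h1
    by_cases h2 : g = 1
    · exact h2 ▸ one_mem _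
    · rwa [invol_eq_of_isCyclic hX hg hzX (ord2_iff.2 ⟨mul_eq_one_iff_eq_inv.2 h1, h2⟩)
        (kf_ord hT hz hz1)]
  intro g hg
  by_cases h1 : g ∈ X
  · exact key g h1 hg
  · exact (mul_mem_cancel_right ha).1 (key (g * a) ((mul_mem_iff_of_index_two hi).2 (by tauto))
      (mul_mem hg fun b hb => kf_comm hT hb ha))

theorem kf_centralizer_dihedral {m : ℕ} (hm : 2 ≤ m) (e : G ≃* DihedralGroup m) {T : Subgroup G}
    (hT : IsKleinFour T) : centralizer (T : Set G) ≤ T := by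
  have : NeZero m := ⟨by omega⟩
  have : Finite G := Finite.of_equiv _ e.symm.toEquiv
  have hx : ∀ g : G, g ∈ zpowers (e.symm (.r 1)) ↔ ∃ i, e g = .r i := by
    intro g
    constructor
    · rintro ⟨k, rfl⟩
      exact ⟨k, by simp [DihedralGroup.r_zpow]⟩
    · rintro ⟨i, hi⟩
      obtain ⟨k, rfl⟩ := ZMod.intCast_surjective i
      exact ⟨k, e.injective (by simp [DihedralGroup.r_zpow, hi])⟩
  refine kf_centralizer_of_inv (X := zpowers (e.symm (.r 1))) inferInstance
    (index_eq_two_of_card ?_) (fun w hw c hc => e.injective ?_) hT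
  · rw [Nat.card_zpowers, e.symm.orderOf_eq, DihedralGroup.orderOf_r_one,
      Nat.card_congr e.toEquiv, DihedralGroup.nat_card]
  · obtain ⟨i, hi⟩ := (hx c).1 hc
    rcases h : e w with j | j
    · exact absurd ((hx w).2 ⟨j, h⟩) hw
    · simp [h, hi]

theorem s1236 {R : Type*} [Group R] [Finite R] (t : R) (ht : orderOf t = 2) (htz : t ∈ Subgroup.center R) [(Subgroup.zpowers t).Normal] (hq : (∃ m : ℕ, 2 ≤ m ∧ Nonempty (R ⧸ Subgroup.zpowers t ≃* DihedralGroup m)) ∨ Cfsg.IsQuasiDihedral (R ⧸ Subgroup.zpowers t)) (A : Subgroup R) (hA : Cfsg.IsElementaryAbelian 2 A) (hA8 : Nat.card A = 8) (htA : t ∈ A) : Subgroup.centralizer (A : Set R) = A := by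
  refine le_antisymm ?_ (fun a ha b hb => comm_of_mem hA.1 hb ha)
  have hk : IsKleinFour (A.map (QuotientGroup.mk' (zpowers t))) := by
    refine kf_of_card ?_ ?_
    · have := card_mul_relIndex (zpowers_le.2 htA)
      rw [card_map_mk]
      rw [Nat.card_zpowers, ht, hA8] at this
      omega
    · rintro _ ⟨a, ha, rfl⟩
      rw [← map_mul, ← pow_two, hA.2 a ha, map_one]
  have h1 : centralizer (A.map (QuotientGroup.mk' (zpowers t)) : Set (R ⧸ zpowers t)) ≤
      A.map (QuotientGroup.mk' (zpowers t)) := by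
    rcases hq with ⟨m, hm, ⟨e⟩⟩ | hq
    · exact kf_centralizer_dihedral hm e hk
    · obtain ⟨x, y, l, h⟩ := exists_QD_top hq
      simpa using h.kf_centralizer hk le_top
  intro g hg
  have := h1 (le_centralizer_map (QuotientGroup.mk' (zpowers t)) le_rfl ⟨g, hg, rfl⟩)
  rwa [← mem_comap, comap_map_eq_self (by rw [QuotientGroup.ker_mk']; exact zpowers_le.2 htA)]
    at this

/-! ### `p`-groups all of whose abelian normal subgroups are cyclic -/

theorem not_modular [Finite G] {a w : G} {n : ℕ} (ha : orderOf a = 2 ^ (n + 3))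
    (hN : (zpowers a).Normal) (hC : ∀ g, g * a = a * g → g ∈ zpowers a)
    (hn : ∀ A : Subgroup G, A.Normal → IsMulCommutative A → IsCyclic A)
    (hw : w * a * w⁻¹ = a ^ (1 + 4 * (2 : ℤ) ^ n)) : False := by
  have eq : ∀ {i j : ℤ}, a ^ i = a ^ j ↔ ∃ c, i - j = 8 * (2 ^ n * c) := fun {i j} => by
    rw [zpow_eq_iff_dvd ha]
    exact exists_congr fun c => by push_cast; ring_nf
  have hp : (0 : ℤ) < 2 ^ n := by positivity
  generalize (2 : ℤ) ^ n = l at eq hw hp
  have act : ∀ {w : G}, w * a * w⁻¹ = a ^ (1 + 4 * l) → ∀ i : ℤ,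
      w * a ^ i = a ^ ((1 + 4 * l) * i) * w := fun {w} hw i => by
    rw [zpow_mul, ← hw, conj_zpow]; group
  obtain ⟨b, hb, hb2⟩ : ∃ b, b * a * b⁻¹ = a ^ (1 + 4 * l) ∧ b * b = 1 := by
    obtain ⟨m, hm⟩ := hC (w * w) (by
      rw [mul_assoc, ← zpow_one a, act hw, ← mul_assoc, act hw, mul_assoc, mul_left_inj, eq]
      exact ⟨1 + 2 * l, by ring⟩)
    have hm' : a ^ m = w * w := hm
    have h1 : a ^ ((1 + 4 * l) * m) = a ^ m := by
      rw [← mul_left_inj w, ← act hw, hm', mul_assoc]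
    obtain ⟨c, hc⟩ := eq.1 h1
    have h2 : m = 2 * c := by
      have : 4 * l * (m - 2 * c) = 0 := by linear_combination hc
      rcases mul_eq_zero.1 this with h | h <;> omega
    refine ⟨w * a ^ (-c - 2 * l * c), by rw [← hw]; group, ?_⟩
    rw [act hw, mul_assoc, ← mul_assoc w, act hw, ← mul_assoc, ← mul_assoc, mul_assoc _ w w, ← hm',
      ← zpow_add, ← zpow_add, ← zpow_zero a, eq, h2]
    exact ⟨-2 * c - 5 * l * c - 4 * l ^ 2 * c, by ring⟩
  have hz : orderOf (a ^ (4 * l)) = 2 := ord2_iff.2 ⟨by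
    rw [← zpow_add, ← zpow_zero a, eq]; exact ⟨1, by ring⟩, by
    rw [← zpow_zero a, Ne, eq]
    rintro ⟨c, hc⟩
    have : 4 * l * (1 - 2 * c) = 0 := by linear_combination hc
    rcases mul_eq_zero.1 this with h | h <;> omega⟩
  have hbA : b ∉ zpowers a := by
    rintro ⟨k, rfl⟩
    refine ne_one_of_ord2 hz (mul_left_cancel (a := a) ?_)
    rw [mul_one, ← zpow_one_add, ← hb]; group
  have hb' : orderOf b = 2 := ord2_iff.2 ⟨hb2, fun e => hbA (e ▸ one_mem _)⟩
  have hzb : a ^ (4 * l) * b = b * a ^ (4 * l) := by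
    rw [act hb, mul_left_inj, eq]; exact ⟨-2 * l, by ring⟩
  have hk := kf_sup hz hb' (fun e => hbA (e ▸ zpow_mem (mem_zpowers a) _)) hzb
  refine kf_not_isCyclic hk (hn _ (normal_of_forall_mem_normalizer fun g =>
    mem_normalizer_of_cj_le ?_) IsKleinFour.isMulCommutative)
  have hzg : ∀ g : G, g * a ^ (4 * l) * g⁻¹ = a ^ (4 * l) := fun g =>
    invol_eq_of_isCyclic inferInstance (hN.conj_mem _ (zpow_mem (mem_zpowers a) _) g)
      (zpow_mem (mem_zpowers a) _) ((Inv.orderOf_conj' _ _).trans hz) hz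
  rw [cj_sup, cj_zpowers, cj_zpowers, hzg]
  refine sup_le le_sup_left (zpowers_le.2 ?_)
  obtain ⟨k, hk⟩ := hN.conj_mem a (mem_zpowers a) g⁻¹
  have hk' : a ^ k = g⁻¹ * a * g := by simpa using hk
  have h1 : (g * b * g⁻¹) * a * (g * b * g⁻¹)⁻¹ = a ^ (1 + 4 * l) := by
    calc _ = g * (b * (g⁻¹ * a * g) * b⁻¹) * g⁻¹ := by group
      _ = g * (a ^ k) ^ (1 + 4 * l) * g⁻¹ := by rw [← hk', act hb]; group
      _ = _ := by rw [hk', ← conj_zpow]; group
  obtain ⟨i, hi⟩ := hC (g * b * g⁻¹ * b) (by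
    rw [mul_assoc, ← zpow_one a, act hb, ← mul_assoc, act h1, mul_assoc _ _ b, mul_left_inj, eq]
    exact ⟨1 + 2 * l, by ring⟩)
  have hi' : g * b * g⁻¹ = a ^ i * b := by
    rw [show a ^ i = g * b * g⁻¹ * b from hi, mul_assoc _ b b, hb2, mul_one]
  have h2 : (a ^ i * b) * (a ^ i * b) = 1 := by
    rw [← hi', show g * b * g⁻¹ * (g * b * g⁻¹) = g * (b * b) * g⁻¹ by group, hb2]; group
  rw [mul_assoc, ← mul_assoc b, act hb, mul_assoc, hb2, mul_one, ← zpow_add, ← zpow_zero a, eq] at h2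
  obtain ⟨c, hc⟩ := h2
  have h3 : a ^ i * a ^ i = 1 := by
    obtain ⟨j, rfl⟩ : ∃ j, i = 2 * j := ⟨l * (2 * c - i), by
      have : 2 * i = 2 * (2 * (l * (2 * c - i))) := by linear_combination hc
      omega⟩
    rw [← zpow_add, ← zpow_zero a, eq]
    exact ⟨c - j, by linear_combination hc⟩
  rw [hi']
  refine mul_mem_sup ?_ (mem_zpowers b)
  by_cases h4 : a ^ i = 1
  · exact h4 ▸ one_mem _
  · rw [invol_eq_of_isCyclic inferInstance (zpow_mem (mem_zpowers a) _)
      (zpow_mem (mem_zpowers a) _) (ord2_iff.2 ⟨h3, h4⟩) hz]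
    exact mem_zpowers _

theorem sq_one_mod {n : ℕ} {k : ℤ} (h : (2 : ℤ) ^ (n + 3) ∣ k * k - 1) :
    (2 : ℤ) ^ (n + 2) ∣ k - 1 ∨ (2 : ℤ) ^ (n + 2) ∣ k + 1 := by
  obtain ⟨j, rfl⟩ : ∃ j, k = 2 * j + 1 := by
    rcases Int.even_or_odd' k with ⟨j, rfl | rfl⟩
    · have : (2 : ℤ) ∣ 2 * j * (2 * j) - 1 := Dvd.dvd.trans ⟨2 ^ (n + 2), by ring⟩ h
      have e : 2 * j * (2 * j) = 2 * (2 * j * j) := by ring
      omega
    · exact ⟨j, rfl⟩
  have h1 : (2 : ℤ) ^ (n + 1) ∣ j * (j + 1) := by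
    rw [show (2 * j + 1) * (2 * j + 1) - 1 = 4 * (j * (j + 1)) by ring,
      show (2 : ℤ) ^ (n + 3) = 4 * 2 ^ (n + 1) by ring] at h
    exact (mul_dvd_mul_iff_left (by norm_num)).1 h
  rcases Int.even_or_odd' j with ⟨i, rfl | rfl⟩
  · left
    have := (IsCoprime.pow_left (m := n + 1)
      (⟨-i, 1, by ring⟩ : IsCoprime (2 : ℤ) (2 * i + 1))).dvd_of_dvd_mul_right h1
    rw [show 2 * (2 * i) + 1 - 1 = 2 * i * 2 by ring, pow_succ]
    exact mul_dvd_mul_right this 2
  · right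
    have := (IsCoprime.pow_left (m := n + 1)
      (⟨-i, 1, by ring⟩ : IsCoprime (2 : ℤ) (2 * i + 1))).dvd_of_dvd_mul_left h1
    rw [show 2 * (2 * i + 1) + 1 + 1 = (2 * i + 1 + 1) * 2 by ring, pow_succ]
    exact mul_dvd_mul_right this 2

theorem index_two_of_cyclic_scn [Finite G] (hG : IsPGroup 2 G) {a : G} {n : ℕ}
    (ha : orderOf a = 2 ^ (n + 2)) (hN : (zpowers a).Normal)
    (hC : ∀ g, g * a = a * g → g ∈ zpowers a)
    (hn : ∀ A : Subgroup G, A.Normal → IsMulCommutative A → IsCyclic A) (htop : zpowers a ≠ ⊤) :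
    (zpowers a).index = 2 := by
  have hk : ∀ w : G, ∃ k : ℤ, w * a * w⁻¹ = a ^ k := fun w => by
    obtain ⟨k, hk⟩ := hN.conj_mem a (mem_zpowers a) w
    exact ⟨k, hk.symm⟩
  have hmul : ∀ {w v : G} {k j : ℤ}, w * a * w⁻¹ = a ^ k → v * a * v⁻¹ = a ^ j →
      (w * v) * a * (w * v)⁻¹ = a ^ (k * j) := fun {w v k j} h1 h2 => by
    rw [zpow_mul, ← h1, conj_zpow, ← h2]; group
  have hin : ∀ {w : G} {k : ℤ}, w * a * w⁻¹ = a ^ k → (2 : ℤ) ^ (n + 2) ∣ k - 1 →
      w ∈ zpowers a := fun {w k} h1 h2 => hC w (by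
    rw [← mul_inv_eq_iff_eq_mul, h1, ← zpow_one a, ← zpow_mul, zpow_eq_iff_dvd ha]
    simpa using h2)
  suffices key : ∀ w ∉ zpowers a, ∀ v ∉ zpowers a, w * v ∈ zpowers a by
    obtain ⟨g, hg⟩ : ∃ g, g ∉ zpowers a := by
      by_contra h; push Not at h; exact htop ((eq_top_iff' _).mpr h)
    refine index_eq_two_iff.2 ⟨g, fun b => ?_⟩
    by_cases hb : b ∈ zpowers a
    · exact Or.inr ⟨hb, fun e => hg ((mul_mem_cancel_left hb).1 e)⟩
    · exact Or.inl ⟨key b hb g hg, hb⟩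
  cases n with
  | zero =>
    have h1 : ∀ w ∉ zpowers a, ∃ k : ℤ, w * a * w⁻¹ = a ^ k ∧ (4 : ℤ) ∣ k + 1 := by
      intro w hw
      obtain ⟨k, hk'⟩ := hk w
      have h1 : ¬ (4 : ℤ) ∣ k - 1 := fun e => hw (hin hk' (by simpa using e))
      have h2 : ¬ (2 : ℤ) ∣ k := by
        rintro ⟨j, rfl⟩
        have : (w * a * w⁻¹) ^ 2 = 1 := by
          rw [hk', ← zpow_natCast, ← zpow_mul, ← zpow_zero a, zpow_eq_iff_dvd ha]
          exact ⟨j, by push_cast; ring⟩
        have := orderOf_dvd_of_pow_eq_one this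
        rw [Inv.orderOf_conj', ha] at this
        omega
      exact ⟨k, hk', by omega⟩
    intro w hw v hv
    obtain ⟨k, h2, c, hc⟩ := h1 w hw
    obtain ⟨j, h3, d, hd⟩ := h1 v hv
    refine hin (hmul h2 h3) ⟨4 * c * d - c - d, ?_⟩
    rw [show k = 4 * c - 1 by omega, show j = 4 * d - 1 by omega]; ring
  | succ n =>
    have hin' : ∀ {w : G} {k : ℤ}, w * a * w⁻¹ = a ^ k → (2 : ℤ) ^ (n + 2) ∣ k - 1 →
        w ∈ zpowers a := fun {w k} h1 ⟨c, hc⟩ => by
      rcases Int.even_or_odd' c with ⟨j, rfl | rfl⟩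
      · exact hin h1 ⟨j, by rw [hc]; ring⟩
      · refine (not_modular (w := w) ha hN hC hn ?_).elim
        rw [h1, zpow_eq_iff_dvd ha]
        exact ⟨j, by push_cast; linear_combination hc⟩
    have h1 : ∀ w ∉ zpowers a, w ^ 2 ∈ zpowers a →
        ∃ k : ℤ, w * a * w⁻¹ = a ^ k ∧ (2 : ℤ) ^ (n + 2) ∣ k + 1 := by
      intro w hw h2
      obtain ⟨k, hk'⟩ := hk w
      refine ⟨k, hk', (sq_one_mod ?_).resolve_left fun e => hw (hin' hk' e)⟩
      have h3 := hmul hk' hk'
      obtain ⟨m, hm⟩ := h2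
      rw [← pow_two, ← show a ^ m = w ^ 2 from hm, show a ^ m * a * (a ^ m)⁻¹ = a ^ (1 : ℤ) by group,
        eq_comm, zpow_eq_iff_dvd ha] at h3
      simpa using h3
    have hsq : ∀ w : G, w ^ 2 ∈ zpowers a := by
      intro w
      by_contra hw
      obtain ⟨i, h2, h3⟩ := Core.exists_pow_not_mem_pow_mem hG hw
      have e : (w ^ 2) ^ 2 ^ i = (w ^ 2 ^ i) ^ 2 := by rw [← pow_mul, ← pow_mul, mul_comm]
      rw [e] at h2 h3
      generalize w ^ 2 ^ i = v at h2 h3
      obtain ⟨k, h4, h5⟩ := h1 _ h2 h3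
      obtain ⟨j, hj⟩ := hk v
      rw [pow_two, hmul hj hj, zpow_eq_iff_dvd ha] at h4
      have h6 : (4 : ℤ) ∣ j * j - k := Dvd.dvd.trans ⟨2 ^ (n + 1), by push_cast; ring⟩ h4
      have h7 : (4 : ℤ) ∣ k + 1 := Dvd.dvd.trans ⟨2 ^ n, by ring⟩ h5
      rcases Int.even_or_odd' j with ⟨i, rfl | rfl⟩
      · have : 2 * i * (2 * i) = 4 * (i * i) := by ring
        omega
      · have : (2 * i + 1) * (2 * i + 1) = 4 * (i * i + i) + 1 := by ring
        omega
    intro w hw v hv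
    obtain ⟨k, h2, c, hc⟩ := h1 w hw (hsq w)
    obtain ⟨j, h3, d, hd⟩ := h1 v hv (hsq v)
    refine hin' (hmul h2 h3) ⟨2 ^ (n + 2) * c * d - c - d, ?_⟩
    rw [show k = 2 ^ (n + 2) * c - 1 by omega, show j = 2 ^ (n + 2) * d - 1 by omega]; ring

/-- 2-groups without noncyclic abelian normal subgroups -/
theorem two_group_ncyc [Finite G] (hG : IsPGroup 2 G)
    (hn : ∀ A : Subgroup G, A.Normal → IsMulCommutative A → IsCyclic A) :
    IsCyclic G ∨ (∃ n : ℕ, Nonempty (G ≃* QuaternionGroup (2 ^ (n + 1)))) ∨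
      (∃ n : ℕ, Nonempty (G ≃* DihedralGroup (2 ^ (n + 3)))) ∨ IsQuasiDihedral G := by
  have := hG.isNilpotent
  obtain ⟨A, -, ⟨hAn, hAa⟩, hmax⟩ := Core.exists_maximal_ge
    (P := fun A : Subgroup G => A.Normal ∧ IsMulCommutative A) (H := ⊥)
    ⟨inferInstance, inferInstance⟩
  have hC := Core.centralizer_eq_of_maximal_abelian_normal A hAa
    fun M h1 h2 h3 => hmax M ⟨h1, h2⟩ h3
  obtain ⟨a, rfl⟩ := isCyclic_iff_zpowers.1 (hn A hAn hAa)
  rw [PLoc.centralizer_zpowers] at hC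
  have hC' : ∀ g, g * a = a * g → g ∈ zpowers a := fun g hg =>
    hC.le (mem_centralizer_singleton_iff.2 hg)
  by_cases htop : zpowers a = ⊤
  · exact Or.inl (_root_.isCyclic_iff_exists_zpowers_eq_top.mpr ⟨a, htop⟩)
  right
  obtain ⟨g, hg⟩ : ∃ g, g ∉ zpowers a := by
    by_contra h; push Not at h; exact htop ((eq_top_iff' _).mpr h)
  obtain ⟨n, hn'⟩ := (IsPGroup.iff_orderOf.mp hG) a
  obtain ⟨n, rfl⟩ : ∃ m, n = m + 2 := by
    rcases n with _ | _ | n
    · exact absurd (hC' g (by simp [orderOf_eq_one_iff.mp hn'])) hg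
    · refine absurd (hC' g ?_) hg
      rw [← mul_inv_eq_iff_eq_mul]
      exact invol_eq_of_isCyclic inferInstance (hAn.conj_mem a (mem_zpowers a) g) (mem_zpowers a)
        ((Inv.orderOf_conj' _ _).trans hn') hn'
    · exact ⟨n, rfl⟩
  have hi := index_two_of_cyclic_scn hG hn' hAn hC' hn htop
  have hcard : Nat.card G = 2 ^ (n + 3) := by
    rw [← card_mul_index (zpowers a), hi, Nat.card_zpowers, hn']; ring
  obtain ⟨x, y, hx, hy, h⟩ := MC.s0646 (n := n + 3) (by omega) hcard inferInstance hi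
    ⟨g, a, fun e => hg (hC' g e)⟩
  have hx' : orderOf x = 2 ^ (n + 2) := hx
  have hxi : (zpowers x).index = 2 := index_eq_two_of_card (by
    rw [hcard, Nat.card_zpowers, hx']; ring)
  have hgen : closure ({x, y} : Set G) = ⊤ := by
    rw [closure_pair_eq_sup]
    exact MC.sup_eq_top_of_index Nat.prime_two hxi hy
  have := Subgroup.normal_of_index_eq_two hxi
  rcases h with ⟨h1, h2⟩ | ⟨h1, h2⟩ | ⟨h0, h1, h2⟩ | ⟨h0, h1, h2⟩
  · right; left
    obtain ⟨e⟩ := dihedral_equiv hx' (by rwa [← pow_two]) h2 hy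
    have e' := (topEquiv.symm.trans (MulEquiv.subgroupCongr hgen.symm)).trans e
    cases n with
    | succ n => exact ⟨n, ⟨e'⟩⟩
    | zero =>
      exfalso
      obtain ⟨x, y, l, h, hl⟩ := exists_DH (S := ⊤) (isPGroup_top_iff.2 hG) (m := 2 ^ (0 + 2))
        (by norm_num) (topEquiv.trans e')
      obtain rfl : l = 2 := by omega
      refine kf_not_isCyclic (h.kf_V 0) (hn _ (Subgroup.normal_of_index_eq_two
        (index_eq_two_of_card ?_)) (h.kf_V 0).isMulCommutative)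
      rw [hcard, kf_card (h.kf_V 0)]; rfl
  · left
    obtain ⟨e⟩ := quaternion_equiv (n := 2 ^ (n + 1)) (by rw [hx']; ring) (by rw [← pow_two]; exact h1)
      h2 hy
    exact ⟨n, ⟨(topEquiv.symm.trans (MulEquiv.subgroupCongr hgen.symm)).trans e⟩⟩
  · exfalso
    obtain ⟨n, rfl⟩ : ∃ m, n = m + 1 := ⟨n - 1, by omega⟩
    refine not_modular (w := y) hx' this (fun g hg => ?_) hn ?_
    · by_contra hgx
      have h3 : y * x = x * y := by
        have h4 := (mul_mem_iff_of_index_two hxi (a := g) (b := y)).2 (by tauto)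
        obtain ⟨k, hk⟩ := h4
        have : y = g⁻¹ * x ^ k := by rw [show x ^ k = g * y from hk]; group
        rw [this, mul_assoc, ← zpow_add_one, ← mul_assoc, ← (Commute.inv_left hg).eq]; group
      rw [h3, mul_inv_cancel_right, pow_add, pow_one, eq_comm, mul_eq_left] at h2
      have := Nat.le_of_dvd (by positivity) (orderOf_dvd_of_pow_eq_one h2)
      rw [hx', Nat.pow_le_pow_iff_right (by norm_num)] at this
      omega
    · rw [h2, ← zpow_natCast]; congr 1
      rw [show n + 1 + 3 - 2 = n + 2 by omega]; push_cast; ring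
  · right; right
    exact ⟨n + 2, by omega, hcard, x, y, hx', ord2_iff.2 ⟨by rwa [← pow_two],
      fun e => hy (e ▸ one_mem _)⟩, h2⟩

theorem s0519 {P : Type*} [Group P] [Finite P] (p : ℕ) [hp : Fact p.Prime]
    (hP : IsPGroup p P) (hn : ∀ A : Subgroup P, A.Normal → IsMulCommutative A → IsCyclic A)
    (hm : ∃ B : Subgroup P, IsMulCommutative B ∧ ¬ IsCyclic B) :
    p = 2 ∧ ((∃ n : ℕ, Nonempty (P ≃* QuaternionGroup n)) ∨ (∃ n : ℕ, 8 ≤ n ∧ Nonempty (P ≃* DihedralGroup n)) ∨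
      Cfsg.IsQuasiDihedral P) := by
  obtain ⟨B, -, hB⟩ := hm
  have hc : ¬ IsCyclic P := fun h => hB inferInstance
  obtain rfl : p = 2 := by
    by_contra h2
    have hR : BG.PiG {p} (⊤ : Subgroup P) := (BG.pig_iff hp.out).2 (isPGroup_top_iff.2 hP)
    obtain ⟨E, hE, h1⟩ := BG.odd_normal_p2Elem_self hR (BG.PiG.odd_card hR hp.out h2)
      (fun h => hc (isCyclic_of_surjective _ topEquiv.surjective))
    have h3 := BG.cyc_exp_card hp.out (hn E (normal_of_top_le_normalizer h1)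
      (BG.abelem_iff.1 hE.ab).1) hE.ab.pow
    rw [hE.card] at h3
    exact BG.not_pow_succ_dvd (n := 1) hp.out (by simpa using h3)
  refine ⟨rfl, ((two_group_ncyc hP hn).resolve_left hc).imp (fun ⟨n, e⟩ => ⟨_, e⟩)
    (Or.imp_left fun ⟨n, e⟩ => ⟨_, ?_, e⟩)⟩
  have : 0 < 2 ^ n := by positivity
  rw [pow_add]; omega

/-! ### consequences of the `Z*`-theorem -/

/-- all powers of `c` are fixed by fusion in `P` -/
def Rigid (P : Subgroup G) (c : G) : Prop :=
  c ∈ P ∧ ∀ d ∈ zpowers c, ∀ g : G, g * d * g⁻¹ ∈ P → g * d * g⁻¹ = d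

theorem Rigid.map [Finite G] {P : Subgroup G} (hP : IsSylowOf 2 P ⊤) {c : G} (h : Rigid P c)
    (N : Subgroup G) [N.Normal] :
    Rigid (P.map (QuotientGroup.mk' N)) (QuotientGroup.mk' N c) := by
  refine ⟨mem_map_of_mem _ h.1, ?_⟩
  rintro _ ⟨k, rfl⟩ g hg
  obtain ⟨g, rfl⟩ := QuotientGroup.mk'_surjective N g
  have hd : c ^ k ∈ zpowers c := zpow_mem (mem_zpowers c) k
  have hdP : c ^ k ∈ P := zpow_mem h.1 k
  show _ * (QuotientGroup.mk' N c) ^ k * _ = (QuotientGroup.mk' N c) ^ k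
  replace hg : _ * (QuotientGroup.mk' N c) ^ k * _ ∈ _ := hg
  rw [← map_zpow] at hg ⊢
  generalize c ^ k = d at hd hdP hg
  rw [← map_inv, ← map_mul, ← map_mul, ← mem_comap, comap_map_eq, QuotientGroup.ker_mk'] at hg
  obtain ⟨j, hj⟩ := isPGroup_iff_forall.1 hP.isP d hdP
  obtain ⟨o, ho, h1⟩ := (hP.of_le (K := P ⊔ N) le_sup_left le_top).exists_cj_le
    (isPGroup_zpowers (x := g * d * g⁻¹) (k := j) (by rw [conj_pow, hj]; simp)) (zpowers_le.2 hg)
  have h2 := h.2 d hd (o * g) (by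
    simpa [mul_assoc] using cj_le_iff'.1 h1 _ (mem_zpowers _))
  obtain ⟨s, hs, n, hn, rfl⟩ := (mem_sup_of_le_normalizer_right le_normalizer_of_normal).1 ho
  have h3 := h.2 d hd s⁻¹ (mul_mem (mul_mem (inv_mem hs) hdP) (inv_mem (inv_mem hs)))
  have h4 : g * d * g⁻¹ = n⁻¹ * d * n := by
    calc _ = n⁻¹ * (s⁻¹ * (s * n * g * d * (s * n * g)⁻¹) * s⁻¹⁻¹) * n := by group
      _ = _ := by rw [h2, h3]
  rw [← map_inv, ← map_mul, ← map_mul, h4, map_mul, map_mul, map_inv,
    show QuotientGroup.mk' N n = 1 from (QuotientGroup.eq_one_iff n).2 hn]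
  simp

theorem pPrimeCore_quotient_central [Finite G] {p : ℕ} [Fact p.Prime] (hO : pPrimeCore p G = ⊥)
    {Z : Subgroup G} [Z.Normal] (hZ : Z ≤ center G) (hp : IsPGroup p Z) :
    pPrimeCore p (G ⧸ Z) = ⊥ := by
  set K := (pPrimeCore p (G ⧸ Z)).comap (QuotientGroup.mk' Z)
  have hZK : Z ≤ K := fun z hz => by
    simp [K, mem_comap, (QuotientGroup.eq_one_iff z).2 hz]
  have h1 : IsSylowOf p Z K := by
    refine ⟨hZK, hp, fun h => ?_⟩
    rw [← card_map_mk, map_comap_eq_self_of_surjective (QuotientGroup.mk'_surjective Z)] at h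
    exact (Nat.Prime.coprime_iff_not_dvd Fact.out).1 pPrimeCore_coprime.symm h
  have h2 := h1.npc_of_burnside fun g _ z hz => (mem_center_iff.1 (hZ hz) g).symm
  have h3 : pResOf p K = ⊥ := eq_bot_of_pPrimeCore_eq_bot hO inferInstance (npc_iff_coprime.1 h2)
  have h4 := h1.sup_pResOf
  rw [h3, sup_bot_eq] at h4
  rw [← map_comap_eq_self_of_surjective (QuotientGroup.mk'_surjective Z) (pPrimeCore p (G ⧸ Z)),
    Subgroup.map_eq_bot_iff, QuotientGroup.ker_mk']
  exact h4.ge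

theorem zstar_cyc_aux (n : ℕ) : ∀ (G : Type u) [Group G] [Finite G] (P : Subgroup G) (c : G),
    orderOf c = n → IsSylowOf 2 P ⊤ → Rigid P c → pPrimeCore 2 G = ⊥ → c ∈ center G := by
  induction n using Nat.strong_induction_on with
  | _ n ih =>
  intro G _ _ P c hn hP h hO
  by_cases h1 : c = 1
  · exact h1 ▸ one_mem _
  obtain ⟨z, hz, hz2⟩ := exists_involution_of_isPGroup (hP.isP.to_le (zpowers_le.2 h.1))
    (fun e => h1 (zpowers_eq_bot.1 e))
  obtain ⟨S, rfl⟩ := hP.exists_sylow_top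
  have hzc : z ∈ center G := mem_center_iff.2 fun g => by
    have := Blk.zstar (isolated_of_sylow S hz2 (h.2 z hz)) g
    rw [hO, mem_bot, mul_inv_eq_one, mul_inv_eq_iff_eq_mul] at this
    exact this.symm
  have := normal_of_le_center (zpowers_le.2 hzc)
  have h2 := ih (orderOf (QuotientGroup.mk' (zpowers z) c)) (by
    rw [← hn, ← Nat.card_zpowers, ← MonoidHom.map_zpowers, card_map_mk, ← Nat.card_zpowers,
      ← card_mul_relIndex (zpowers_le.2 hz), Nat.card_zpowers, hz2]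
    have := relIndex_pos' (zpowers z) (zpowers c)
    omega) _ _ _ rfl (isSylowOf_map_top (QuotientGroup.mk'_surjective _) hP) (h.map hP _)
    (pPrimeCore_quotient_central hO (zpowers_le.2 hzc)
      (hP.isP.to_le (zpowers_le.2 (zpowers_le.2 h.1 hz))))
  refine mem_center_iff.2 fun g => mul_inv_eq_iff_eq_mul.1 (h.2 c (mem_zpowers c) g ?_)
  have h3 : g * c * g⁻¹ * c⁻¹ ∈ zpowers z := by
    rw [← QuotientGroup.eq_one_iff, ← QuotientGroup.mk'_apply, map_mul, map_mul, map_mul,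
      mem_center_iff.1 h2]
    simp
  simpa using mul_mem (zpowers_le.2 (zpowers_le.2 h.1 hz) h3) h.1

theorem zstar_cyc [Finite G] {P : Subgroup G} (hP : IsSylowOf 2 P ⊤) {c : G} (h : Rigid P c)
    (g : G) : g * c * g⁻¹ * c⁻¹ ∈ pPrimeCore 2 G := by
  have := zstar_cyc_aux _ _ _ _ rfl (isSylowOf_map_top (QuotientGroup.mk'_surjective _) hP)
    (h.map hP (pPrimeCore 2 G)) pPrimeCore_quotient_pPrimeCore
  rw [← QuotientGroup.eq_one_iff, ← QuotientGroup.mk'_apply, map_mul, map_mul, map_mul,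
    mem_center_iff.1 this]
  simp

theorem normal_sup_zpowers {N : Subgroup G} [N.Normal] {c : G}
    (h : ∀ g, g * c * g⁻¹ * c⁻¹ ∈ N) [Finite G] : (N ⊔ zpowers c).Normal := by
  refine normal_of_forall_mem_normalizer fun g => mem_normalizer_of_cj_le ?_
  rw [cj_sup, cj_eq_of_normal, cj_zpowers]
  exact sup_le le_sup_left (zpowers_le.2 (by simpa using mul_mem_sup (h g) (mem_zpowers c)))

theorem s1239 {X : Type*} [Group X] [Finite X] (S : Sylow 2 X) (hS : Cfsg.IsQuasiDihedral (S : Subgroup X) ∨ Cfsg.IsWreathed (S : Subgroup X)) (z : X) (hzS : z ∈ S) (hz : Cfsg.IsIsolatedInvolution z) : (Cfsg.oddCore X ⊔ (Subgroup.center (S : Subgroup X)).map (S : Subgroup X).subtype).Normal := by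
  have hzc : z ∈ (S : Subgroup X) ⊓ centralizer (S : Set X) := ⟨hzS, fun s hs =>
    mul_inv_eq_iff_eq_mul.1 (isolated_eq_of_mem_pgroup hz (isConj_conj s z) S.2 hzS
      (mul_mem (mul_mem hs hzS) (inv_mem hs)))⟩
  have hfix : ∀ g : X, g * z * g⁻¹ ∈ (S : Subgroup X) → g * z * g⁻¹ = z := fun g hg =>
    isolated_eq_of_mem_pgroup hz (isConj_conj g z) S.2 hzS hg
  rw [Inv.map_center_subtype]
  rcases hS with hS | hS
  · obtain ⟨x, y, l, h⟩ := exists_QD hS
    erw [h.center_eq] at hzc ⊢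
    obtain rfl := ((mem_zpowers_ord2 (sq_of_ord2 h.zord)).1 hzc).resolve_left (ne_one_of_ord2 hz.1)
    refine normal_sup_zpowers (zstar_cyc (isSylowOf_top S) ⟨hzS, fun d hd g hg => ?_⟩)
    rcases (mem_zpowers_ord2 (sq_of_ord2 h.zord)).1 hd with rfl | rfl
    · simp
    · exact hfix g hg
  · obtain ⟨x, y, w, l, h⟩ := exists_WR hS
    erw [h.center_eq] at hzc ⊢
    obtain rfl := h.eq_t hzc hz.1
    refine normal_sup_zpowers (zstar_cyc (isSylowOf_top S) ⟨h.umem _ _, fun d hd g hg =>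
      h.fix_Z (fun hf => ?_) hd hg⟩)
    obtain ⟨g, hg⟩ := isConj_iff.1 (h.isConj_t_e hf)
    exact h.e_ne_t (hg.symm.trans (hfix g (hg ▸ h.umem _ _)))

theorem rigid_of_weaklyClosed [Finite G] {P : Subgroup G} (hP : IsSylowOf 2 P ⊤) {c : G}
    (hc : c ∈ P ⊓ centralizer (P : Set G))
    (h : ∀ Z ≤ P ⊓ centralizer (P : Set G), IsWeaklyClosed Z P) : Rigid P c := by
  refine ⟨hc.1, fun d hd g hg => ?_⟩
  have hd' := zpowers_le.2 hc hd
  have h1 := (h _ (zpowers_le.2 hd')).2 g (by rw [cj_def, cj_zpowers]; exact zpowers_le.2 hg)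
  have h2 : g ∈ normalizer (zpowers d : Set G) := cj_eq_self_iff.1 h1
  have h3 : P ≤ centralizer (zpowers d : Set G) := by
    rw [PLoc.centralizer_zpowers]
    exact fun s hs => mem_centralizer_singleton_iff.2 (hd'.2 s hs)
  have h4 := (hP.of_le (h3.trans (centralizer_le_normalizer _)) le_top).sup_pResOf
  have h5 : normalizer (zpowers d : Set G) ≤ centralizer (zpowers d : Set G) := by
    rw [← h4]
    exact sup_le h3 (pResOf_le_iff.2 fun a ha hc => mem_centralizer_of_isCyclic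
      (hP.isP.to_le (zpowers_le.2 hd'.1)) inferInstance ha (Nat.coprime_two_right.1 hc))
  rw [← h5 h2 d (mem_zpowers d), mul_inv_cancel_right]

theorem exists_conj_of_commutator_mem [Finite G] {p : ℕ} [Fact p.Prime] {N : Subgroup G} [N.Normal]
    (hN : (Nat.card N).Coprime p) {c : G} (hc : IsPGroup p (zpowers c)) {g : G}
    (h : g * c * g⁻¹ * c⁻¹ ∈ N) : ∃ o ∈ N, g * c * g⁻¹ = o * c * o⁻¹ := by
  have h1 : IsSylowOf p (zpowers c) (zpowers c ⊔ N) := by
    refine ⟨le_sup_left, hc, fun hd => ?_⟩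
    have h2 := card_mul_relIndex (le_sup_left : zpowers c ≤ zpowers c ⊔ N)
    rw [card_sup_of_disjoint le_normalizer_of_normal (inf_eq_bot_of_isPGroup_of_coprime hc hN),
      Nat.mul_right_inj Nat.card_pos.ne'] at h2
    rw [h2] at hd
    exact (Nat.Prime.coprime_iff_not_dvd Fact.out).1 hN.symm hd
  obtain ⟨k, hk, h2⟩ := h1.exists_cj_le (isPGroup_cj g hc) (by
    rw [cj_zpowers, sup_comm]
    exact zpowers_le.2 (by simpa using mul_mem_sup h (mem_zpowers c)))
  obtain ⟨s, hs, n, hn, rfl⟩ := (mem_sup_of_le_normalizer_right le_normalizer_of_normal).1 hk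
  rw [cj_mul, cj_le_iff, cj_eq_of_mem (inv_mem hs), cj_zpowers, cj_zpowers] at h2
  have h3 : n * (g * c * g⁻¹) * n⁻¹ * c⁻¹ = 1 := by
    refine eq_one_of_isPGroup_of_coprime hc (mul_mem (h2 (mem_zpowers _)) (inv_mem (mem_zpowers c)))
      (coprime_orderOf_of_mem hN ?_)
    have := mul_mem (mul_mem hn h) (Normal.conj_mem inferInstance _ (inv_mem hn) c)
    simpa [mul_assoc] using this
  refine ⟨n⁻¹, inv_mem hn, ?_⟩
  calc _ = n⁻¹ * (n * (g * c * g⁻¹) * n⁻¹) * n⁻¹⁻¹ := by group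
    _ = _ := by rw [mul_inv_eq_one.1 h3]

theorem s1215 {H : Type*} [Group H] [Finite H] (S : Sylow 2 H) (hS : Cfsg.IsQuasiDihedral (S : Subgroup H) ∨ Cfsg.IsWreathed (S : Subgroup H)) (hQ : ∀ Z₀ : Subgroup H, Z₀ ≤ ((Subgroup.center (S : Subgroup H)).map (S : Subgroup H).subtype) → Cfsg.IsWeaklyClosed Z₀ (S : Subgroup H)) (h : H) : ∃ o ∈ Cfsg.oddCore H, ∃ c ∈ Subgroup.centralizer (((Subgroup.center (S : Subgroup H)).map (S : Subgroup H).subtype : Subgroup H) : Set H), h = o * c := by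
  rw [Inv.map_center_subtype] at hQ ⊢
  obtain ⟨c, hc⟩ : ∃ c, (S : Subgroup H) ⊓ centralizer ((S : Subgroup H) : Set H) = zpowers c := by
    rcases hS with hS | hS
    · obtain ⟨x, y, l, h⟩ := exists_QD hS
      exact ⟨_, h.center_eq⟩
    · obtain ⟨x, y, w, l, h⟩ := exists_WR hS
      exact ⟨_, h.center_eq⟩
  have h1 := rigid_of_weaklyClosed (isSylowOf_top S) (hc ▸ mem_zpowers c) hQ
  obtain ⟨o, ho, e⟩ := exists_conj_of_commutator_mem pPrimeCore_coprime
    (S.2.to_le (zpowers_le.2 h1.1)) (zstar_cyc (isSylowOf_top S) h1 h)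
  refine ⟨o, ho, o⁻¹ * h, ?_, by group⟩
  rw [hc, PLoc.centralizer_zpowers, mem_centralizer_singleton_iff]
  calc o⁻¹ * h * c = o⁻¹ * (h * c * h⁻¹) * h := by group
    _ = _ := by rw [e]; group

theorem qd_subgroupOf [Finite G] {S H : Subgroup G} {x y : G} {l : ℕ} (h : QD S x y l)
    (hH : S ≤ H) : QD (S.subgroupOf H) ⟨x, hH h.x1mem⟩ ⟨y, hH h.ymem⟩ l := by
  refine ⟨h.pw, by rw [← h.ord, ← Subgroup.orderOf_coe], Subtype.ext h.ysq, Subtype.ext h.conj,
    fun a => ?_⟩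
  rw [mem_subgroupOf, h.mem]
  exact exists_congr fun k => or_congr ⟨fun e => Subtype.ext e, fun e => congrArg Subtype.val e⟩
    ⟨fun e => Subtype.ext e, fun e => congrArg Subtype.val e⟩

theorem wr_subgroupOf [Finite G] {S H : Subgroup G} {x y z : G} {l : ℕ} (h : WR S x y z l)
    (hx : x ∈ H) (hy : y ∈ H) (hz : z ∈ H) : WR (S.subgroupOf H) ⟨x, hx⟩ ⟨y, hy⟩ ⟨z, hz⟩ l := by
  refine ⟨h.pw, by rw [← h.ord, ← Subgroup.orderOf_coe], Subtype.ext h.comm, ?_, Subtype.ext h.zsq,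
    Subtype.ext h.conj, fun a => ?_⟩
  · rw [eq_bot_iff]
    rintro a ⟨⟨i, hi⟩, ⟨j, hj⟩⟩
    have : (a : G) ∈ zpowers x ⊓ zpowers y :=
      ⟨⟨i, congrArg Subtype.val hi⟩, ⟨j, congrArg Subtype.val hj⟩⟩
    rw [h.disj] at this
    exact Subtype.ext this
  · rw [mem_subgroupOf, h.mem]
    exact exists_congr fun k => exists_congr fun j =>
      or_congr ⟨fun e => Subtype.ext e, fun e => congrArg Subtype.val e⟩
      ⟨fun e => Subtype.ext e, fun e => congrArg Subtype.val e⟩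

theorem oddAct_subgroupOf [Finite G] {T H : Subgroup G} (hT : T ≤ H)
    (hN : normalizer (T : Set G) ≤ H) (h : OddAct T) : OddAct (T.subgroupOf H) := by
  obtain ⟨g, h1, h2, h3⟩ := h
  refine ⟨⟨g, hN h1⟩, mem_normalizer_of_conj_mem fun a ha => conj_mem_of_mem_normalizer (H := T) h1 ha,
    by rwa [← Subgroup.orderOf_coe], fun h4 => h3 fun a ha => ?_⟩
  exact congrArg Subtype.val (h4 ⟨a, hT ha⟩ ha)

theorem exists_sylow_centralizer [Finite G] (S : Sylow 2 G) {t x : G} (h : IsConj t x)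
    (ht : (S : Subgroup G) ≤ centralizer {t}) :
    ∃ (g : G) (S' : Sylow 2 G), g * t * g⁻¹ = x ∧ (S' : Subgroup G) = cj g S ∧
      (S' : Subgroup G) ≤ centralizer {x} := by
  obtain ⟨g, rfl⟩ := isConj_iff.1 h
  refine ⟨g, g • S, rfl, coe_smul_sylow g S, ?_⟩
  rw [coe_smul_sylow, centralizer_conj]
  exact cj_mono g ht

theorem s1213 {G : Type*} [Group G] [Finite G] (S : Sylow 2 G) (hS : Cfsg.IsQuasiDihedral (S : Subgroup G) ∨ Cfsg.IsWreathed (S : Subgroup G)) (hG : ∀ H : Subgroup G, H.index ≠ 2) (x : G) (hx : orderOf x = 2) : ∃ R : Sylow 2 ↥(Subgroup.centralizer ({x} : Set G)), Nat.card R = Nat.card S ∧ (∃ K : Subgroup ↥(Subgroup.centralizer ({x} : Set G)), K.Normal ∧ (∃ a : ℕ, K.index = 2 ^ a) ∧ (∀ H : Subgroup ↥K, H.index ≠ 2) ∧ (∀ P : Sylow 2 ↥K, ∃ m : ℕ, 1 ≤ m ∧ Nonempty ((P : Subgroup ↥K) ≃* QuaternionGroup (2 ^ m)))) ∧ (∀ Z₀ : Subgroup ↥(Subgroup.centralizer ({x} : Set G)), Z₀ ≤ ((Subgroup.center (R : Subgroup ↥(Subgroup.centralizer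 ({x} : Set G)))).map (R : Subgroup ↥(Subgroup.centralizer ({x} : Set G))).subtype) → Cfsg.IsWeaklyClosed Z₀ (R : Subgroup ↥(Subgroup.centralizer ({x} : Set G)))) := by
  have hcen : ∀ g : centralizer ({x} : Set G), ∀ a : centralizer ({x} : Set G), (a : G) = x →
      g * a * g⁻¹ = a := fun g a e => Subtype.ext (by
    simp [e, mem_centralizer_singleton_iff.1 g.2])
  rcases hS with hS | hS
  · obtain ⟨a, b, l, h⟩ := exists_QD hS
    obtain ⟨g, S', -, h1, h2⟩ := exists_sylow_centralizer S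
      (h.isConj_z (h.fus_of_no_index_two hG).1 hx)
      (fun s hs => mem_centralizer_singleton_iff.2 (h.z_comm hs))
    obtain ⟨e⟩ := nonempty_equiv_cj g (S : Subgroup G)
    rw [← h1] at e
    obtain ⟨a, b, l, h⟩ := exists_QD (isQD_of_equiv e hS)
    have hxS : x ∈ (S' : Subgroup G) := (isSylowOf_top S').le_of_normalizes
      (isPGroup_zpowers (pow_two_pow_one_of_ord2 hx)) le_top (h2.trans (by
        rw [← PLoc.centralizer_zpowers]; exact centralizer_le_normalizer _)) (mem_zpowers x)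
    have hxz : x = a ^ (4 * l : ℤ) := ((mem_zpowers_ord2 (sq_of_ord2 h.zord)).1 (h.center_eq ▸
      ⟨hxS, fun s hs => mem_centralizer_singleton_iff.1 (h2 hs)⟩)).resolve_left (ne_one_of_ord2 hx)
    obtain ⟨R, hR, -⟩ := (isSylowOf_sylow S' h2).exists_sylow
    have h' := qd_subgroupOf h h2
    rw [← hR] at h'
    have h4 : ¬ Fus4 (R : Subgroup (centralizer ({x} : Set G))) := fun hf => by
      obtain ⟨g, -, k, e⟩ := h'.fus4_exists hf
      rw [hcen g _ hxz.symm] at e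
      exact h'.o_not_mem _ (e ▸ zpow_mem (mem_zpowers _) _)
    have hQ : FusQ (R : Subgroup (centralizer ({x} : Set G))) := by
      obtain ⟨Q, q1, ⟨q2⟩, q3⟩ := (h.fus_of_no_index_two hG).2
      obtain ⟨z, hz⟩ := exists_Q8 q2
      refine ⟨Q.subgroupOf _, hR ▸ comap_mono q1,
        ⟨(subgroupOfEquivOfLe (q1.trans h2)).trans q2⟩, oddAct_subgroupOf (q1.trans h2)
          (fun n hn => mem_centralizer_singleton_iff.2 ?_) q3⟩
      rw [hxz, ← (h.q8 hz q1).1]
      exact mul_inv_eq_iff_eq_mul.1 (hz.conj_z hn)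
    obtain ⟨K, k1, k2, k3, k4⟩ := h'.quaternion_case h4 hQ
    refine ⟨R, ?_, ⟨K, k1, ⟨1, k2⟩, k4, k3⟩, fun Z hZ => h'.weaklyClosed h4 hZ⟩
    show Nat.card (R : Subgroup (centralizer ({x} : Set G))) = Nat.card (S : Subgroup G)
    rw [hR, card_subgroupOf_of_le h2, Nat.card_congr e.toEquiv]
  · obtain ⟨a, b, c, l, h⟩ := exists_WR hS
    obtain ⟨g, S', -, h1, h2⟩ := exists_sylow_centralizer S
      (h.isConj_t (h.fus_of_no_index_two hG).1 (h.fus_of_no_index_two hG).2 hx)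
      (fun s hs => mem_centralizer_singleton_iff.2 (h.Z_comm (h.cmem _) hs))
    obtain ⟨e⟩ := nonempty_equiv_cj g (S : Subgroup G)
    rw [← h1] at e
    obtain ⟨a, b, c, l, h⟩ := exists_WR (isWR_of_equiv e hS)
    have hxS : x ∈ (S' : Subgroup G) := (isSylowOf_top S').le_of_normalizes
      (isPGroup_zpowers (pow_two_pow_one_of_ord2 hx)) le_top (h2.trans (by
        rw [← PLoc.centralizer_zpowers]; exact centralizer_le_normalizer _)) (mem_zpowers x)
    have hxz : x = wu a b (2 * l) (2 * l) := h.eq_t (h.center_eq ▸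
      ⟨hxS, fun s hs => mem_centralizer_singleton_iff.1 (h2 hs)⟩) hx
    obtain ⟨R, hR, -⟩ := (isSylowOf_sylow S' h2).exists_sylow
    have h' := wr_subgroupOf h (h2 (h.U_le (mem_sup_left (mem_zpowers a))))
      (h2 (h.U_le (mem_sup_right (mem_zpowers b)))) (h2 h.zmem)
    rw [← hR] at h'
    have h4 := fun hf => (show False by
      obtain ⟨g, e⟩ := isConj_iff.1 (h'.isConj_t_e hf)
      rw [hcen g _ hxz.symm] at e
      exact h'.e_ne_t e.symm)
    have hQ : FusV (R : Subgroup (centralizer ({x} : Set G))) (zpowers (wu ⟨a,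
        h2 (h.U_le (mem_sup_left (mem_zpowers a)))⟩ ⟨b,
        h2 (h.U_le (mem_sup_right (mem_zpowers b)))⟩ 1 1)) := by
      obtain ⟨Q, q1, ⟨q2⟩, q3⟩ := (h.fus_of_no_index_two hG).2
      obtain ⟨z, hz⟩ := exists_Q8 q2
      have hZ : zpowers (wu a b 1 1) ≤ centralizer {x} := (h.Z_le_U.trans h.U_le).trans h2
      refine ⟨Q.subgroupOf _, hR ▸ comap_mono q1,
        ⟨(subgroupOfEquivOfLe (q1.trans h2)).trans q2⟩, ?_⟩
      have := oddAct_subgroupOf (sup_le (q1.trans h2) hZ) (fun n hn =>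
        mem_centralizer_singleton_iff.2 (hxz ▸ (h.normalizer_V_le_centralizer hz q1 hn _
          (h.cmem _)).symm)) q3
      rw [subgroupOf_sup (q1.trans h2) hZ] at this
      convert this using 2
      apply map_injective (subtype_injective _)
      rw [MonoidHom.map_zpowers, map_subgroupOf_eq_of_le hZ]
      rfl
    obtain ⟨K, k1, k2, k3, k4⟩ := h'.quaternion_case h4 hQ
    obtain ⟨j, hj⟩ := h.pw
    refine ⟨R, ?_, ⟨K, k1, ⟨j + 2, by rw [k2, hj]; ring⟩, k4, k3⟩, fun Z hZ => h'.weaklyClosed h4 hZ⟩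
    show Nat.card (R : Subgroup (centralizer ({x} : Set G))) = Nat.card (S : Subgroup G)
    rw [hR, card_subgroupOf_of_le h2, Nat.card_congr e.toEquiv]

/-- a minimal normal subgroup of a core-free group with one class of involutions -/
theorem simple_of_one_class [Finite G] (hO : pPrimeCore 2 G = ⊥)
    (h1 : ∀ a b : G, orderOf a = 2 → orderOf b = 2 → IsConj a b) {a b : G} (ha : orderOf a = 2)
    (hb : orderOf b = 2) (hab : a * b ≠ b * a) :
    ∃ L : Subgroup G, L.Normal ∧ (∀ t, orderOf t = 2 → t ∈ L) ∧ IsSimpleGroup L ∧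
      ¬ IsMulCommutative L := by
  have hinv : ∀ N : Subgroup G, N.Normal → N ≠ ⊥ → ∀ t, orderOf t = 2 → t ∈ N := by
    intro N hN h0 t ht
    obtain ⟨s, hs, hs2⟩ := exists_involution_mem (H := N) (Nat.not_odd_iff_even.1 fun e =>
      h0 (eq_bot_of_pPrimeCore_eq_bot hO hN (Nat.coprime_two_right.2 e)))
    obtain ⟨g, rfl⟩ := isConj_iff.1 (h1 s t hs2 ht)
    exact hN.conj_mem s hs g
  have htop : (⊤ : Subgroup G) ≠ ⊥ := fun e => ne_one_of_ord2 ha (mem_bot.1 (e ▸ mem_top a))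
  obtain ⟨L, -, ⟨hL, hL0⟩, hLm⟩ := BG.exists_minimal (P := fun N : Subgroup G => N.Normal ∧ N ≠ ⊥)
    ⟨inferInstance, htop⟩
  have hLc : ¬ IsMulCommutative L := fun h =>
    hab (comm_of_mem h (hinv L hL hL0 a ha) (hinv L hL hL0 b hb))
  refine ⟨L, hL, hinv L hL hL0, ?_, hLc⟩
  have key : ∀ K ≤ L, L ≤ normalizer (K : Set G) → K ≠ ⊥ → K = L := by
    intro K₀ k1 k2 k3
    obtain ⟨K, hKK, ⟨c1, c2, c3⟩, hKm⟩ := BG.exists_minimal
      (P := fun K : Subgroup G => K ≤ L ∧ L ≤ normalizer (K : Set G) ∧ K ≠ ⊥) ⟨k1, k2, k3⟩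
    refine le_antisymm k1 (le_trans (ge_of_eq ?_) hKK)
    have hcj : ∀ g h : G, cj g K = cj h K ∨ cj g K ≤ centralizer (cj h K : Set G) := by
      intro g h
      have e : ∀ g : G, cj g K ≤ L ∧ L ≤ normalizer (cj g K : Set G) := fun g =>
        ⟨cj_eq_of_normal g L ▸ cj_mono g c1, by
          rw [← cj_normalizer]; exact cj_eq_of_normal g L ▸ cj_mono g c2⟩
      by_cases h0 : cj g K ⊓ cj h K = ⊥
      · exact Or.inr (le_centralizer_of_inf_eq_bot ((e g).1.trans (e h).2) ((e h).1.trans (e g).2) h0)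
      · left
        have := hKm (K ⊓ cj (g⁻¹ * h) K) ⟨inf_le_left.trans c1, le_normalizer_inf c2 (e _).2,
          fun e' => h0 (by
            have := congrArg (cj g) e'
            rwa [cj_inf, ← cj_mul, mul_inv_cancel_left, cj_bot] at this)⟩ inf_le_left
        have h2 := cj_mono g (inf_eq_left.1 this)
        rw [← cj_mul, mul_inv_cancel_left] at h2
        exact eq_of_le_of_card_ge h2 (by rw [card_cj, card_cj])
    by_contra hne
    obtain ⟨t, ht, ht2⟩ := exists_involution_mem (H := K) (Nat.not_odd_iff_even.1 fun e =>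
      c3 (eq_bot_iff.2 ((le_pPrimeCoreOf c1 c2 (Nat.coprime_two_right.2 e)).trans
        ((pPrimeCoreOf_le_pPrimeCore L).trans hO.le))))
    obtain ⟨g, hg⟩ : ∃ g, cj g K ≠ K := by
      by_contra hc
      push Not at hc
      exact hne (hLm K ⟨normal_of_forall_mem_normalizer fun g => cj_eq_self_iff.1 (hc g), c3⟩ c1)
    have hc : cj g K ≤ centralizer (K : Set G) := by
      simpa [cj_one] using (hcj g 1).resolve_left (by simpa [cj_one] using hg)
    have ht' : g * t * g⁻¹ ∈ cj g K := conj_mem_cj.2 ht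
    have htc : t ∈ centralizer (K : Set G) := by
      by_cases h2 : g * t * g⁻¹ ∈ K
      · exact cj_le_iff'.1 (show cj g⁻¹ (K ⊓ centralizer (K : Set G)) ≤ centralizer (K : Set G) from by
          have h3 := hKm (K ⊓ centralizer (K : Set G)) ⟨inf_le_left.trans c1,
            le_normalizer_inf c2 (le_normalizer_centralizer c2), fun e => ne_one_of_ord2
              ((Inv.orderOf_conj' g t).trans ht2) (mem_bot.1 (e ▸ ⟨h2, hc ht'⟩))⟩ inf_le_left
          rw [h3]
          rcases hcj g⁻¹ 1 with h4 | h4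
          · rw [h4, cj_one]; exact inf_eq_left.1 h3
          · simpa [cj_one] using h4) _ ⟨h2, hc ht'⟩ |> fun h => by simpa [mul_assoc] using h
      · have h3 : orderOf (t * (g * t * g⁻¹)) = 2 := ord2_iff.2 ⟨by
          rw [mul_assoc, ← mul_assoc (g * t * g⁻¹), ← hc ht' t ht, mul_assoc,
            sq_of_ord2 ((Inv.orderOf_conj' g t).trans ht2), mul_one, sq_of_ord2 ht2],
          fun e => h2 (by rw [eq_inv_of_mul_eq_one_right e]; exact inv_mem ht)⟩
        obtain ⟨k, hk⟩ := isConj_iff.1 (h1 _ _ ht2 h3)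
        have h4 : t * (g * t * g⁻¹) ∈ cj k K := hk ▸ conj_mem_cj.2 ht
        rcases hcj k 1 with h5 | h5
        · rw [h5, cj_one] at h4
          exact absurd ((mul_mem_cancel_left ht).1 h4) h2
        · rw [cj_one] at h5
          exact (mul_mem_cancel_right (hc ht')).1 (h5 h4)
    have h5 : zpowers t ≤ pCoreOf 2 L := by
      have h3 := hKm (K ⊓ centralizer (K : Set G)) ⟨inf_le_left.trans c1,
        le_normalizer_inf c2 (le_normalizer_centralizer c2), fun e => ne_one_of_ord2 ht2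
          (mem_bot.1 (e ▸ ⟨ht, htc⟩))⟩ inf_le_left
      exact (le_pCoreOf (zpowers_le.2 ht) (fun a ha => centralizer_le_normalizer _ (by
        rw [PLoc.centralizer_zpowers]; exact mem_centralizer_singleton_iff.2 (htc a ha)))
        (isPGroup_zpowers (pow_two_pow_one_of_ord2 ht2))).trans
        (pCoreOf_le_pCoreOf_of_normal c1 c2)
    have h6 : pCoreOf 2 L = L := hLm _ ⟨inferInstance, fun e => ne_one_of_ord2 ht2
      (mem_bot.1 (e ▸ h5 (mem_zpowers t)))⟩ (pCoreOf_le L)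
    have h7 : IsPGroup 2 L := h6 ▸ pCoreOf_isPGroup L
    have h8 := hLm (L ⊓ centralizer (L : Set G)) ⟨inferInstance,
      inf_centralizer_ne_bot h7 h7 le_normalizer hL0⟩ inf_le_left
    exact hLc (isMulCommutative_of_forall fun a ha b hb => inf_eq_left.1 h8 hb a ha)
  have : Nontrivial L := (nontrivial_iff_ne_bot L).2 hL0
  refine ⟨fun N hN => ?_⟩
  by_cases h0 : N = ⊥
  · exact Or.inl h0
  · right
    have := key (N.map L.subtype) (map_subtype_le N) (le_normalizer_map_subtype N)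
      (fun e => h0 ((Subgroup.map_eq_bot_iff_of_injective _ (subtype_injective L)).1 e))
    exact map_injective (subtype_injective L) (by rw [this, ← MonoidHom.range_eq_map, range_subtype])

theorem odd_index_of_cyclic [Finite G] (hG : ∀ H : Subgroup G, H.index ≠ 2) {S L : Subgroup G}
    [L.Normal] (hS : IsSylowOf 2 S ⊤) {s : G} (h : S ≤ L ⊔ zpowers s) : Odd L.index := by
  by_contra he
  obtain ⟨P, hP⟩ := (isSylowOf_map_top (QuotientGroup.mk'_surjective L) hS).exists_sylow_top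
  obtain ⟨H, hH⟩ := s0219 (G := G ⧸ L) (Nat.not_odd_iff_even.1 he) P (by
    have : (P : Subgroup (G ⧸ L)) ≤ zpowers (QuotientGroup.mk' L s) := by
      rw [hP, ← MonoidHom.map_zpowers, map_le_iff_le_comap, comap_map_eq, QuotientGroup.ker_mk',
        sup_comm]
      exact h
    exact isCyclic_of_le this)
  exact hG (H.comap (QuotientGroup.mk' L))
    (by rw [index_comap_of_surjective _ (QuotientGroup.mk'_surjective L), hH])

theorem s1214 {G : Type*} [Group G] [Finite G] (S : Sylow 2 G) (hS : Cfsg.IsQuasiDihedral (S : Subgroup G) ∨ Cfsg.IsWreathed (S : Subgroup G)) (hG : ∀ H : Subgroup G, H.index ≠ 2) : ∃ L : Subgroup (G ⧸ Cfsg.oddCore G), L.Normal ∧ Odd L.index ∧ IsSimpleGroup L ∧ ¬ IsMulCommutative L := by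
  have hs := QuotientGroup.mk'_surjective (pPrimeCore 2 G)
  obtain ⟨P, hP⟩ := (isSylowOf_map_top hs (isSylowOf_top S)).exists_sylow_top
  have e : (S : Subgroup G) ≃* (P : Subgroup (G ⧸ pPrimeCore 2 G)) := by
    rw [hP]
    exact MulEquiv.ofBijective ((QuotientGroup.mk' _).subgroupMap _)
      ⟨(injective_iff_map_eq_one _).2 fun a ha => Subtype.ext
        (inj_on_mk_pPrimeCore S.2 a a.2 (congrArg Subtype.val ha)),
        MonoidHom.subgroupMap_surjective _ _⟩
  have hG' : ∀ H : Subgroup (G ⧸ pPrimeCore 2 G), H.index ≠ 2 := fun H hH =>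
    hG (H.comap (QuotientGroup.mk' _)) (by rw [index_comap_of_surjective _ hs, hH])
  rcases hS with hS | hS
  · obtain ⟨x, y, l, h⟩ := exists_QD (isQD_of_equiv e hS)
    have h4 := (h.fus_of_no_index_two hG').1
    obtain ⟨L, l1, l2, l3, l4⟩ := simple_of_one_class pPrimeCore_quotient_pPrimeCore
      (fun a b ha hb => (h.isConj_z h4 ha).symm.trans (h.isConj_z h4 hb)) h.yord (h.ord_even 1)
      (fun e => by
        rw [← mul_assoc, h.y_mul_even, mul_left_inj, mul_left_inj] at e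
        have := h.lpos
        exact h.ne_of_small (by omega) (by omega) (by omega) e)
    refine ⟨L, l1, odd_index_of_cyclic hG' (isSylowOf_top P) (s := x) fun g hg => ?_, l3, l4⟩
    obtain ⟨k, rfl | rfl⟩ := (h.mem g).1 hg
    · exact mem_sup_right (zpow_mem (mem_zpowers x) k)
    · exact mul_mem (mem_sup_right (zpow_mem (mem_zpowers x) k)) (mem_sup_left (l2 y h.yord))
  · obtain ⟨x, y, z, l, h⟩ := exists_WR (isWR_of_equiv e hS)
    obtain ⟨h4, h5⟩ := h.fus_of_no_index_two hG'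
    obtain ⟨L, l1, l2, l3, l4⟩ := simple_of_one_class pPrimeCore_quotient_pPrimeCore
      (fun a b ha hb => (h.isConj_t h4 h5 ha).symm.trans (h.isConj_t h4 h5 hb)) h.zord h.eord
      (fun e => by
        rw [h.z_mul, mul_left_inj] at e
        have := h.lpos
        exact h.ne_left (by omega) (by omega) (by omega) e)
    refine ⟨L, l1, odd_index_of_cyclic hG' (isSylowOf_top P) (s := x) fun g hg => ?_, l3, l4⟩
    have hz : z ∈ L ⊔ zpowers x := mem_sup_left (l2 z h.zord)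
    have hx : x ∈ L ⊔ zpowers x := mem_sup_right (mem_zpowers x)
    have hy : y ∈ L ⊔ zpowers x := h.conj ▸ mul_mem (mul_mem hz hx) (inv_mem hz)
    obtain ⟨a, b, rfl | rfl⟩ := (h.mem g).1 hg
    · exact mul_mem (zpow_mem hx a) (zpow_mem hy b)
    · exact mul_mem (mul_mem (zpow_mem hx a) (zpow_mem hy b)) hz

theorem s0521 {X : Type*} [Group X] [Finite X] [Group.IsSolvable X]
    (hX : Odd (Nat.card X)) (p : ℕ) [hp : Fact p.Prime] (S : Sylow p X) (hS : IsCyclic (commutator (S : Subgroup X))) :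
    (Cfsg.pPrimeCore p X ⊔ (S : Subgroup X)).Normal := by
  by_cases h2 : p = 2
  · subst h2
    rw [eq_bot_of_isPGroup_of_coprime S.2 (Nat.coprime_two_right.2
      (hX.of_dvd_nat (card_subgroup_dvd_card _))), sup_bot_eq]
    infer_instance
  have hs := QuotientGroup.mk'_surjective (pPrimeCore p X)
  have hT := isSylowOf_map_top hs (isSylowOf_top S)
  have hc : IsCyclic (⁅(S : Subgroup X).map (QuotientGroup.mk' (pPrimeCore p X)),
      (S : Subgroup X).map (QuotientGroup.mk' (pPrimeCore p X))⁆ : Subgroup _) := by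
    rw [← map_commutator, ← map_subtype_commutator]
    exact isCyclic_map (isCyclic_map hS _) _
  suffices ((S : Subgroup X).map (QuotientGroup.mk' (pPrimeCore p X))).Normal by
    have := this.comap (QuotientGroup.mk' (pPrimeCore p X))
    rwa [comap_map_eq, QuotientGroup.ker_mk', sup_comm] at this
  generalize (S : Subgroup X).map (QuotientGroup.mk' (pPrimeCore p X)) = T at hT hc
  have hO : pPrimeCore p (X ⧸ pPrimeCore p X) = ⊥ := pPrimeCore_quotient_pPrimeCore
  have ho : Odd (Nat.card (X ⧸ pPrimeCore p X)) := hX.of_dvd_nat (card_quotient_dvd_card _)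
  have hsol : Group.IsSolvable (X ⧸ pPrimeCore p X) := inferInstance
  generalize_proofs at hT hc hO ho hsol ⊢
  set Y := X ⧸ pPrimeCore p X
  have hC := centralizer_pCore_le_of_isPSolvable (isPSolvable_of_isSolvable (p := p) hsol) hO
  have hB : pCore p Y ≤ T := pCoreOf_top (G := Y) (p := p) ▸ hT.pCoreOf_le
  have := frattiniOf_normal (pCore p Y)
  have hab : AbSyl2 (⊤ : Subgroup Y) := fun T _ hT => by
    rw [eq_bot_of_isPGroup_of_coprime hT (Nat.coprime_two_right.2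
      (ho.of_dvd_nat (card_subgroup_dvd_card _)))]
    infer_instance
  have hq : ⁅⁅pCore p Y, T⁆, T⁆ ≤ frattiniOf (pCore p Y) := by
    obtain ⟨c, hc'⟩ := isCyclic_iff_zpowers.1 (isCyclic_of_le (commutator_mono hB le_rfl :
      ⁅pCore p Y, T⁆ ≤ ⁅T, T⁆))
    have h1 : ⁅pCore p Y, T⁆ ≤ pCore p Y := commutator_le_left _ _
    by_cases h0 : ⁅pCore p Y, T⁆ = ⊥
    · rw [h0, commutator_bot_left]; exact bot_le
    have h3 := commutator_lt_of_isPGroup h0 (h1.trans hB)
      (le_normalizer_commutator le_normalizer_of_normal le_normalizer) hT.isP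
    rw [hc'] at h3 h1 ⊢
    intro d hd
    obtain ⟨k, rfl⟩ := h3.le hd
    by_cases hk : (p : ℤ) ∣ k
    · obtain ⟨j, rfl⟩ := hk
      show c ^ (p * j) ∈ _
      rw [mul_comm, zpow_mul, zpow_natCast]
      exact pow_mem_frattiniOf pCore_isPGroup (h1 (zpow_mem (mem_zpowers c) j))
    · refine absurd (zpowers_le.2 (zpowers_le.2 hd ?_)) h3.not_ge
      have := Core.mem_zpowers_zpow_of_isPGroup (pCore_isPGroup (p := p) (G := Y))
        ⟨c, h1 (mem_zpowers c)⟩ hk
      obtain ⟨i, hi⟩ := this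
      exact ⟨i, congrArg Subtype.val hi⟩
  have h3 := ((inOp_sectionKernel (stabOn_of_abSyl2 h2
    (map_top_of_surjective _ (QuotientGroup.mk'_surjective (frattiniOf (pCore p Y))) ▸ hab.map _)
    (isEA_map_mk_frattini pCore_isPGroup le_rfl) (by
      have := Normal.map (inferInstance : (pCore p Y).Normal) _
        (QuotientGroup.mk'_surjective (frattiniOf (pCore p Y)))
      exact le_normalizer_of_normal)) hq).of_coprime (C' := centralizer (pCore p Y : Set Y))
    fun x hx _ ho => mem_centralizer_of_commutator_le_frattiniOf pCore_isPGroup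
      (mem_normalizer_of_normal _ _) ho (sectionKernel_eq_ker_aux.1 hx)).le_pCoreOf
      (pCore_isPGroup.to_le hC)
  rw [pCoreOf_top] at h3
  rw [le_antisymm h3 hB]
  infer_instance

end Cfsg.Agent.Dih
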