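import Cfsg.Agent.Dih.Rank2
import Cfsg.Agent.BG.S04a

/-! Framework for bounds on the sectional 2-rank of 2-groups. -/

set_option autoImplicit false
set_option linter.unusedVariables false
set_option linter.unusedSectionVars false

namespace Cfsg.Agent.Dih

open Cfsg.Agent.PLoc Cfsg.Agent.Inv Subgroup
open scoped commutatorElement

variable {G : Type*} [Group G]

/-- `N ≤ H` contains the squares of the elements of `H`. -/
structure SqIn (H N : Subgroup G) : Prop where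
  le : N ≤ H
  sq : ∀ h ∈ H, h * h ∈ N

theorem SqIn.comm {H N : Subgroup G} (h : SqIn H N) {x y : G} (hx : x ∈ H) (hy : y ∈ H) :
    ⁅x, y⁆ ∈ N := by
  have e : ⁅x, y⁆ = x * x * (x⁻¹ * y * (x⁻¹ * y)) * (y * y)⁻¹ := by
    rw [commutatorElement_def]; group
  rw [e]
  exact mul_mem (mul_mem (h.sq x hx) (h.sq _ (mul_mem (inv_mem hx) hy))) (inv_mem (h.sq y hy))

theorem SqIn.norm {H N : Subgroup G} [Finite G] (h : SqIn H N) : H ≤ normalizer (N : Set G) := by
  intro x hx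
  refine mem_normalizer_fintype fun n hn => ?_
  have e : x * n * x⁻¹ = ⁅x, n⁆ * n := by rw [commutatorElement_def]; group
  rw [e]
  exact mul_mem (h.comm hx (h.le hn)) hn

theorem SqIn.up {H N : Subgroup G} (h : SqIn H N) (V : Subgroup G) : SqIn H (N ⊔ H ⊓ V) :=
  ⟨sup_le h.le inf_le_left, fun x hx => le_sup_left (a := N) (h.sq x hx)⟩

theorem SqIn.chain {H N : Subgroup G} [Finite G] (h : SqIn H N) (V : Subgroup G) :
    N.relIndex H = N.relIndex (H ⊓ V) * (N ⊔ H ⊓ V).relIndex H := by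
  rw [← relIndex_mul_relIndex N (N ⊔ H ⊓ V) H le_sup_left (h.up V).le, sup_comm N,
    PLoc.relIndex_sup_of_le_normalizer (inf_le_left.trans h.norm)]

theorem SqIn.mem_up {H N : Subgroup G} [Finite G] (h : SqIn H N) {V : Subgroup G} {x : G}
    (hx : x ∈ N ⊔ H ⊓ V) : ∃ n ∈ N, ∃ v ∈ H, v ∈ V ∧ x = n * v := by
  obtain ⟨n, hn, v, hv, rfl⟩ :=
    (PLoc.mem_sup_of_le_normalizer_left (inf_le_left.trans h.norm)).1 hx
  exact ⟨n, hn, v, hv.1, hv.2, rfl⟩

/-- all elementary abelian 2-sections have order at most `k` -/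
def SR (k : ℕ) (G : Type*) [Group G] : Prop :=
  ∀ H N : Subgroup G, SqIn H N → N.relIndex H ≤ k

theorem sec_of_SR (h : SR 16 G) : SectionalPRankLE 2 4 G := by
  intro H N _ A hA hA2
  let B := A.comap (QuotientGroup.mk' N)
  have hNB : N ≤ B := fun x hx => by
    show QuotientGroup.mk' N x ∈ A
    rw [QuotientGroup.mk'_apply, (QuotientGroup.eq_one_iff x).2 hx]; exact one_mem _
  have h1 := h (B.map H.subtype) (N.map H.subtype) ⟨map_mono hNB, by
    rintro _ ⟨x, hx, rfl⟩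
    refine ⟨x * x, ?_, rfl⟩
    rw [SetLike.mem_coe, ← QuotientGroup.eq_one_iff, QuotientGroup.mk_mul, ← pow_two]
    exact hA2 _ hx⟩
  rw [relIndex_map_map_of_injective _ _ H.subtype_injective] at h1
  have h2 : N.relIndex B = Nat.card A := by
    conv_lhs => rw [← QuotientGroup.ker_mk' N, ← MonoidHom.comap_bot]
    rw [relIndex_comap, map_comap_eq_self_of_surjective (QuotientGroup.mk'_surjective N),
      relIndex_bot_left]
  omega

/-- Lemma I -/
theorem relIndex_le_ncard {β : Type*} {D X : Subgroup G} (f : G → β) {T : Set β} (hT : T.Finite)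
    (h1 : ∀ x ∈ X, f x ∈ T) (h2 : ∀ x ∈ X, ∀ y ∈ X, f x = f y → x⁻¹ * y ∈ D) :
    D.relIndex X ≤ T.ncard := by
  have := hT.to_subtype
  rw [relIndex, index, ← Nat.card_coe_set_eq]
  refine Nat.card_le_card_of_injective
    (fun q : X ⧸ D.subgroupOf X => (⟨f q.out, h1 _ q.out.2⟩ : T)) fun q r e => ?_
  rw [← QuotientGroup.out_eq' q, ← QuotientGroup.out_eq' r, QuotientGroup.eq]
  exact h2 _ q.out.2 _ r.out.2 (congrArg Subtype.val e)

theorem relIndex_le_card {β : Type*} {D X : Subgroup G} (f : G → β) (T : Finset β)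
    (h1 : ∀ x ∈ X, f x ∈ T) (h2 : ∀ x ∈ X, ∀ y ∈ X, f x = f y → x⁻¹ * y ∈ D) :
    D.relIndex X ≤ T.card := by
  rw [← Set.ncard_coe_finset]
  exact relIndex_le_ncard f T.finite_toSet h1 h2

theorem relIndex_le_sub [Finite G] {D X Y : Subgroup G} (f : G → G)
    (h1 : ∀ x ∈ X, f x ∈ Y) (h2 : ∀ x ∈ X, ∀ y ∈ X, f x = f y → x⁻¹ * y ∈ D) :
    D.relIndex X ≤ Nat.card Y :=
  relIndex_le_ncard f (T := (Y : Set G)) (Set.toFinite _) h1 h2

theorem relIndex_le_two {D X : Subgroup G}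
    (h : ∀ x ∈ X, ∀ y ∈ X, x ∉ D → y ∉ D → x⁻¹ * y ∈ D) : D.relIndex X ≤ 2 := by
  classical
  refine relIndex_le_card (fun x => decide (x ∈ D)) Finset.univ (fun _ _ => Finset.mem_univ _)
    fun x hx y hy e => ?_
  by_cases hxD : x ∈ D
  · exact mul_mem (inv_mem hxD) (by simpa [hxD] using e)
  · exact h x hx y hy hxD (by simpa [hxD] using e)

theorem card_le_relIndex_mul [Finite G] (D X : Subgroup G) :
    Nat.card X ≤ D.relIndex X * Nat.card D := by
  rw [← PLoc.card_inf_mul_relIndex D X, mul_comm]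
  exact Nat.mul_le_mul_left _ (card_le_of_le inf_le_left)

theorem relIndex_le_card' [Finite G] (D X : Subgroup G) : D.relIndex X ≤ Nat.card X := by
  rw [← PLoc.card_inf_mul_relIndex D X]
  exact Nat.le_mul_of_pos_left _ Nat.card_pos

/-- Lemma G -/
theorem relIndex_le_cent [Finite G] {X Z K D : Subgroup G} {m : G}
    (hZ : X ≤ normalizer (Z : Set G)) (hK : ∀ x ∈ X, ⁅m, x⁆ ∈ K ⊓ X) (hZK : Z ⊓ X ≤ K)
    (hD : ∀ x ∈ X, ⁅m, x⁆ ∈ Z → x ∈ D) : K.relIndex X ≤ Z.relIndex (D ⊓ X) := by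
  classical
  have h1 : D.relIndex X ≤ Z.relIndex (K ⊓ X) := by
    have := relIndex_le_ncard (D := D) (X := X)
      (fun x => if h : x ∈ X then
        (QuotientGroup.mk ⟨⁅m, x⁆, hK x h⟩ : (K ⊓ X : Subgroup G) ⧸ Z.subgroupOf (K ⊓ X))
        else QuotientGroup.mk 1) (T := Set.univ) (Set.toFinite _) (fun _ _ => trivial)
      fun x hx y hy e => by
        simp only [hx, hy, dif_pos, QuotientGroup.eq, mem_subgroupOf] at e
        refine hD _ (mul_mem (inv_mem hx) hy) ?_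
        have := (mem_normalizer_iff.1 (hZ (inv_mem hx)) _).1 e
        convert this using 1
        simp only [coe_mul, InvMemClass.coe_inv, commutatorElement_def]; group
    rwa [Set.ncard_univ] at this
  have e1 := PLoc.card_inf_mul_relIndex K X
  have e2 := PLoc.card_inf_mul_relIndex D X
  have e3 := PLoc.card_inf_mul_relIndex Z (K ⊓ X)
  have e4 := PLoc.card_inf_mul_relIndex Z (D ⊓ X)
  have e5 : Nat.card (Z ⊓ (D ⊓ X) : Subgroup G) ≤ Nat.card (Z ⊓ (K ⊓ X) : Subgroup G) :=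
    card_le_of_le fun x hx => ⟨hx.1, hZK ⟨hx.1, hx.2.2⟩, hx.2.2⟩
  have p : 0 < Nat.card (K ⊓ X : Subgroup G) := Nat.card_pos
  refine Nat.le_of_mul_le_mul_left ?_ p
  rw [e1, ← e2, ← e4, ← e3]
  calc _ ≤ Nat.card (Z ⊓ (K ⊓ X) : Subgroup G) * Z.relIndex (D ⊓ X) * Z.relIndex (K ⊓ X) :=
        Nat.mul_le_mul (Nat.mul_le_mul_right _ e5) h1
    _ = _ := by ring

theorem relIndex_le_card_cent [Finite G] {X K : Subgroup G} {m : G}
    (hK : ∀ x ∈ X, ⁅m, x⁆ ∈ K ⊓ X) :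
    K.relIndex X ≤ Nat.card (centralizer {m} ⊓ X : Subgroup G) := by
  have := relIndex_le_cent (Z := ⊥) (D := centralizer {m}) (m := m) (K := K) (X := X)
    (by rw [normalizer_eq_top]; exact le_top) hK (by simp) fun x _ h =>
      mem_centralizer_singleton_iff.2 (commutatorElement_eq_one_iff_mul_comm.1 (mem_bot.1 h)).symm
  rwa [relIndex_bot_left] at this

theorem pow_two_cases {r : ℕ} (h : ∃ k, r = 2 ^ k) : r = 1 ∨ r = 2 ∨ r = 4 ∨ r = 8 ∨ 16 ≤ r := by
  obtain ⟨k, rfl⟩ := h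
  rcases k with _ | _ | _ | _ | k
  · simp
  · simp
  · simp
  · simp
  · exact Or.inr (Or.inr (Or.inr (Or.inr (Nat.le_of_dvd (by positivity) ⟨2 ^ k, by ring⟩))))

theorem card_pw [Finite G] (hG : IsPGroup 2 G) (K : Subgroup G) : ∃ k, Nat.card K = 2 ^ k :=
  (hG.to_subgroup K).exists_card_eq

theorem relIndex_pw [Finite G] (hG : IsPGroup 2 G) (K H : Subgroup G) :
    ∃ k, K.relIndex H = 2 ^ k := by
  obtain ⟨k, hk⟩ := card_pw hG H
  have : K.relIndex H ∣ 2 ^ k := hk ▸ relIndex_dvd_card K H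
  obtain ⟨j, -, hj⟩ := (Nat.dvd_prime_pow Nat.prime_two).1 this
  exact ⟨j, hj⟩

theorem card_cases [Finite G] (hG : IsPGroup 2 G) (K : Subgroup G) :
    Nat.card K = 1 ∨ Nat.card K = 2 ∨ Nat.card K = 4 ∨ Nat.card K = 8 ∨ 16 ≤ Nat.card K :=
  pow_two_cases (card_pw hG K)

theorem relIndex_cases [Finite G] (hG : IsPGroup 2 G) (K H : Subgroup G) :
    K.relIndex H = 1 ∨ K.relIndex H = 2 ∨ K.relIndex H = 4 ∨ K.relIndex H = 8 ∨
      16 ≤ K.relIndex H :=
  pow_two_cases (relIndex_pw hG K H)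

/-- Lemma A -/
theorem relIndex_le_of_sq [Finite G] {X N V : Subgroup G} (hN : ∀ x ∈ X, x * x ∈ N)
    (h : ∀ x ∈ X, ∀ y ∈ X, x * x = y * y → x⁻¹ * y ∈ V) :
    N.relIndex X ≤ Nat.card V ∧
      (N.relIndex X = Nat.card V → ∀ n ∈ N, n ∈ X → ∃ x ∈ X, x * x = n) := by
  let T : Set G := {n | ∃ x ∈ X, x * x = n}
  have h1 := relIndex_le_ncard (D := V) (X := X) (fun x => x * x) (T := T) (Set.toFinite _)
    (fun x hx => ⟨x, hx, rfl⟩) h
  have h2 : T ⊆ (N ⊓ X : Subgroup G) := by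
    rintro _ ⟨x, hx, rfl⟩
    exact ⟨hN x hx, mul_mem hx hx⟩
  have h3 := Set.ncard_le_ncard h2 (Set.toFinite _)
  have h4 := card_le_relIndex_mul V X
  have h5 := PLoc.card_inf_mul_relIndex N X
  have h6 : (N ⊓ X : Subgroup G).carrier.ncard = Nat.card (N ⊓ X : Subgroup G) := rfl
  have p : 0 < Nat.card (N ⊓ X : Subgroup G) := Nat.card_pos
  change T.ncard ≤ Nat.card (N ⊓ X : Subgroup G) at h3
  have h7 : Nat.card (N ⊓ X : Subgroup G) * N.relIndex X ≤ T.ncard * Nat.card V := by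
    rw [h5]; exact h4.trans (Nat.mul_le_mul_right _ h1)
  refine ⟨Nat.le_of_mul_le_mul_left (h7.trans (Nat.mul_le_mul_right _ h3)) p, fun e n hn hx => ?_⟩
  rw [e] at h7
  have h8 := Nat.le_of_mul_le_mul_right h7 Nat.card_pos
  have h9 := Set.eq_of_subset_of_ncard_le h2 h8 (Set.toFinite _)
  have : n ∈ T := h9 ▸ (show n ∈ (N ⊓ X : Subgroup G) from ⟨hn, hx⟩)
  exact this

/-- cyclic modulo `V` -/
theorem relIndex_le_two_of_cyc [Finite G] {X N V : Subgroup G} [V.Normal] {k : G}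
    (hX : X ≤ V ⊔ zpowers k) (hN : ∀ x ∈ X, x * x ∈ N) (hV : X ⊓ V ≤ N) : N.relIndex X ≤ 2 := by
  let π := QuotientGroup.mk' V
  have h1 : X.map π ≤ zpowers (π k) := by
    rw [← MonoidHom.map_zpowers]
    refine (map_mono hX).trans ?_
    rw [Subgroup.map_sup, (Subgroup.map_eq_bot_iff V).2 (by rw [QuotientGroup.ker_mk']), bot_sup_eq]
  have h2 : IsCyclic (X.map π) := isCyclic_of_le h1
  obtain ⟨a, ha⟩ := isCyclic_iff_zpowers.1 h2
  obtain ⟨x₀, hx₀, rfl⟩ : a ∈ X.map π := ha ▸ mem_zpowers a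
  have key : ∀ x ∈ X, x ∉ N → ∃ n ∈ N, x = x₀ * n := fun x hx hxN => by
    obtain ⟨i, hi⟩ : π x ∈ zpowers (π x₀) := ha ▸ mem_map_of_mem π hx
    have h3 : (x₀ ^ i)⁻¹ * x ∈ N := hV (mem_inf.2 ⟨mul_mem (inv_mem (zpow_mem (K := X) hx₀ i)) hx, by
      rw [← QuotientGroup.eq]
      exact (map_zpow π x₀ i).trans hi⟩)
    rcases Int.even_or_odd' i with ⟨j, rfl | rfl⟩
    · refine (hxN ?_).elim
      have := mul_mem (zpow_mem (hN x₀ hx₀) j) h3
      convert this using 1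
      rw [← pow_two, ← zpow_natCast, ← zpow_mul]; simp
    · refine ⟨(x₀ * x₀) ^ j * ((x₀ ^ (2 * j + 1))⁻¹ * x), mul_mem (zpow_mem (hN x₀ hx₀) j) h3, ?_⟩
      rw [← pow_two, ← zpow_natCast, ← zpow_mul]; group
  refine relIndex_le_two fun x hx y hy h3 h4 => ?_
  obtain ⟨n, hn, rfl⟩ := key x hx h3
  obtain ⟨m, hm, rfl⟩ := key y hy h4
  have := mul_mem (inv_mem hn) hm
  convert this using 1; group

theorem relIndex_le_of_inf [Finite G] {K Y H : Subgroup G} (h : H ⊓ Y ≤ K) :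
    K.relIndex H ≤ Y.index := by
  have h1 : K.relIndex H ≤ Y.relIndex H := by
    rw [← inf_relIndex_right Y H, inf_comm]
    exact relIndex_le_of_le_left h (PLoc.relIndex_pos' _ _).ne'
  refine h1.trans ?_
  rw [← relIndex_top_right]
  exact relIndex_le_of_le_right le_top (PLoc.relIndex_pos' _ _).ne'

theorem relIndex_le_of_inf' [Finite G] {K Y H : Subgroup G} (h : H ⊓ Y ≤ K) :
    K.relIndex H ≤ Y.relIndex H := by
  rw [← inf_relIndex_right Y H, inf_comm]
  exact relIndex_le_of_le_left h (PLoc.relIndex_pos' _ _).ne'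

theorem exists_not_mem_of_one_lt {K H : Subgroup G} (h : K.relIndex H ≠ 1) :
    ∃ x ∈ H, x ∉ K := by
  by_contra h'
  push Not at h'
  exact h (relIndex_eq_one.2 h')

/-- L4 -/
theorem relIndex_le_four [Finite G] (hG : IsPGroup 2 G) {H N V : Subgroup G} [V.Normal] {k : G}
    (hk : (V ⊔ zpowers k).index ≤ 2) (h : SqIn H N) (hV : H ⊓ V ≤ N) :
    N.relIndex H ≤ 4 ∧
      (2 < N.relIndex H → ∃ x ∈ H, x ∉ V ∧ x * x ∈ V ∧ ∀ s : G, ⁅s, x⁆ ∈ V) := by
  have e := h.chain (V ⊔ zpowers k)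
  have h1 : N.relIndex (H ⊓ (V ⊔ zpowers k)) ≤ 2 :=
    relIndex_le_two_of_cyc inf_le_right (fun x hx => h.sq x hx.1)
      fun x hx => hV ⟨hx.1.1, hx.2⟩
  have h2 : (N ⊔ H ⊓ (V ⊔ zpowers k)).relIndex H ≤ 2 :=
    (relIndex_le_of_inf le_sup_right).trans hk
  refine ⟨e ▸ Nat.mul_le_mul h1 h2, fun h3 => ?_⟩
  obtain ⟨x₀, hx₀, hx₀N⟩ := exists_not_mem_of_one_lt (K := N) (H := H ⊓ (V ⊔ zpowers k))
    fun e' => by rw [e', one_mul] at e; omega
  obtain ⟨i, h4, h5⟩ := Core.exists_pow_not_mem_pow_mem hG (A := V) (g := x₀)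
    fun h => hx₀N (hV ⟨hx₀.1, h⟩)
  have hY : (V ⊔ zpowers k).Normal := by
    rcases Nat.lt_or_ge (V ⊔ zpowers k).index 2 with h | h
    · have : (V ⊔ zpowers k).index = 1 := by
        have := Nat.pos_of_ne_zero (index_ne_zero_of_finite (H := V ⊔ zpowers k)); omega
      rw [index_eq_one.1 this]; infer_instance
    · exact normal_of_index_eq_two (le_antisymm hk h)
  set x := x₀ ^ 2 ^ i
  have hx : x ∈ H ⊓ (V ⊔ zpowers k) := pow_mem hx₀ _
  rw [pow_two] at h5
  refine ⟨x, hx.1, h4, h5, fun s => ?_⟩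
  let π := QuotientGroup.mk' V
  have h6 : ∀ y ∈ V ⊔ zpowers k, π y ∈ zpowers (π k) := fun y hy => by
    have : (V ⊔ zpowers k).map π ≤ zpowers (π k) := by
      rw [Subgroup.map_sup, (Subgroup.map_eq_bot_iff V).2 (by rw [QuotientGroup.ker_mk']),
        bot_sup_eq, MonoidHom.map_zpowers]
    exact this (mem_map_of_mem π hy)
  have h7 : orderOf (π x) = 2 := orderOf_eq_prime
    (by rw [pow_two, ← map_mul]; exact (QuotientGroup.eq_one_iff _).2 h5)
    fun e => h4 ((QuotientGroup.eq_one_iff _).1 e)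
  have h8 := invol_eq_of_isCyclic inferInstance (h6 _ (hY.conj_mem x hx.2 s)) (h6 x hx.2)
    (by rw [map_mul, map_mul, map_inv, Inv.orderOf_conj', h7]) h7
  rw [← QuotientGroup.eq_one_iff, commutatorElement_def]
  change π _ = 1
  rw [map_mul, h8, map_inv, mul_inv_cancel]

theorem cyc_of_small [Finite G] (hG : IsPGroup 2 G) (h : Nat.card G ≤ 4) :
    ∃ k : G, (zpowers k).index ≤ 2 := by
  by_cases h1 : Nat.card G ≤ 2
  · exact ⟨1, (Nat.le_of_dvd Nat.card_pos (index_dvd_card _)).trans h1⟩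
  have : Nontrivial G := Finite.one_lt_card_iff_nontrivial.1 (by omega)
  obtain ⟨k, hk⟩ := exists_ne (1 : G)
  refine ⟨k, ?_⟩
  have h2 := card_mul_index (zpowers k)
  have h3 : 1 < Nat.card (zpowers k) := (one_lt_card_iff_ne_bot _).2 (by simpa using hk)
  nlinarith

theorem cyc_of_cent [Finite G] (hG : IsPGroup 2 G) {B : Subgroup G} (hB : Nat.card B ≤ 4)
    (hC : centralizer (B : Set G) ≤ B) : ∃ k : G, (zpowers k).index ≤ 2 := by
  by_cases h : Nat.card G ≤ 4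
  · exact cyc_of_small hG h
  obtain ⟨n, hn⟩ := hG.exists_card_eq
  have hn3 : 3 ≤ n := by
    by_contra h'
    have : n = 0 ∨ n = 1 ∨ n = 2 := by omega
    rcases this with rfl | rfl | rfl <;> omega
  have h4 : Nat.card B = 2 ^ 2 := by
    by_contra h'
    have h2 : Nat.card B = 1 ∨ Nat.card B = 2 := by have := card_cases hG B; omega
    have hc : IsCyclic B := by
      rcases h2 with h2 | h2
      · exact isCyclic_of_card_dvd_prime (p := 2) (by rw [h2]; norm_num)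
      · exact isCyclic_of_prime_card h2
    obtain ⟨b, rfl⟩ := isCyclic_iff_zpowers.1 hc
    rw [PLoc.centralizer_zpowers] at hC
    have h5 := Nat.le_of_dvd Nat.card_pos (MC.sq_dvd_card_C1 Nat.prime_two hn (le_of_lt hn3) b)
    have h6 := card_le_of_le hC
    omega
  have h5 := MC.s0112 Nat.prime_two hn h4 (le_antisymm hC
    (le_centralizer_iff_isMulCommutative.2 (isMulCommutative_of_card_sq h4)))
  obtain ⟨C, hC1, hC2⟩ := MC.s0113 hn3 hn h5
  obtain ⟨k, rfl⟩ := isCyclic_iff_zpowers.1 hC1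
  exact ⟨k, hC2.le⟩

/-- version modulo a normal subgroup -/
theorem cyc_mod_of_cent [Finite G] (hG : IsPGroup 2 G) {V B : Subgroup G} [V.Normal]
    (hB : V.relIndex B ≤ 4) (hC : ∀ s, (∀ b ∈ B, ⁅s, b⁆ ∈ V) → s ∈ V ⊔ B) :
    ∃ k : G, (V ⊔ zpowers k).index ≤ 2 := by
  let π := QuotientGroup.mk' V
  obtain ⟨k, hk⟩ := cyc_of_cent (hG.to_quotient V) (B := B.map π) (by
    rwa [← relIndex_ker, QuotientGroup.ker_mk']) fun s hs => by
      obtain ⟨s, rfl⟩ := QuotientGroup.mk'_surjective V s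
      have h1 := hC s fun b hb => by
        rw [← QuotientGroup.eq_one_iff]
        change π _ = 1
        rw [map_commutatorElement, commutatorElement_eq_one_iff_mul_comm]
        exact (hs _ (mem_map_of_mem π hb)).symm
      have : (V ⊔ B).map π ≤ B.map π := by
        rw [Subgroup.map_sup, (Subgroup.map_eq_bot_iff V).2 (by rw [QuotientGroup.ker_mk']),
          bot_sup_eq]
      exact this (mem_map_of_mem π h1)
  obtain ⟨k, rfl⟩ := QuotientGroup.mk'_surjective V k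
  refine ⟨k, ?_⟩
  rwa [← MonoidHom.map_zpowers, index_map, QuotientGroup.ker_mk',
    MonoidHom.range_eq_top.2 (QuotientGroup.mk'_surjective V), index_top, mul_one, sup_comm] at hk

theorem SR_of_cyc [Finite G] (hG : IsPGroup 2 G) {k : G} (hk : (zpowers k).index ≤ 2) :
    SR 4 G := fun H N h =>
  (relIndex_le_four hG (V := ⊥) (k := k) (by rwa [bot_sup_eq]) h (by simp)).1

theorem SR.mono {k l : ℕ} (h : SR k G) (hkl : k ≤ l) : SR l G :=
  fun H N hs => (h H N hs).trans hkl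

/-- a central involution modulo `D` inside `T` -/
theorem exists_central_mod [Finite G] (hG : IsPGroup 2 G) {D T : Subgroup G} [D.Normal]
    [T.Normal] (h : ¬ T ≤ D) : ∃ t ∈ T, t ∉ D ∧ t * t ∈ D ∧ ∀ s : G, ⁅s, t⁆ ∈ D := by
  let π := QuotientGroup.mk' D
  have : (T.map π).Normal := Normal.map inferInstance _ (QuotientGroup.mk'_surjective D)
  have h1 := PLoc.inf_center_ne_bot (hG.to_quotient D) (N := T.map π) fun e => h (by
    rwa [Subgroup.map_eq_bot_iff, QuotientGroup.ker_mk'] at e)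
  obtain ⟨⟨_, ⟨t, ht, rfl⟩, hz⟩, h2⟩ := (ne_bot_iff_exists_ne_one).1 h1
  have h3 : t ∉ D := fun e => h2 (Subtype.ext ((QuotientGroup.eq_one_iff _).2 e))
  obtain ⟨i, h4, h5⟩ := Core.exists_pow_not_mem_pow_mem hG h3
  refine ⟨_, pow_mem ht _, h4, pow_two (t ^ 2 ^ i) ▸ h5, fun s => ?_⟩
  rw [← QuotientGroup.eq_one_iff]
  change π _ = 1
  rw [map_commutatorElement, commutatorElement_eq_one_iff_mul_comm, map_pow]
  exact mem_center_iff.1 (Subgroup.pow_mem (center _) hz _) _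

end Cfsg.Agent.Dih
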