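import Cfsg.Agent.Dih.Sec2

/-! 2-groups with a self-centralizing elementary abelian subgroup of order 8. -/

set_option autoImplicit false
set_option linter.unusedVariables false
set_option linter.unusedSectionVars false

namespace Cfsg.Agent.Dih

open Cfsg.Agent.PLoc Cfsg.Agent.Inv Subgroup
open scoped commutatorElement

variable {G : Type*} [Group G]

theorem mem_c1 {a x : G} : x ∈ centralizer ({a} : Set G) ↔ ⁅a, x⁆ = 1 := by
  rw [mem_centralizer_singleton_iff, commutatorElement_eq_one_iff_mul_comm, eq_comm]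

theorem comm_eq_imp {a x y : G} (h : ⁅a, x⁆ = ⁅a, y⁆) : x⁻¹ * y ∈ centralizer ({a} : Set G) := by
  rw [mem_centralizer_singleton_iff]
  simp only [commutatorElement_def, mul_assoc, mul_left_cancel_iff] at h
  calc _ = x⁻¹ * (y * (a⁻¹ * y⁻¹))⁻¹ * y := by group
    _ = _ := by rw [← h]; group

theorem inv_comm {a : G} (ha : a * a = 1) (t : G) : a * ⁅a, t⁆ * a⁻¹ = ⁅a, t⁆⁻¹ := by
  simp only [commutatorElement_def, mul_inv_rev, inv_inv, inv_eq_of_mul_eq_one_right ha]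
  calc _ = a * a * t * a * t⁻¹ * a := by group
    _ = _ := by rw [ha]; group

theorem comm_mem_c1 {a t : G} (ha : a * a = 1) (h : ⁅a, t⁆ * ⁅a, t⁆ = 1) :
    ⁅a, t⁆ ∈ centralizer ({a} : Set G) := by
  rw [mem_centralizer_singleton_iff, eq_comm, ← mul_inv_eq_iff_eq_mul, inv_comm ha,
    inv_eq_of_mul_eq_one_right h]

theorem surj_of_card {G' : Type*} [Group G'] [Finite G'] {D X : Subgroup G} {Y : Subgroup G'}
    (f : G → G') (h1 : ∀ x ∈ X, f x ∈ Y) (h2 : ∀ x ∈ X, ∀ y ∈ X, f x = f y → x⁻¹ * y ∈ D)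
    (hc : Nat.card Y ≤ D.relIndex X) {y : G'} (hy : y ∈ Y) : ∃ x ∈ X, f x = y := by
  by_contra h
  push Not at h
  have h5 : D.relIndex X ≤ ((Y : Set G') \ {y}).ncard := relIndex_le_ncard f
    (Set.toFinite _) (fun w hw => ⟨h1 w hw, h w hw⟩) h2
  rw [Set.ncard_sdiff_singleton_of_mem hy] at h5
  change _ ≤ Nat.card Y - 1 at h5
  have : 0 < Nat.card Y := Nat.card_pos
  omega

theorem surj_comm [Finite G] {X Y : Subgroup G} {a : G} (h1 : ∀ x ∈ X, ⁅a, x⁆ ∈ Y)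
    (hc : Nat.card (X ⊓ centralizer {a} : Subgroup G) * Nat.card Y ≤ Nat.card X) {y : G}
    (hy : y ∈ Y) : ∃ x ∈ X, ⁅a, x⁆ = y := by
  refine surj_of_card (D := centralizer {a}) _ h1 (fun x _ y _ => comm_eq_imp) ?_ hy
  rw [← PLoc.card_inf_mul_relIndex (centralizer {a}) X, inf_comm] at hc
  exact Nat.le_of_mul_le_mul_left hc Nat.card_pos

theorem card_le_comm [Finite G] {X Y : Subgroup G} {a : G} (h1 : ∀ x ∈ X, ⁅a, x⁆ ∈ Y) :
    Nat.card X ≤ Nat.card (X ⊓ centralizer {a} : Subgroup G) * Nat.card Y := by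
  rw [← PLoc.card_inf_mul_relIndex (centralizer {a}) X, inf_comm]
  exact Nat.mul_le_mul_left _ (relIndex_le_sub _ h1 fun x _ y _ => comm_eq_imp)

theorem comm_mem_inf {X : Subgroup G} {a : G} (ha : a * a = 1) (hX : ∀ x ∈ X, x * x = 1)
    (h : ∀ x ∈ X, a * x * a⁻¹ ∈ X) : ∀ x ∈ X, ⁅a, x⁆ ∈ X ⊓ centralizer {a} := fun x hx =>
  have h1 : ⁅a, x⁆ ∈ X := mul_mem (h x hx) (inv_mem hx)
  ⟨h1, comm_mem_c1 ha (hX _ h1)⟩

theorem card_le_sq [Finite G] {X : Subgroup G} {a : G} (ha : a * a = 1) (hX : ∀ x ∈ X, x * x = 1)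
    (h : ∀ x ∈ X, a * x * a⁻¹ ∈ X) : Nat.card X ≤
      Nat.card (X ⊓ centralizer {a} : Subgroup G) * Nat.card (X ⊓ centralizer {a} : Subgroup G) :=
  card_le_comm (comm_mem_inf ha hX h)

theorem inv_mul_mem_of_le_two [Finite G] {U B : Subgroup G} (h : U.relIndex B ≤ 2) {x y : G}
    (hx : x ∈ B) (hy : y ∈ B) (hx' : x ∉ U) (hy' : y ∉ U) : x⁻¹ * y ∈ U := by
  have h1 := PLoc.relIndex_pos' U B
  have h2 : U.relIndex B ≠ 1 := fun e => hx' (relIndex_eq_one.1 e hx)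
  exact mul_mem_of_relIndex_two (by omega) (inv_mem hx) hy (fun e => hx' (by simpa using e)) hy'

theorem relIndex_le_two_of_card [Finite G] {U B : Subgroup G} (hU : U ≤ B)
    (h : Nat.card B ≤ 2 * Nat.card U) : U.relIndex B ≤ 2 := by
  rw [← PLoc.card_mul_relIndex hU, mul_comm 2] at h
  exact Nat.le_of_mul_le_mul_left h Nat.card_pos

theorem le_of_le_two [Finite G] {U B K : Subgroup G} (h : U.relIndex B ≤ 2) {x : G} (hx : x ∈ B)
    (hx' : x ∉ U) (h1 : U ≤ K) (h2 : x ∈ K) : B ≤ K := fun y hy => by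
  by_cases hy' : y ∈ U
  · exact h1 hy'
  · simpa using mul_mem h2 (h1 (inv_mul_mem_of_le_two h hx hy hx' hy'))

theorem card_zpowers_two {a : G} (ha : a * a = 1) (h1 : a ≠ 1) : Nat.card (zpowers a) = 2 := by
  rw [Nat.card_zpowers, orderOf_eq_prime (by rw [pow_two, ha]) h1]

theorem gen8 [Finite G] {B : Subgroup G} (h2 : ∀ b ∈ B, b * b = 1) (h8 : Nat.card B = 8) {x y : G}
    (hx : x ∈ B) (hy : y ∈ B) (hx1 : x ≠ 1) (hy1 : y ∉ zpowers x) :
    ∃ w ∈ B, w ∉ zpowers x ⊔ zpowers y ∧ ∀ K : Subgroup G, x ∈ K → y ∈ K → w ∈ K → B ≤ K := by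
  rw [mem_zpowers_ord2 (h2 x hx), not_or] at hy1
  have h3 := kf_sup (orderOf_eq_prime (by rw [pow_two, h2 x hx]) hx1)
    (orderOf_eq_prime (by rw [pow_two, h2 y hy]) hy1.1) (Ne.symm hy1.2)
    (comm_of_sq_one h2 x hx y hy)
  have h4 : zpowers x ⊔ zpowers y ≤ B := sup_le (zpowers_le.2 hx) (zpowers_le.2 hy)
  obtain ⟨w, hw, hw'⟩ : ∃ w ∈ B, w ∉ zpowers x ⊔ zpowers y := SetLike.not_le_iff_exists.1 fun e => by
    have := card_le_of_le e; rw [kf_card h3] at this; omega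
  exact ⟨w, hw, hw', fun K a b c => le_of_le_two
    (relIndex_le_two_of_card h4 (by rw [kf_card h3, h8])) hw hw'
    (sup_le (zpowers_le.2 a) (zpowers_le.2 b)) c⟩

theorem mem_cent_of_gen {B : Subgroup G} {s : G} (h : B ≤ centralizer {s}) :
    s ∈ centralizer (B : Set G) := fun b hb => mem_centralizer_singleton_iff.1 (h hb)

theorem kf_cent_relIndex [Finite G] {U B : Subgroup G} (hU : IsKleinFour U) {z : G} (hz : z ∈ U)
    (hz1 : z ≠ 1) (h1 : ∀ s ∈ B, ∀ u ∈ U, s * u * s⁻¹ ∈ U) (h2 : ∀ s ∈ B, s * z = z * s) :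
    (centralizer (U : Set G)).relIndex B ≤ 2 := by
  obtain ⟨v, hv, hv1, hvz⟩ := kf_exists_ne hU z
  have h3 : ∀ g ∈ B, g ∉ centralizer (U : Set G) → g * v * g⁻¹ = z * v := fun g hB hg => by
    rcases kf_cases hU hz hv hz1 hv1 hvz.symm (h1 g hB v hv) with e | e | e | e
    · exact (hv1 (by simpa using e)).elim
    · refine (hvz ?_).elim
      rw [mul_inv_eq_iff_eq_mul, ← h2 g hB, mul_left_cancel_iff] at e; exact e
    · exact (hg (kf_mem_centralizer hU hz hv hz1 hv1 hvz.symm (h2 g hB).symm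
        (mul_inv_eq_iff_eq_mul.1 e).symm)).elim
    · exact e
  refine relIndex_le_two fun x hx y hy hx' hy' =>
    kf_mem_centralizer hU hz hv hz1 hv1 hvz.symm (h2 _ (mul_mem (inv_mem hx) hy)).symm ?_
  have e := (h3 x hx hx').trans (h3 y hy hy').symm
  calc v * (x⁻¹ * y) = x⁻¹ * (x * v * x⁻¹) * y := by group
    _ = _ := by rw [e]; group

theorem gamma_full [Finite G] {H N V Y : Subgroup G} (hs : SqIn H N) (hY : Y ≤ N ⊓ V)
    (h : Nat.card V ≤ Nat.card Y * N.relIndex (H ⊓ V)) : V ≤ H ∧ N ⊓ V ≤ Y := by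
  have h1 := PLoc.card_inf_mul_relIndex N (H ⊓ V)
  have h2 : Y ≤ N ⊓ (H ⊓ V) := fun y hy => ⟨(hY hy).1, hs.le (hY hy).1, (hY hy).2⟩
  have h3 := card_le_of_le h2
  have h4 : Nat.card (H ⊓ V : Subgroup G) ≤ Nat.card V := card_le_of_le inf_le_right
  have h5 := Nat.mul_le_mul_right (N.relIndex (H ⊓ V)) h3
  have h6 : H ⊓ V = V := eq_of_le_of_card_ge inf_le_right (by omega)
  have h7 := Nat.le_of_mul_le_mul_right (h1.le.trans (h4.trans h)) (PLoc.relIndex_pos' _ _)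
  refine ⟨h6 ▸ inf_le_left, ?_⟩
  rw [eq_of_le_of_card_ge h2 h7, h6]

theorem le_cent_of_gamma [Finite G] {H N V : Subgroup G} [hV : V.Normal] (hs : SqIn H N)
    (h : Nat.card V ≤ N.relIndex (H ⊓ V)) :
    V ≤ H ∧ N ⊓ V ≤ ⊥ ∧ H ≤ centralizer (V : Set G) := by
  obtain ⟨h1, h2⟩ := gamma_full hs (Y := ⊥) bot_le (by simpa using h)
  exact ⟨h1, h2, fun x hx v hv => (commutatorElement_eq_one_iff_mul_comm.1 (mem_bot.1
    (h2 ⟨hs.comm hx (h1 hv), V.mul_mem (hV.conj_mem v hv x) (V.inv_mem hv)⟩))).symm⟩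

theorem comm_cent_l {t s w : G} (h : t * w = w * t) (h' : t * (s * w * s⁻¹) = s * w * s⁻¹ * t) :
    ⁅t * s, w⁆ = ⁅s, w⁆ := by
  simp only [commutatorElement_def, mul_left_inj]
  calc _ = t * (s * w * s⁻¹) * t⁻¹ := by group
    _ = _ := by rw [h']; group

theorem comm_T_l {V : Subgroup G} [hV : V.Normal] {t v : G} (ht : t ∈ centralizer (V : Set G))
    (hv : v ∈ V) (s : G) : ⁅t * s, v⁆ = ⁅s, v⁆ :=
  comm_cent_l (ht v hv).symm (ht _ (hV.conj_mem v hv s)).symm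

theorem comm_V_mem {V : Subgroup G} [hV : V.Normal] {v : G} (hv : v ∈ V) (s : G) : ⁅s, v⁆ ∈ V :=
  mul_mem (hV.conj_mem v hv s) (inv_mem hv)

theorem comm_V_r {V : Subgroup G} [hV : V.Normal] (h2 : ∀ v ∈ V, v * v = 1) {v w s : G}
    (hv : v ∈ V) (hw : ⁅s, w⁆ ∈ V) : ⁅s, v * w⁆ = ⁅s, v⁆ * ⁅s, w⁆ := by
  rw [comm_mul_r, comm_of_sq_one h2 v hv _ hw, mul_inv_cancel_right]

theorem conj_eq_comm (s x : G) : s * x * s⁻¹ = ⁅s, x⁆ * x := by
  rw [commutatorElement_def]; group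

/-- the action on a normal `E₈` -/
theorem alpha_le [Finite G] (hG : IsPGroup 2 G) {V H K : Subgroup G} [hV : V.Normal]
    (h2 : ∀ v ∈ V, v * v = 1) (h8 : Nat.card V = 8) (hs : SqIn H K)
    (hK : H ⊓ centralizer (V : Set G) ≤ K) : K.relIndex H ≤ 4 := by
  obtain ⟨z, hz, hz1, -, hzc⟩ := exists_central_mod hG (D := ⊥) (T := V) fun e => by
    have := card_le_of_le e; simp at this; omega
  rw [mem_bot] at hz1
  simp only [mem_bot, commutatorElement_eq_one_iff_mul_comm] at hzc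
  have hZ : (zpowers z).Normal := normal_of_le_center (zpowers_le.2 (mem_center_iff.2 hzc))
  have hZ2 := card_zpowers_two (h2 z hz) hz1
  obtain ⟨v, hv, hvz, -, hvc⟩ := exists_central_mod hG (D := zpowers z) (T := V) fun e => by
    have := card_le_of_le e; omega
  obtain ⟨w, hw, hw', hgen⟩ := gen8 h2 h8 hz hv hz1 hvz
  have hU : (zpowers z ⊔ zpowers v).Normal := sup_zpowers_normal hvc
  have hUV : zpowers z ⊔ zpowers v ≤ V := sup_le (zpowers_le.2 hz) (zpowers_le.2 hv)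
  have hvz' := hvz
  rw [mem_zpowers_ord2 (h2 z hz), not_or] at hvz'
  have hU4 := kf_card (kf_sup (orderOf_eq_prime (by rw [pow_two, h2 z hz]) hz1)
    (orderOf_eq_prime (by rw [pow_two, h2 v hv]) hvz'.1) (Ne.symm hvz'.2)
    (comm_of_sq_one h2 z hz v hv))
  have hwc : ∀ s : G, ⁅s, w⁆ ∈ zpowers z ⊔ zpowers v := fun s => by
    have := inv_mul_mem_of_le_two (relIndex_le_two_of_card hUV (by omega)) hw (hV.conj_mem w hw s)
      hw' fun e => hw' (by simpa [mul_assoc] using hU.conj_mem _ e s⁻¹)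
    rwa [comm_of_sq_one h2 _ (inv_mem hw) _ (hV.conj_mem w hw s)] at this
  have inj : ∀ x y : G, ⁅x, v⁆ = ⁅y, v⁆ → ⁅x, w⁆ = ⁅y, w⁆ → x⁻¹ * y ∈ centralizer (V : Set G) :=
    fun x y e1 e2 => by
    refine mem_cent_of_gen (hgen _ (mem_centralizer_singleton_iff.2 (hzc _).symm) ?_ ?_)
    · rw [← commutatorElement_inv v, ← commutatorElement_inv v, inv_inj] at e1
      exact mem_centralizer_singleton_iff.2 (mem_centralizer_singleton_iff.1 (comm_eq_imp e1)).symm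
    · rw [← commutatorElement_inv w, ← commutatorElement_inv w, inv_inj] at e2
      exact mem_centralizer_singleton_iff.2 (mem_centralizer_singleton_iff.1 (comm_eq_imp e2)).symm
  let S₁ := cmod (zpowers z) w
  have hS : ∀ s, s ∈ S₁ ↔ ⁅s, w⁆ ∈ zpowers z := fun s =>
    ⟨fun h => comm_symm_mem (mem_cmod.1 h), fun h => mem_cmod.2 (comm_symm_mem h)⟩
  have hi : S₁.index ≤ 2 := by
    rw [← relIndex_top_right]
    refine relIndex_le_two fun x _ y _ hx hy => ?_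
    have h3 := inv_mul_mem_of_le_two (relIndex_le_two_of_card (U := zpowers z) le_sup_left
      (by omega)) (hwc x) (hwc y) (mt (hS x).2 hx) (mt (hS y).2 hy)
    rw [hS]
    convert hZ.conj_mem _ h3 (x⁻¹ * w⁻¹) using 1
    have h4 := comm_of_sq_one h2 _ (hV.conj_mem w hw y) _ hw
    have h5 := h2 w hw
    simp only [commutatorElement_def, inv_eq_of_mul_eq_one_right h5, mul_inv_rev, inv_inv]
    calc _ = x⁻¹ * (y * w * y⁻¹) * x * w := by group
      _ = x⁻¹ * (w * w) * (x * w * x⁻¹) * (y * w * y⁻¹ * (w * w)) * x := by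
        rw [h5, mul_one, mul_one, mul_assoc x⁻¹ (x * w * x⁻¹),
          comm_of_sq_one h2 _ (hV.conj_mem w hw x) _ (hV.conj_mem w hw y)]; group
      _ = _ := by group
  classical
  have hZf : ∀ a ∈ zpowers z, a ∈ ({1, z} : Finset G) := fun a ha => by
    simpa using (mem_zpowers_ord2 (h2 z hz)).1 ha
  by_cases hH : H ≤ S₁
  · refine (relIndex_le_of_inf' hK).trans ((relIndex_le_card (fun x => (⁅x, v⁆, ⁅x, w⁆))
      (({1, z} : Finset G) ×ˢ ({1, z} : Finset G))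
      (fun x hx => Finset.mem_product.2 ⟨hZf _ (hvc x), hZf _ ((hS x).1 (hH hx))⟩)
      fun x _ y _ e => inj x y (congrArg Prod.fst e) (congrArg Prod.snd e)).trans ?_)
    rw [Finset.card_product, Finset.card_pair (Ne.symm hz1)]
  obtain ⟨m, hm, hmS⟩ := SetLike.not_le_iff_exists.1 hH
  have hSn : S₁.Normal := normal_of_index_eq_two (le_antisymm hi (by
    have := Nat.pos_of_ne_zero (index_ne_zero_of_finite (H := S₁))
    have : S₁.index ≠ 1 := fun e => hmS (index_eq_one.1 e ▸ mem_top m)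
    omega))
  rw [hs.chain S₁]
  have h3 : (K ⊔ H ⊓ S₁).relIndex H ≤ 2 := (relIndex_le_of_inf le_sup_right).trans hi
  have h4 := relIndex_le_cent (X := H ⊓ S₁) (Z := centralizer (V : Set G)) (K := K)
    (D := cmod (centralizer (V : Set G)) m) (m := m) le_normalizer_of_normal
    (fun x hx => ⟨hs.comm hm hx.1, hs.le (hs.comm hm hx.1),
      S₁.mul_mem (hSn.conj_mem x hx.2 m) (S₁.inv_mem hx.2)⟩)
    (fun x hx => hK ⟨hx.2.1, hx.1⟩) fun x _ hx => hx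
  have h5 : ∀ x ∈ cmod (centralizer (V : Set G)) m ⊓ (H ⊓ S₁), ⁅x, v⁆ = 1 := fun x hx => by
    have h6 : m * ⁅x, w⁆ * m⁻¹ = ⁅x, w⁆ := by
      rcases (mem_zpowers_ord2 (h2 z hz)).1 ((hS x).1 hx.2.2) with e | e <;> rw [e]
      · group
      · rw [hzc]; group
    rw [conjugate_commutatorElement, conj_eq_comm m x, comm_T_l hx.1 (hV.conj_mem w hw m),
      conj_eq_comm m w, comm_V_r h2 (comm_V_mem hw m) (comm_V_mem hw x), mul_eq_right] at h6
    have h7 := (mem_sup_ord2 (h2 z hz) (h2 v hv) (comm_of_sq_one h2 z hz v hv)).1 (hwc m)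
    rw [hS, mem_zpowers_ord2 (h2 z hz)] at hmS
    rcases h7 with e | e | e | e
    · exact (hmS (Or.inl e)).elim
    · exact (hmS (Or.inr e)).elim
    · rwa [e] at h6
    · rwa [e, comm_V_r h2 hz (comm_V_mem hv x), commutatorElement_eq_one_iff_mul_comm.2 (hzc x),
        one_mul] at h6
  have h6 := relIndex_le_card (D := centralizer (V : Set G)) (fun x => ⁅x, w⁆) ({1, z} : Finset G)
    (X := cmod (centralizer (V : Set G)) m ⊓ (H ⊓ S₁)) (fun x hx => hZf _ ((hS x).1 hx.2.2))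
    fun x hx y hy e => inj x y (by rw [h5 x hx, h5 y hy]) e
  rw [Finset.card_pair (Ne.symm hz1)] at h6
  exact Nat.mul_le_mul (n₂ := 2) (h4.trans h6) h3

theorem mem_of_odd_zpow [Finite G] (hG : IsPGroup 2 G) {X : Subgroup G} {k : G} {j : ℤ}
    (h : k ^ (2 * j + 1) ∈ X) : k ∈ X := by
  obtain ⟨n, hn⟩ := IsPGroup.iff_orderOf.1 hG k
  have : k ∈ zpowers (k ^ (2 * j + 1)) := by
    rw [mem_zpowers_zpow_iff, hn]
    push_cast
    exact Int.isCoprime_iff_gcd_eq_one.1 (IsCoprime.pow_right ⟨1, -j, by ring⟩)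
  exact zpowers_le.2 h this

theorem full_act [Finite G] {V H : Subgroup G} {y v w : G} (hy2 : y * y = 1) (hy1 : y ≠ 1)
    (hyc : ∀ s, s * y = y * s) (hv : v ∈ V) (hw : w ∈ V)
    (hgen : ∀ K : Subgroup G, y ∈ K → v ∈ K → w ∈ K → V ≤ K)
    (hH : ∀ h ∈ H, ∀ v ∈ V, ⁅h, v⁆ ∈ zpowers y) (h4 : 4 ≤ (centralizer (V : Set G)).relIndex H) :
    (∀ x x' : G, ⁅x, v⁆ = ⁅x', v⁆ → ⁅x, w⁆ = ⁅x', w⁆ → x⁻¹ * x' ∈ centralizer (V : Set G)) ∧
    ∀ p ∈ zpowers y, ∀ q ∈ zpowers y, ∃ h ∈ H, ⁅h, v⁆ = p ∧ ⁅h, w⁆ = q := by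
  have inj : ∀ x x' : G, ⁅x, v⁆ = ⁅x', v⁆ → ⁅x, w⁆ = ⁅x', w⁆ →
      x⁻¹ * x' ∈ centralizer (V : Set G) := fun x y e1 e2 => by
    refine mem_cent_of_gen (hgen _ (mem_centralizer_singleton_iff.2 (hyc _).symm) ?_ ?_)
    · rw [← commutatorElement_inv v, ← commutatorElement_inv v, inv_inj] at e1
      exact mem_centralizer_singleton_iff.2 (mem_centralizer_singleton_iff.1 (comm_eq_imp e1)).symm
    · rw [← commutatorElement_inv w, ← commutatorElement_inv w, inv_inj] at e2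
      exact mem_centralizer_singleton_iff.2 (mem_centralizer_singleton_iff.1 (comm_eq_imp e2)).symm
  refine ⟨inj, fun p hp q hq => ?_⟩
  obtain ⟨h, hh, e⟩ := surj_of_card (X := H) (D := centralizer (V : Set G))
    (Y := (zpowers y).prod (zpowers y)) (fun x => (⁅x, v⁆, ⁅x, w⁆))
    (fun x hx => ⟨hH x hx v hv, hH x hx w hw⟩)
    (fun x _ x' _ e => inj x x' (congrArg Prod.fst e) (congrArg Prod.snd e))
    (by rwa [Nat.card_congr (prodEquiv _ _).toEquiv, Nat.card_prod, card_zpowers_two hy2 hy1])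
    (y := (p, q)) ⟨hp, hq⟩
  exact ⟨h, hh, congrArg Prod.fst e, congrArg Prod.snd e⟩

structure HA (A V : Subgroup G) : Prop where
  p : IsPGroup 2 G
  a2 : ∀ a ∈ A, a * a = 1
  a8 : Nat.card A = 8
  cA : centralizer (A : Set G) ≤ A
  nV : V.Normal
  v2 : ∀ v ∈ V, v * v = 1
  v8 : 8 ≤ Nat.card V
  mx : ∀ x ∈ centralizer (V : Set G), x * x = 1 → (∀ s : G, ⁅s, x⁆ ∈ V) → x ∈ V

namespace HA

variable [Finite G] {A V : Subgroup G}

local notation "T" => centralizer (SetLike.coe V)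
local notation "C1[" x "]" => centralizer ({x} : Set G)

theorem VT (h : HA A V) : V ≤ T := fun a ha b hb => comm_of_sq_one h.v2 b hb a ha

theorem central_mem (h : HA A V) {z : G} (hz : ∀ s, s * z = z * s) : z ∈ A := h.cA fun s _ => hz s

theorem exists_z (h : HA A V) : ∃ z ∈ V, z ≠ 1 ∧ ∀ s, s * z = z * s := by
  have := h.nV
  obtain ⟨z, hz, hz1, -, hzc⟩ := exists_central_mod h.p (show ¬ V ≤ ⊥ from fun e => by
    have h1 := card_le_of_le e; have := h.v8; rw [card_bot] at h1; omega)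
  rw [mem_bot] at hz1
  simp only [mem_bot, commutatorElement_eq_one_iff_mul_comm] at hzc
  exact ⟨z, hz, hz1, hzc⟩

theorem fin16 (h : HA A V) (h16 : Nat.card V ≤ 16)
    (adj : ∀ s : G, (∀ g : G, ⁅g, s⁆ ∈ V) → (s ∈ T ∨ 8 ≤ Nat.card (V ⊓ C1[s] : Subgroup G)) →
      ∃ v ∈ V, v * s ∈ A)
    (cv : ∀ c ∈ A, c ∉ V → Nat.card (V ⊓ C1[c] : Subgroup G) ≤ 4) (AT : ∀ c ∈ A, c ∈ T → c ∈ V)
    {k : G} (hk : (V ⊔ zpowers k).index ≤ 2) : SR 16 G := fun H N hs => by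
  have := h.nV
  have hTV : T ≤ V := by
    by_contra h1
    obtain ⟨t, ht, htV, -, h2⟩ := exists_central_mod h.p h1
    obtain ⟨v, hv, h3⟩ := adj t h2 (Or.inl ht)
    exact htV ((mul_mem_cancel_left hv).1 (AT _ h3 (mul_mem (h.VT hv) ht)))
  rw [hs.chain V]
  by_contra hbad
  obtain ⟨h1, h2⟩ := relIndex_le_four h.p hk (hs.up V) le_sup_right
  have h3 : N.relIndex (H ⊓ V) ≤ 16 :=
    (relIndex_le_card' _ _).trans ((card_le_of_le inf_le_right).trans h16)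
  have h4 := relIndex_cases h.p N (H ⊓ V)
  by_cases h5 : 2 < (N ⊔ H ⊓ V).relIndex H
  · obtain ⟨x, hx, hxV, -, h6⟩ := h2 h5
    have h7 : N.relIndex (H ⊓ V) ≤ Nat.card (V ⊓ C1[x] : Subgroup G) :=
      (relIndex_le_card_cent (m := x) (X := H ⊓ V) fun v hv => ⟨hs.comm hx hv.1, hs.le (hs.comm hx hv.1),
        comm_V_mem hv.2 x⟩).trans (card_le_of_le fun v hv => ⟨hv.2.2, hv.1⟩)
    have h8 : 8 ≤ N.relIndex (H ⊓ V) := by
      by_contra h8
      exact hbad (Nat.mul_le_mul (n₂ := 4) (m₂ := 4) (by omega) h1)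
    obtain ⟨v, hv, h9⟩ := adj x h6 (Or.inr (h8.trans h7))
    have h10 := cv _ h9 fun e => hxV ((mul_mem_cancel_left hv).1 e)
    have h11 : V ⊓ C1[x] ≤ V ⊓ C1[v * x] := fun w hw => ⟨hw.1, by
      have := mem_centralizer_singleton_iff.1 hw.2
      refine mem_centralizer_singleton_iff.2 ?_
      rw [← mul_assoc, comm_of_sq_one h.v2 w hw.1 v hv, mul_assoc, this, mul_assoc]⟩
    have := card_le_of_le h11
    omega
  · by_cases h6 : N.relIndex (H ⊓ V) ≤ 8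
    · exact hbad (Nat.mul_le_mul (n₂ := 8) (m₂ := 2) h6 (by omega))
    obtain ⟨-, -, h7⟩ := le_cent_of_gamma (V := V) hs (by omega)
    rw [relIndex_eq_one.2 (le_sup_of_le_right (le_inf le_rfl (h7.trans hTV))), mul_one] at hbad
    exact hbad h3

theorem fin8 (h : HA A V) (h8 : Nat.card V = 8) (hTV : T ≤ V) : SR 16 G := fun H N hs => by
  have := h.nV
  rw [hs.chain V]
  have h1 := alpha_le h.p h.v2 h8 (hs.up V) (le_sup_of_le_right (inf_le_inf_left _ hTV))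
  have h3 : N.relIndex (H ⊓ V) ≤ 8 :=
    (relIndex_le_card' _ _).trans ((card_le_of_le inf_le_right).trans h8.le)
  have h4 := relIndex_cases h.p N (H ⊓ V)
  by_cases h6 : N.relIndex (H ⊓ V) ≤ 4
  · exact Nat.mul_le_mul (n₂ := 4) (m₂ := 4) h6 h1
  obtain ⟨-, -, h7⟩ := le_cent_of_gamma (V := V) hs (by omega)
  rw [relIndex_eq_one.2 (le_sup_of_le_right (le_inf le_rfl (h7.trans hTV))), mul_one]
  omega

theorem t0_facts (h : HA A V) {t : G} (ht : t ∈ T) (htV : t ∉ V) (h2 : t * t ∈ V)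
    (hc : ∀ s : G, ⁅s, t⁆ ∈ V) : t * t ≠ 1 ∧ ∀ s, s * (t * t) = t * t * s := by
  refine ⟨fun e => htV (h.mx t ht e hc), fun s => ?_⟩
  rw [← mul_inv_eq_iff_eq_mul, ← conj_mul, conj_eq_comm, mul_assoc, ← mul_assoc t,
    ← ht _ (hc s), mul_assoc, ← mul_assoc, h.v2 _ (hc s), one_mul]

theorem sq_coset (h : HA A V) {t x : G} (ht : t ∈ T) (h2 : t * t ∈ V) (hx : t * x ∈ V) :
    x * x = t * t := by
  have h1 := ht _ hx
  have h3 := h.v2 _ hx
  have h4 := h.v2 _ h2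
  calc x * x = t⁻¹ * (t * x * t⁻¹) * (t * x) := by group
    _ = t⁻¹ * t⁻¹ * (t * x * (t * x)) := by
      rw [show t * x * t⁻¹ = t⁻¹ * (t * x) by rw [eq_inv_mul_iff_mul_eq, ← mul_assoc, ← h1]; group]
      group
    _ = _ := by rw [h3, mul_one, ← mul_inv_rev, inv_eq_of_mul_eq_one_right h4]

theorem bad8 (h : HA A V) (h8 : Nat.card V = 8) {k t : G} (hk : T ≤ V ⊔ zpowers k) (ht : t ∈ T)
    (h2 : t * t ∈ V) (h1 : t * t ≠ 1) (uniq : ∀ x ∈ T, x ∉ V → x * x ∈ V → t * x ∈ V)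
    {H N : Subgroup G} (hs : SqIn H N) (hbad : ¬ N.relIndex H ≤ 16) :
    V ≤ H ∧ t ∈ H ∧ N ⊓ V ≤ zpowers (t * t) ∧ 4 ≤ (T).relIndex H ∧ ¬ H ⊓ T ≤ N ⊔ H ⊓ V := by
  have := h.nV
  have hs1 := hs.up V
  rw [hs.chain V, hs1.chain T] at hbad
  have ha := alpha_le h.p h.v2 h8 (hs1.up T) le_sup_right
  have ha' : (N ⊔ H ⊓ V ⊔ H ⊓ T).relIndex H ≤ (T).relIndex H := relIndex_le_of_inf' le_sup_right
  have hb : (N ⊔ H ⊓ V).relIndex (H ⊓ T) ≤ 2 := relIndex_le_two_of_cyc (inf_le_right.trans hk)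
    (fun x hx => hs1.sq x hx.1) fun x hx => le_sup_right (b := H ⊓ V) ⟨hx.1.1, hx.2⟩
  have h3 : N.relIndex (H ⊓ V) ≤ 8 :=
    (relIndex_le_card' _ _).trans ((card_le_of_le inf_le_right).trans h8.le)
  have h4 := relIndex_cases h.p N (H ⊓ V)
  have h5 := relIndex_cases h.p (N ⊔ H ⊓ V ⊔ H ⊓ T) H
  have h6 : N.relIndex (H ⊓ V) ≤ 4 := by
    by_contra h6
    obtain ⟨-, -, h7⟩ := le_cent_of_gamma (V := V) hs (by omega)
    rw [relIndex_eq_one.2 (le_sup_of_le_right (le_inf le_rfl h7)), mul_one] at hbad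
    exact hbad (Nat.mul_le_mul (n₂ := 8) (m₂ := 2) h3 hb)
  have h7 : (N ⊔ H ⊓ V).relIndex (H ⊓ T) ≠ 1 := fun e => by
    rw [e, one_mul] at hbad
    exact hbad (Nat.mul_le_mul (n₂ := 4) (m₂ := 4) h6 ha)
  have h9 : N.relIndex (H ⊓ V) = 4 := by
    by_contra h9
    exact hbad (Nat.mul_le_mul (n₂ := 2) (m₂ := 8) (by omega)
      (Nat.mul_le_mul (n₂ := 2) (m₂ := 4) hb ha))
  have h10 : 4 ≤ (T).relIndex H := by
    by_contra h9
    exact hbad (Nat.mul_le_mul (n₂ := 4) (m₂ := 4) h6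
      (Nat.mul_le_mul (n₂ := 2) (m₂ := 2) hb (by omega)))
  obtain ⟨x₀, hx₀, hx₀N⟩ := exists_not_mem_of_one_lt h7
  obtain ⟨i, h11, h12⟩ := Core.exists_pow_not_mem_pow_mem h.p (A := V) (g := x₀)
    fun e => hx₀N (le_sup_right (b := H ⊓ V) ⟨hx₀.1, e⟩)
  have hx : x₀ ^ 2 ^ i ∈ H ⊓ T := (H ⊓ T).pow_mem hx₀ _
  rw [pow_two] at h12
  have h13 := uniq _ hx.2 h11 h12
  have h14 := hs.sq _ hx.1
  rw [h.sq_coset ht h2 h13] at h14
  obtain ⟨h15, h16⟩ := gamma_full hs (Y := zpowers (t * t)) (V := V) (zpowers_le.2 (mem_inf.2 ⟨h14, h2⟩))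
    (by rw [card_zpowers_two (h.v2 _ h2) h1, h9, h8])
  exact ⟨h15, (H.mul_mem_cancel_right hx.1).1 (h15 h13), h16, h10, fun e => hx₀N (e hx₀)⟩

theorem II_aux (h : HA A V) {z c : G} (hz : z ∈ V) (hz1 : z ≠ 1) (hzc : ∀ s, s * z = z * s)
    (AT : ∀ c ∈ A, c ∈ T → c ∈ zpowers z) (hc : c ∈ A) (hcT : c ∉ T) :
    ∃ d ∈ A, d ∉ T ∧ c * d ∉ T ∧ (∀ x ∈ V, x ∈ C1[c] → x ∈ C1[d] → x ∈ zpowers z) ∧
      Nat.card (V ⊓ C1[c] : Subgroup G) ≤ 4 ∧
      (4 ≤ Nat.card (V ⊓ C1[c] : Subgroup G) → ∀ t : G, (∀ a ∈ A, ⁅a, t⁆ ∈ V) →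
        (∃ v ∈ V, ⁅c, v⁆ = ⁅c, t⁆) → ∃ v ∈ V, v * t ∈ A) := by
  have := h.nV
  have hzT := zpowers_le.2 (h.VT hz)
  obtain ⟨d, hd, hd', hgen⟩ := gen8 h.a2 h.a8 (h.central_mem hzc) hc hz1 fun e => hcT (hzT e)
  have hA : ∀ s ∈ C1[c], s ∈ C1[d] → s ∈ A := fun s h1 h2 => h.cA (mem_cent_of_gen (hgen _
    (mem_centralizer_singleton_iff.2 (hzc s).symm)
    (mem_centralizer_singleton_iff.2 (mem_centralizer_singleton_iff.1 h1).symm)
    (mem_centralizer_singleton_iff.2 (mem_centralizer_singleton_iff.1 h2).symm)))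
  have h1 : ∀ x ∈ V, x ∈ C1[c] → x ∈ C1[d] → x ∈ zpowers z := fun x hx a b =>
    AT x (hA x a b) (h.VT hx)
  have hcd := comm_of_sq_one h.a2 c hc d hd
  have h2 : ∀ x ∈ C1[c], ⁅d, x⁆ ∈ C1[c] := fun x hx =>
    mul_mem (mul_mem (mul_mem (mem_centralizer_singleton_iff.2 hcd.symm) hx)
      (inv_mem (mem_centralizer_singleton_iff.2 hcd.symm))) (inv_mem hx)
  have h3 : ∀ x ∈ C1[c], ⁅d, x⁆ ∈ V → ⁅d, x⁆ ∈ zpowers z := fun x hx e =>
    h1 _ e (h2 x hx) (comm_mem_c1 (h.a2 d hd) (h.v2 _ e))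
  have h4 : Nat.card (V ⊓ C1[c] ⊓ C1[d] : Subgroup G) ≤ 2 := by
    rw [← card_zpowers_two (h.v2 z hz) hz1]
    exact card_le_of_le fun x hx => h1 x hx.1.1 hx.1.2 hx.2
  have h5 : ∀ x ∈ V ⊓ C1[c], ⁅d, x⁆ ∈ zpowers z := fun x hx => h3 x hx.2 (comm_V_mem hx.1 d)
  refine ⟨d, hd, fun e => hd' (mem_sup_left (AT d hd e)), fun e => hd' ?_, h1, ?_,
    fun h6 t ht ⟨v, hv, e⟩ => ?_⟩
  · have := mul_mem (mem_sup_right (S := zpowers z) (mem_zpowers c))
      (mem_sup_left (AT _ (mul_mem hc hd) e))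
    rwa [← mul_assoc, h.a2 c hc, one_mul] at this
  · refine (card_le_comm h5).trans ?_
    rw [card_zpowers_two (h.v2 z hz) hz1]; omega
  · have h7 : v * t ∈ C1[c] := by rw [mem_c1, comm_V_r h.v2 hv (ht c hc), e, h.v2 _ (ht c hc)]
    have h8 : ⁅d, v * t⁆ ∈ V := by
      rw [comm_V_r h.v2 hv (ht d hd)]; exact mul_mem (comm_V_mem hv d) (ht d hd)
    obtain ⟨w, hw, e'⟩ := surj_comm h5 (by rw [card_zpowers_two (h.v2 z hz) hz1]; omega)
      (h3 _ h7 h8)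
    refine ⟨w * v, mul_mem hw.1 hv, hA _ ?_ ?_⟩
    · rw [mul_assoc]; exact mul_mem hw.2 h7
    · rw [mul_assoc, mem_c1, comm_V_r h.v2 hw.1 h8, e', h.v2 _ h8]

theorem II (h : HA A V) {z : G} (hz : z ∈ V) (hz1 : z ≠ 1) (hzc : ∀ s, s * z = z * s)
    (AT : ∀ c ∈ A, c ∈ T → c ∈ zpowers z) : SR 16 G := by
  have := h.nV
  have hZ2 := card_zpowers_two (h.v2 z hz) hz1
  have hzV := zpowers_le.2 hz
  obtain ⟨c, hc, hcT⟩ : ∃ c ∈ A, c ∉ T := by
    by_contra h1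
    push Not at h1
    have := card_le_of_le (show A ≤ zpowers z from fun c hc => AT c hc (h1 c hc))
    have := h.a8
    omega
  have hsq : ∀ c ∈ A, Nat.card V ≤
      Nat.card (V ⊓ C1[c] : Subgroup G) * Nat.card (V ⊓ C1[c] : Subgroup G) := fun c hc =>
    card_le_sq (h.a2 c hc) h.v2 fun x hx => this.conj_mem x hx c
  have h4 : ∀ c ∈ A, c ∉ T → Nat.card (V ⊓ C1[c] : Subgroup G) = 4 := fun c hc hcT => by
    obtain ⟨d, -, -, -, -, h1, -⟩ := h.II_aux hz hz1 hzc AT hc hcT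
    have h2 := hsq c hc
    have h3 := h.v8
    rcases card_cases h.p (V ⊓ C1[c]) with e | e | e | e | e
    · rw [e] at h2; omega
    · rw [e] at h2; omega
    all_goals omega
  have h16 : Nat.card V ≤ 16 := by have := hsq c hc; rwa [h4 c hc hcT] at this
  have hV := card_cases h.p V
  have hV8 := h.v8
  by_cases h8 : Nat.card V ≠ 8
  · have adj : ∀ s : G, (∀ a ∈ A, ⁅a, s⁆ ∈ V) → ∃ v ∈ V, v * s ∈ A := fun s hs => by
      obtain ⟨d, -, -, -, -, -, h1⟩ := h.II_aux hz hz1 hzc AT hc hcT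
      refine h1 (h4 c hc hcT).ge s hs (surj_comm (Y := V ⊓ C1[c])
        (comm_mem_inf (h.a2 c hc) h.v2 fun x hx => this.conj_mem x hx c) ?_
        ⟨hs c hc, comm_mem_c1 (h.a2 c hc) (h.v2 _ (hs c hc))⟩)
      rw [h4 c hc hcT]; omega
    obtain ⟨k, hk⟩ := cyc_mod_of_cent h.p (V := V) (B := A) (by
      have h1 := PLoc.card_inf_mul_relIndex V A
      have h2 := card_le_of_le (show zpowers z ≤ V ⊓ A from
        zpowers_le.2 ⟨hz, h.central_mem hzc⟩)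
      rw [h.a8] at h1
      nlinarith) fun s hs => by
        obtain ⟨v, hv, h1⟩ := adj s fun a ha => comm_symm_mem (hs a ha)
        simpa using mul_mem (mem_sup_left (inv_mem hv)) (mem_sup_right h1)
    exact h.fin16 h16 (fun s hs _ => adj s fun a _ => hs a)
      (fun c hc hcV => (h4 c hc fun e => hcV (hzV (AT c hc e))).le)
      (fun c hc e => hzV (AT c hc e)) hk
  rw [not_not] at h8
  by_cases hTV : T ≤ V
  · exact h.fin8 h8 hTV
  have hVz : ∀ c ∈ A, ∀ v ∈ V, ⁅c, v⁆ ∈ zpowers z := fun c hc v hv => by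
    by_cases hcT : c ∈ T
    · rw [commutatorElement_eq_one_iff_mul_comm.2 (hcT v hv).symm]; exact one_mem _
    by_cases hv' : v ∈ C1[c]
    · rw [mem_c1.1 hv']; exact one_mem _
    obtain ⟨d, hd, -, -, h1, -⟩ := h.II_aux hz hz1 hzc AT hc hcT
    refine h1 _ (comm_V_mem hv c) (comm_mem_c1 (h.a2 c hc) (h.v2 _ (comm_V_mem hv c))) ?_
    have hcd := comm_of_sq_one h.a2 c hc d hd
    have h2 : d * c * d⁻¹ = c := by rw [← hcd]; group
    have h3 := inv_mul_mem_of_le_two (U := V ⊓ C1[c]) (relIndex_le_two_of_card inf_le_left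
      (by rw [h4 c hc hcT, h8])) hv (this.conj_mem v hv d) (fun e => hv' e.2) fun e => hv' (by
        have := mem_c1.1 e.2
        rw [← h2, ← conjugate_commutatorElement, conj_eq_one_iff] at this
        exact mem_c1.2 this)
    rw [mem_centralizer_singleton_iff, eq_comm, ← mul_inv_eq_iff_eq_mul,
      conjugate_commutatorElement, h2, show d * v * d⁻¹ = v * (v⁻¹ * (d * v * d⁻¹)) by group,
      comm_V_r h.v2 hv (comm_V_mem h3.1 c), mem_c1.1 h3.2, mul_one]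
  have star : ∀ t ∈ T, (∀ a ∈ A, ⁅a, t⁆ ∈ V) → ∀ c ∈ A, c ∉ T → ⁅c, t⁆ ∈ zpowers z → t ∈ V :=
    fun t ht h1 c hc hcT h2 => by
    obtain ⟨d, -, -, -, -, -, h3⟩ := h.II_aux hz hz1 hzc AT hc hcT
    obtain ⟨v, hv, h5⟩ := h3 (h4 c hc hcT).ge t h1
      (surj_comm (hVz c hc) (by rw [h4 c hc hcT, hZ2, h8]) h2)
    exact (mul_mem_cancel_left hv).1 (hzV (AT _ h5 (mul_mem (h.VT hv) ht)))
  obtain ⟨t, ht, htV, ht2, htc⟩ := exists_central_mod h.p hTV
  obtain ⟨hy1, hyc⟩ := h.t0_facts ht htV ht2 htc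
  have hD : ∀ x ∈ T, (∀ a ∈ A, ⁅a, x⁆ ∈ V) → x ∉ V → t * x ∈ V := fun x hx h1 h2 => by
    have h3 : ∀ a : G, ⁅a, x⁆ ∈ V → ⁅a, t * x⁆ = ⁅a, t⁆ * ⁅a, x⁆ := fun a ha => by
      rw [comm_mul_r, ← ht _ ha, mul_inv_cancel_right]
    refine star _ (mul_mem ht hx) (fun a ha => ?_) c hc hcT ?_
    · rw [h3 a (h1 a ha)]; exact mul_mem (htc a) (h1 a ha)
    · have h5 := inv_mul_mem_of_le_two (U := zpowers z) (B := V ⊓ C1[c])
        (relIndex_le_two_of_card (zpowers_le.2 ⟨hz, mem_centralizer_singleton_iff.2 (hzc c).symm⟩)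
          (by rw [h4 c hc hcT, hZ2]))
        ⟨htc c, comm_mem_c1 (h.a2 c hc) (h.v2 _ (htc c))⟩
        ⟨h1 c hc, comm_mem_c1 (h.a2 c hc) (h.v2 _ (h1 c hc))⟩
        (fun e => htV (star t ht (fun a _ => htc a) c hc hcT e))
        fun e => h2 (star x hx h1 c hc hcT e)
      rwa [inv_eq_of_mul_eq_one_right (h.v2 _ (htc c)), ← h3 c (h1 c hc)] at h5
  have hDn : (V ⊔ zpowers t).Normal := sup_zpowers_normal htc
  have hTD : T ≤ V ⊔ zpowers t := by
    by_contra h1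
    obtain ⟨x, hx, hxD, -, h2⟩ := exists_central_mod h.p h1
    obtain ⟨b, hb, hb'⟩ : ∃ b ∈ A, ⁅b, x⁆ ∉ V := by
      by_contra h3
      push Not at h3
      exact hxD ((mul_mem_cancel_left (mem_sup_right (mem_zpowers t))).1
        (mem_sup_left (hD x hx h3 fun e => hxD (mem_sup_left e))))
    have hbT : b ∉ T := fun e => hb' (by
      rcases (mem_zpowers_ord2 (h.v2 z hz)).1 (AT b hb e) with rfl | rfl
      · simp
      · rw [commutatorElement_eq_one_iff_mul_comm.2 (hzc x).symm]; exact one_mem _)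
    obtain ⟨v', hv', e1⟩ := (mem_sup_invol ht2 (h2 b)).resolve_left hb'
    obtain ⟨a, ha, haT, ha'⟩ : ∃ a ∈ A, a ∉ T ∧ ⁅a, x⁆ ∈ V := by
      obtain ⟨d, hd, h3, h5, -⟩ := h.II_aux hz hz1 hzc AT hb hbT
      rcases mem_sup_invol ht2 (h2 d) with e | ⟨w, hw, e⟩
      · exact ⟨d, hd, h3, e⟩
      · refine ⟨_, mul_mem hb hd, h5, ?_⟩
        rw [comm_mul_l, e, e1, ← conj_mul, conj_eq_comm b t]
        have := mul_mem (mul_mem (mul_mem (this.conj_mem w hw b) (htc b))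
          (this.conj_mem _ hv' t)) ht2
        convert this using 1; group
    refine htV (star t ht (fun a _ => htc a) a ha haT ?_)
    have e2 : a * (b * x * b⁻¹) * a⁻¹ = b * (a * x * a⁻¹) * b⁻¹ := by
      calc _ = a * b * x * (a * b)⁻¹ := by group
        _ = _ := by rw [comm_of_sq_one h.a2 a ha b hb]; group
    rw [conj_eq_comm b x, conj_eq_comm a x, ← conj_mul, ← conj_mul, conj_eq_comm b x,
      conj_eq_comm a x, e1, ← conj_mul, conj_eq_comm a t, conj_eq_comm a v',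
      conj_eq_comm b ⁅a, x⁆] at e2
    have e3 : ⁅a, v'⁆ * ⁅a, t⁆ * (v' * ⁅a, x⁆ * t * x) = ⁅b, ⁅a, x⁆⁆ * (v' * ⁅a, x⁆ * t * x) := by
      calc _ = ⁅a, v'⁆ * (⁅a, t⁆ * v') * (⁅a, x⁆ * t) * x := by group
        _ = ⁅a, v'⁆ * (v' * ⁅a, t⁆) * (t * ⁅a, x⁆) * x := by
          rw [comm_of_sq_one h.v2 _ (htc a) _ hv', ht _ ha']
        _ = ⁅b, ⁅a, x⁆⁆ * ⁅a, x⁆ * (v' * t * x) := by rw [← e2]; group
        _ = ⁅b, ⁅a, x⁆⁆ * (⁅a, x⁆ * v') * t * x := by group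
        _ = _ := by rw [comm_of_sq_one h.v2 _ ha' _ hv']; group
    rw [mul_left_inj, ← eq_inv_mul_iff_mul_eq] at e3
    rw [e3]
    exact mul_mem (inv_mem (hVz a ha _ hv')) (hVz b hb _ ha')
  intro H N hs
  by_contra hbad
  obtain ⟨h1, h2, h3, h5, -⟩ := h.bad8 h8 hTD ht ht2 hy1 (fun x hx hxV _ => by
    obtain ⟨v, hv, rfl⟩ := (mem_sup_invol ht2 (hTD hx)).resolve_left hxV
    rw [← mul_assoc, ← ht v hv, mul_assoc]; exact mul_mem hv ht2) hs hbad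
  have hyz : t * t = z := ((mem_zpowers_ord2 (h.v2 z hz)).1
    (AT _ (h.central_mem hyc) (h.VT ht2))).resolve_left hy1
  rw [hyz] at h3
  obtain ⟨v, hv, hvz⟩ : ∃ v ∈ V, v ∉ zpowers z := SetLike.not_le_iff_exists.1 fun e => by
    have := card_le_of_le e; omega
  obtain ⟨w, hw, -, hgen⟩ := gen8 h.v2 h8 hz hv hz1 hvz
  obtain ⟨inj, h6⟩ := full_act (h.v2 z hz) hz1 hzc hv hw hgen
    (fun x hx v hv => h3 ⟨hs.comm hx (h1 hv), comm_V_mem hv x⟩) h5
  obtain ⟨x, hx, e1, e2⟩ := h6 _ (hVz c hc v hv) _ (hVz c hc w hw)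
  have h7 := hTD (inj x c e1 e2)
  have h9 : V ⊔ zpowers t ≤ C1[t] := sup_le (fun v hv => mem_centralizer_singleton_iff.2 (ht v hv))
    (zpowers_le.2 (mem_centralizer_singleton_iff.2 rfl))
  refine htV (star t ht (fun a _ => htc a) c hc hcT ?_)
  rw [show c = x * (x⁻¹ * c) by group, comm_mul_l, commutatorElement_eq_one_iff_mul_comm.2
    (mem_centralizer_singleton_iff.1 (h9 h7)), mul_one, mul_inv_cancel, one_mul]
  exact h3 ⟨hs.comm hx h2, htc x⟩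

end HA

end Cfsg.Agent.Dih
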