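import Cfsg.Agent.Dih.Sec3

/-! 2-groups with a self-centralizing elementary abelian subgroup of order 8, part 2. -/

set_option autoImplicit false
set_option linter.unusedVariables false
set_option linter.unusedSectionVars false

namespace Cfsg.Agent.Dih

open Cfsg.Agent.PLoc Cfsg.Agent.Inv Subgroup
open scoped commutatorElement

variable {G : Type*} [Group G]

theorem sup_zpowers_normal' {V : Subgroup G} [hV : V.Normal] {x : G}
    (h : ∀ s : G, s * x * s⁻¹ ∈ V ⊔ zpowers x) : (V ⊔ zpowers x).Normal := by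
  refine ⟨fun a ha g => ?_⟩
  have : V ⊔ zpowers x ≤ (V ⊔ zpowers x).comap (MulAut.conj g).toMonoidHom :=
    sup_le (fun v hv => le_sup_left (a := V) (hV.conj_mem v hv g)) (zpowers_le.2 (h g))
  exact this ha

theorem mem_sup_odd {V : Subgroup G} [V.Normal] {k a : G} (ha : a ∈ V ⊔ zpowers k) :
    (∃ v ∈ V, ∃ j : ℤ, a = v * k ^ (2 * j)) ∨ ∃ v ∈ V, ∃ j : ℤ, a = v * k ^ (2 * j + 1) := by
  obtain ⟨v, hv, _, ⟨i, rfl⟩, rfl⟩ :=
    (PLoc.mem_sup_of_le_normalizer_left le_normalizer_of_normal).1 ha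
  rcases Int.even_or_odd' i with ⟨j, rfl | rfl⟩
  · exact Or.inl ⟨v, hv, j, rfl⟩
  · exact Or.inr ⟨v, hv, j, rfl⟩

theorem sq_zpow (k : G) (j : ℤ) : (k * k) ^ j = k ^ (2 * j) := by
  rw [← pow_two, ← zpow_natCast, ← zpow_mul]; rfl

theorem cyc_of_inverted [Finite G] (hG : IsPGroup 2 G) {V T : Subgroup G} [V.Normal] {a t : G}
    (h1 : ∀ x ∈ T, a * x * a⁻¹ * x ∈ V) (h2 : ∀ x ∈ T, x * x ∈ V → x ∉ V → t * x ∈ V) :
    ∃ k ∈ T, T ≤ V ⊔ zpowers k := by
  let π := QuotientGroup.mk' V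
  have hπ : ∀ x, π x = 1 ↔ x ∈ V := fun x => QuotientGroup.eq_one_iff x
  have h3 : ∀ x ∈ T, π a * π x * (π a)⁻¹ = (π x)⁻¹ := fun x hx => by
    rw [← mul_eq_one_iff_eq_inv, ← map_inv, ← map_mul, ← map_mul, ← map_mul, hπ]; exact h1 x hx
  have h4 : ∀ x y : T.map π, x * y = y * x := by
    rintro ⟨_, x, hx, rfl⟩ ⟨_, y, hy, rfl⟩
    refine Subtype.ext ?_
    have := h3 _ (mul_mem hx hy)
    rw [map_mul, ← conj_mul, h3 x hx, h3 y hy, ← mul_inv_rev, inv_inj] at this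
    exact this.symm
  let _ : CommGroup (T.map π) := { (inferInstance : Group (T.map π)) with mul_comm := h4 }
  have h5 : IsCyclic (T.map π) := isCyclic_of_card_ker (p := 2)
    ((hG.to_quotient V).to_subgroup _) (by
      rw [← relIndex_bot_left]
      refine relIndex_le_two ?_
      rintro ⟨_, x, hx, rfl⟩ ex ⟨_, y, hy, rfl⟩ ey hx1 hy1
      have h6 := h2 x hx (by
        rw [← hπ, map_mul, ← pow_two]; exact congrArg Subtype.val ex)
        fun e => hx1 (Subtype.ext ((hπ x).2 e))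
      have h7 := h2 y hy (by
        rw [← hπ, map_mul, ← pow_two]; exact congrArg Subtype.val ey)
        fun e => hy1 (Subtype.ext ((hπ y).2 e))
      refine Subtype.ext ?_
      change (π x)⁻¹ * π y = 1
      rw [← map_inv, ← map_mul, hπ]
      simpa [mul_assoc] using mul_mem (inv_mem h6) h7)
  obtain ⟨b, hb⟩ := isCyclic_iff_zpowers.1 h5
  obtain ⟨k, hk, rfl⟩ : b ∈ T.map π := hb ▸ mem_zpowers b
  refine ⟨k, hk, fun x hx => ?_⟩
  obtain ⟨i, hi⟩ : π x ∈ zpowers (π k) := hb ▸ mem_map_of_mem π hx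
  have : x * (k ^ i)⁻¹ ∈ V := by rw [← hπ, map_mul, map_inv, map_zpow, ← hi]; simp
  simpa using mul_mem_sup this (zpow_mem (mem_zpowers k) i)

structure HI (A V : Subgroup G) (a : G) : Prop extends HA A V where
  aA : a ∈ A
  aT : a ∉ centralizer (V : Set G)
  u4 : Nat.card (V ⊓ centralizer {a} : Subgroup G) = 4
  uA : V ⊓ centralizer {a} ≤ A

namespace HI

variable [Finite G] {A V : Subgroup G} {a : G}

local notation "T" => centralizer (SetLike.coe V)
local notation "C1[" x "]" => centralizer ({x} : Set G)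
local notation "U" => V ⊓ centralizer (singleton a : Set G)
local notation "CU" => centralizer (SetLike.coe (V ⊓ centralizer (singleton a : Set G)))

theorem aa (h : HI A V a) : a * a = 1 := h.a2 a h.aA

theorem kfU (h : HI A V a) : IsKleinFour (U : Subgroup G) := kf_of_card h.u4 fun x hx => h.v2 x hx.1

theorem TCU (h : HI A V a) : T ≤ CU := centralizer_le inf_le_left

theorem aCU (h : HI A V a) : a ∈ CU := fun u hu => mem_centralizer_singleton_iff.1 hu.2

theorem cases (h : HI A V a) {c : G} (hc : c ∈ A) : c ∈ U ∨ a * c ∈ U := by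
  refine or_iff_not_imp_left.2 fun h1 => ?_
  have := inv_mul_mem_of_le_two (relIndex_le_two_of_card h.uA (by rw [h.u4, h.a8])) h.aA hc
    (fun e => h.aT (h.VT e.1)) h1
  rwa [inv_eq_of_mul_eq_one_right h.aa] at this

theorem cA' (h : HI A V a) {s : G} (h1 : s ∈ CU) (h2 : s ∈ C1[a]) : s ∈ A := h.cA fun c hc => by
  rcases h.cases hc with e | e
  · exact h1 c e
  · have := h1 _ e
    rw [← mul_assoc, mem_centralizer_singleton_iff.1 h2, mul_assoc, mul_assoc] at this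
    exact mul_left_cancel this

theorem AT (h : HI A V a) {c : G} (hc : c ∈ A) (hcT : c ∈ T) : c ∈ V := by
  rcases h.cases hc with e | e
  · exact e.1
  · exact (h.aT ((mul_mem_cancel_right hcT).1 (h.VT e.1))).elim

theorem comm_U (h : HI A V a) {s : G} (hs : ⁅a, s⁆ ∈ V) : ⁅a, s⁆ ∈ U :=
  ⟨hs, comm_mem_c1 h.aa (h.v2 _ hs)⟩

theorem adj (h : HI A V a) {s v : G} (hs : ⁅a, s⁆ ∈ V) (h1 : s ∈ CU) (hv : v ∈ V)
    (e : ⁅a, v⁆ = ⁅a, s⁆) : v * s ∈ A := by
  have := h.nV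
  exact h.cA' (mul_mem (h.TCU (h.VT hv)) h1) (by rw [mem_c1, comm_V_r h.v2 hv hs, e, h.v2 _ hs])

theorem conj_U (h : HI A V a) {s u : G} (hs : ⁅a, s⁆ ∈ T) (hu : u ∈ U) : s * u * s⁻¹ ∈ U := by
  have h1 := h.nV.conj_mem u hu.1 s
  refine ⟨h1, mem_centralizer_singleton_iff.2 ?_⟩
  have h2 := hs _ h1
  have h3 := mem_centralizer_singleton_iff.1 hu.2
  calc s * u * s⁻¹ * a = s * u * s⁻¹ * ⁅a, s⁆ * (s * a * s⁻¹) := by
        rw [commutatorElement_def]; group
    _ = ⁅a, s⁆ * (s * (u * a) * s⁻¹) := by rw [h2]; group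
    _ = _ := by rw [h3, commutatorElement_def]; group

theorem I16 (h : HI A V a) (h16 : Nat.card V = 16) : SR 16 G := by
  have := h.nV
  have sur : ∀ u ∈ U, ∃ v ∈ V, ⁅a, v⁆ = u := fun u hu =>
    surj_comm (fun v hv => h.comm_U (comm_V_mem hv a)) (by rw [h.u4, h16]) hu
  have adj : ∀ s : G, ⁅a, s⁆ ∈ V → s ∈ CU → ∃ v ∈ V, v * s ∈ A := fun s hs h1 => by
    obtain ⟨v, hv, e⟩ := sur _ (h.comm_U hs)
    exact ⟨v, hv, h.adj hs h1 hv e⟩
  obtain ⟨z, hz, hz1, hzc⟩ := h.exists_z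
  obtain ⟨k, hk⟩ := cyc_mod_of_cent h.p (V := V) (B := cmod V a) (by
    rw [← relIndex_mul_relIndex V (CU ⊓ cmod V a) (cmod V a)
      (fun v hv => ⟨h.TCU (h.VT hv), comm_V_mem hv a⟩) inf_le_right, inf_relIndex_right]
    refine Nat.mul_le_mul (n₂ := 2) (m₂ := 2) (relIndex_le_two fun x hx y hy hx' hy' => ?_)
      (kf_cent_relIndex h.kfU ⟨hz, mem_centralizer_singleton_iff.2 (hzc a).symm⟩ hz1
        (fun s hs u hu => h.conj_U (h.VT hs) hu) fun s _ => hzc s)
    obtain ⟨v, hv, e1⟩ := adj x hx.2 hx.1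
    obtain ⟨w, hw, e2⟩ := adj y hy.2 hy.1
    have h1 := (h.cases e1).resolve_left fun e => hx' ((V.mul_mem_cancel_left hv).1 e.1)
    have h2 := (h.cases e2).resolve_left fun e => hy' ((V.mul_mem_cancel_left hw).1 e.1)
    have h3 := V.mul_mem (V.mul_mem (this.conj_mem _ hv x⁻¹) (V.mul_mem (V.inv_mem h1.1) h2.1))
      (this.conj_mem _ (V.inv_mem hw) y⁻¹)
    convert h3 using 1; group) fun s hs =>
      mem_sup_right (comm_symm_mem (hs a (by simp [mem_cmod])))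
  refine h.fin16 h16.le (fun s hs h1 => adj s (hs a) ?_) (fun c hc hcV => ?_)
    (fun c hc => h.AT hc) hk
  · rcases h1 with h1 | h1
    · exact h.TCU h1
    have h2 := relIndex_le_two_of_card (B := V) (inf_le_left (b := C1[s])) (by omega)
    have h3 : ∀ g : G, ∀ v ∈ V ⊓ C1[s], g * v * g⁻¹ ∈ V ⊓ C1[s] := fun g v hv => by
      have h4 := this.conj_mem v hv.1 g
      refine ⟨h4, mem_centralizer_singleton_iff.2 ?_⟩
      calc g * v * g⁻¹ * s = g * (v * ⁅g⁻¹, s⁆) * s * g⁻¹ := by rw [commutatorElement_def]; group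
        _ = g * ⁅g⁻¹, s⁆ * (v * s) * g⁻¹ := by rw [comm_of_sq_one h.v2 v hv.1 _ (hs _)]; group
        _ = _ := by rw [mem_centralizer_singleton_iff.1 hv.2, commutatorElement_def]; group
    intro u hu
    obtain ⟨v, hv, rfl⟩ := sur u hu
    refine mem_centralizer_singleton_iff.1 (?_ : _ ∈ V ⊓ C1[s]).2
    by_cases h4 : v ∈ V ⊓ C1[s]
    · exact mul_mem (h3 a v h4) (inv_mem h4)
    · have := inv_mul_mem_of_le_two h2 hv (this.conj_mem v hv a) h4 fun e => h4 (by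
        simpa [mul_assoc] using h3 a⁻¹ _ e)
      rwa [comm_of_sq_one h.v2 _ (inv_mem hv) _ (h.nV.conj_mem v hv a)] at this
  · rw [← h.u4]
    have h1 := (h.cases hc).resolve_left fun e => hcV e.1
    refine card_le_of_le fun x hx => ⟨hx.1, mem_centralizer_singleton_iff.2 ?_⟩
    have h2 := comm_of_sq_one h.v2 x hx.1 _ h1.1
    rw [mul_assoc, ← mem_centralizer_singleton_iff.1 hx.2, ← mul_assoc, ← mul_assoc] at h2
    exact mul_right_cancel h2

theorem CL (h : HI A V a) (h8 : Nat.card V = 8) {T₁ : Subgroup G} [T₁.Normal] (h1 : T₁ ≤ T)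
    (h2 : ∀ t ∈ T, ⁅a, t⁆ ∈ T₁) {b : G} (hb : b ∈ CU) (hbT : b ∉ T) (habT : a * b ∉ T)
    (h3 : ⁅a, b⁆ ∈ T₁) {t : G} (ht : t ∈ T) : ∃ r, ⁅a, r⁆ ∈ T₁ ∧ ⁅a, r⁆⁻¹ * t ∈ V := by
  have := h.nV
  let π := QuotientGroup.mk' V
  let R := CU ⊓ cmod T₁ a
  have hTR : T ≤ R := fun t ht => ⟨h.TCU ht, h2 t ht⟩
  have h4 : 4 ≤ (T).relIndex R := by
    have h5 := relIndex_cases h.p T R
    by_contra h6
    have := inv_mul_mem_of_le_two (show (T).relIndex R ≤ 2 by omega)
      (show a ∈ R from ⟨h.aCU, by simp [mem_cmod]⟩) (show b ∈ R from ⟨hb, h3⟩) h.aT hbT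
    rw [inv_eq_of_mul_eq_one_right h.aa] at this
    exact habT this
  have h5 : Nat.card (cmod V a ⊓ R : Subgroup G) ≤ 32 := by
    refine (card_le_comm (X := cmod V a ⊓ R) fun x hx => h.comm_U hx.1).trans ?_
    rw [h.u4]
    refine Nat.mul_le_mul (n₂ := 8) ?_ le_rfl
    rw [← h.a8]
    exact card_le_of_le fun x hx => h.cA' hx.1.2.1 hx.2
  obtain ⟨r, hr, e⟩ := surj_of_card (X := R) (D := cmod V a) (Y := (T).map π)
    (fun r => π ⁅a, r⁆) (fun r hr => mem_map_of_mem π (h1 hr.2)) (fun x _ y _ e => by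
      simp only [map_commutatorElement] at e
      have := mem_c1.1 (comm_eq_imp e)
      rwa [← map_inv, ← map_mul, ← map_commutatorElement, QuotientGroup.mk'_apply,
        QuotientGroup.eq_one_iff] at this) (by
      rw [← relIndex_ker, QuotientGroup.ker_mk']
      have e1 := PLoc.card_mul_relIndex h.VT
      have e2 := PLoc.card_mul_relIndex hTR
      have e3 := PLoc.card_inf_mul_relIndex (cmod V a) R
      rw [h8] at e1
      nlinarith) (mem_map_of_mem π ht)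
  exact ⟨r, hr.2, QuotientGroup.eq.1 e⟩

theorem I8 (h : HI A V a) (h8 : Nat.card V = 8) : SR 16 G := by
  have := h.nV
  by_cases hTV : T ≤ V
  · exact h.fin8 h8 hTV
  have hU2 := relIndex_le_two_of_card (B := V) (inf_le_left (b := C1[a])) (by rw [h.u4, h8])
  obtain ⟨w₀, hw₀, hw₀U⟩ : ∃ w ∈ V, w ∉ U := SetLike.not_le_iff_exists.1 fun e => by
    have := card_le_of_le e; rw [h.u4] at this; omega
  set u := ⁅a, w₀⁆ with hu
  have huU : u ∈ U := h.comm_U (comm_V_mem hw₀ a)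
  have hu1 : u ≠ 1 := fun e => hw₀U ⟨hw₀, mem_c1.2 e⟩
  have hu2 : ∀ v ∈ V, v ∉ U → ⁅a, v⁆ = u := fun v hv hv' => by
    have h1 := inv_mul_mem_of_le_two hU2 hw₀ hv hw₀U hv'
    rw [show v = w₀ * (w₀⁻¹ * v) by group, comm_V_r h.v2 hw₀ (comm_V_mem h1.1 a), mem_c1.1 h1.2,
      mul_one]
  have hu3 : ∀ v ∈ V, ⁅a, v⁆ ∈ zpowers u := fun v hv => by
    by_cases e : v ∈ U
    · rw [mem_c1.1 e.2]; exact one_mem _
    · rw [hu2 v hv e]; exact mem_zpowers _
  have star : ∀ t ∈ T, ⁅a, t⁆ ∈ zpowers u → t ∈ V := fun t ht e => by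
    obtain ⟨v, hv, e'⟩ : ∃ v ∈ V, ⁅a, v⁆ = ⁅a, t⁆ := by
      rcases (mem_zpowers_ord2 (h.v2 u huU.1)).1 e with e' | e'
      · exact ⟨1, one_mem _, by rw [e']; simp⟩
      · exact ⟨w₀, hw₀, e'.symm⟩
    exact (V.mul_mem_cancel_left hv).1 (h.AT (h.adj (zpowers_le.2 huU.1 e) (h.TCU ht) hv e')
      (mul_mem (h.VT hv) ht))
  obtain ⟨t, ht, htV, ht2, htc⟩ := exists_central_mod h.p hTV
  obtain ⟨hy1, hyc⟩ := h.t0_facts ht htV ht2 htc
  have hD : ∀ x ∈ T, ⁅a, x⁆ ∈ V → x ∉ V → t * x ∈ V := fun x hx h1 h2 => by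
    refine star _ (mul_mem ht hx) ?_
    have h5 := inv_mul_mem_of_le_two (relIndex_le_two_of_card (zpowers_le.2 huU)
      (by rw [h.u4, card_zpowers_two (h.v2 u huU.1) hu1])) (h.comm_U (htc a)) (h.comm_U h1)
      (fun e => htV (star t ht e)) fun e => h2 (star x hx e)
    rwa [comm_mul_r, ← ht _ h1, mul_inv_cancel_right, ← inv_eq_of_mul_eq_one_right (h.v2 _ (htc a))]
  by_cases htop : T ⊔ zpowers a = ⊤
  · have hTi : (T).index ≤ 2 := by
      rw [← relIndex_top_right]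
      refine relIndex_le_two fun x _ y _ hx hy => ?_
      obtain ⟨v, hv, rfl⟩ := (mem_sup_invol (h.aa ▸ one_mem _) (htop ▸ mem_top x)).resolve_left hx
      obtain ⟨w, hw, rfl⟩ := (mem_sup_invol (h.aa ▸ one_mem _) (htop ▸ mem_top y)).resolve_left hy
      have := (inferInstance : (T).Normal).conj_mem _ (mul_mem (inv_mem hv) hw) a⁻¹
      convert this using 1; group
    obtain ⟨k, hk⟩ := cyc_mod_of_cent h.p (V := V) (B := cmod V a) (by
      rw [← relIndex_mul_relIndex V (T ⊓ cmod V a) (cmod V a)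
        (fun v hv => ⟨h.VT hv, comm_V_mem hv a⟩) inf_le_right]
      refine Nat.mul_le_mul (n₂ := 2) (m₂ := 2) (relIndex_le_two fun x hx y hy hx' hy' => ?_)
        ((relIndex_le_of_inf (by rw [inf_comm])).trans hTi)
      simpa [mul_assoc] using mul_mem (inv_mem (hD x hx.1 hx.2 hx')) (hD y hy.1 hy.2 hy'))
      fun s hs => mem_sup_right (comm_symm_mem (hs a (by simp [mem_cmod])))
    intro H N hs
    rw [hs.chain V]
    by_contra hbad
    obtain ⟨h1, h2⟩ := relIndex_le_four h.p hk (hs.up V) le_sup_right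
    have h3 : N.relIndex (H ⊓ V) ≤ 8 :=
      (relIndex_le_card' _ _).trans ((card_le_of_le inf_le_right).trans h8.le)
    have h4 := relIndex_cases h.p N (H ⊓ V)
    obtain ⟨-, h5, h6⟩ := le_cent_of_gamma (V := V) hs (by
      by_contra h5
      exact hbad (Nat.mul_le_mul (n₂ := 4) (m₂ := 4) (by omega) h1))
    obtain ⟨x, hx, hxV, h7, h9⟩ := h2 (by
      by_contra h5
      exact hbad (Nat.mul_le_mul (n₂ := 8) (m₂ := 2) h3 (by omega)))
    exact hxV (h.mx x (h6 hx) (h5 ⟨hs.sq x hx, h7⟩) h9)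
  have hyU : t * t ∈ U := ⟨ht2, mem_centralizer_singleton_iff.2 (hyc a).symm⟩
  have hCU : t * t ≠ u → ∀ s, s * u = u * s → s ∈ CU := fun e s hs =>
    kf_mem_centralizer h.kfU hyU huU hy1 hu1 e (hyc s).symm hs.symm
  have hinv : ∀ x ∈ T, a * x * a⁻¹ * x ∈ V := by
    have hDn : (V ⊔ zpowers t).Normal := sup_zpowers_normal htc
    by_cases hTD : T ≤ V ⊔ zpowers t
    · intro x hx
      rcases mem_sup_invol ht2 (hTD hx) with e | ⟨v, hv, rfl⟩
      · exact mul_mem (this.conj_mem x e a) e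
      · rw [← conj_mul, conj_eq_comm a t]
        have := mul_mem (mul_mem (mul_mem (this.conj_mem v hv a) (htc a))
          (this.conj_mem _ hv t)) ht2
        convert this using 1; group
    obtain ⟨x, hx, hxD, -, h2⟩ := exists_central_mod h.p hTD
    obtain ⟨v, hv, e1⟩ := (mem_sup_invol ht2 (h2 a)).resolve_left fun e =>
      hxD ((mul_mem_cancel_left (mem_sup_right (mem_zpowers t))).1
        (mem_sup_left (hD x hx e fun e => hxD (mem_sup_left e))))
    have hyu : t * t ≠ u := fun e => htV (star t ht (by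
      have h3 := inv_comm h.aa x
      rw [e1, ← conj_mul, conj_eq_comm a t, conj_eq_comm a v, ← mul_eq_one_iff_eq_inv] at h3
      have h4 : ⁅a, v⁆ * ⁅a, t⁆ * (t * t) = 1 := by
        rw [← h3]
        calc _ = ⁅a, v⁆ * ⁅a, t⁆ * (v * v) * (t * t) := by rw [h.v2 v hv, mul_one]
          _ = ⁅a, v⁆ * (⁅a, t⁆ * v) * (v * t) * t := by group
          _ = ⁅a, v⁆ * (v * ⁅a, t⁆) * (t * v) * t := by
            rw [comm_of_sq_one h.v2 _ (htc a) _ hv, ht v hv]
          _ = _ := by group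
      rw [mul_eq_one_iff_eq_inv, ← eq_inv_mul_iff_mul_eq, e] at h4
      rw [h4]
      exact mul_mem (inv_mem (hu3 v hv)) (inv_mem (mem_zpowers u))))
    obtain ⟨b, -, hb, hb'⟩ := exists_mem_normalizer_not_mem (isPGroup_top_iff.2 h.p)
      (lt_top_iff_ne_top.2 htop)
    obtain ⟨s, hs, e2⟩ := (mem_sup_invol (h.aa ▸ one_mem _)
      ((mem_normalizer_iff.1 hb a).1 (mem_sup_right (mem_zpowers a)))).resolve_left
      fun e => h.aT (by simpa [mul_assoc] using (inferInstance : (T).Normal).conj_mem _ e b⁻¹)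
    have h3 : ⁅a, b⁆ ∈ T := comm_symm_mem (by rw [commutatorElement_def, e2]; simpa using hs)
    have h4 : b ∈ CU := hCU hyu b (by
      rw [← mul_inv_eq_iff_eq_mul, hu, conjugate_commutatorElement, e2,
        comm_T_l hs (this.conj_mem _ hw₀ b)]
      refine hu2 _ (this.conj_mem _ hw₀ b) fun e => hw₀U ?_
      have h5 : ⁅a, b⁻¹⁆ ∈ T := inv_mem (show b ∈ cmod T a from h3)
      simpa [mul_assoc] using h.conj_U h5 e)
    intro x hx
    obtain ⟨r, -, h5⟩ := h.CL h8 le_rfl (fun t ht => mul_mem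
      ((inferInstance : (T).Normal).conj_mem _ ht a) (inv_mem ht)) h4
      (fun e => hb' (mem_sup_left e))
      (fun e => hb' ((mul_mem_cancel_left (mem_sup_right (mem_zpowers a))).1 (mem_sup_left e)))
      h3 hx
    rw [show x = ⁅a, r⁆ * (⁅a, r⁆⁻¹ * x) by group, ← conj_mul, inv_comm h.aa]
    have := mul_mem (this.conj_mem _ (this.conj_mem _ h5 a) ⁅a, r⁆⁻¹) h5
    convert this using 1; group
  have uniq : ∀ x ∈ T, x ∉ V → x * x ∈ V → t * x ∈ V := fun x hx h1 h2 => hD x hx (by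
    have := mul_mem (hinv x hx) (inv_mem h2)
    convert this using 1; rw [commutatorElement_def]; group) h1
  obtain ⟨k, hkT, hk⟩ := cyc_of_inverted h.p hinv fun x hx h1 h2 => uniq x hx h2 h1
  have hab : ∀ x ∈ T, ∀ y ∈ T, x * y = y * x := by
    have h1 : ∀ x ∈ T, x ∈ C1[k] → T ≤ C1[x] := fun x hx e => hk.trans (sup_le
      (fun v hv => mem_centralizer_singleton_iff.2 (hx v hv))
      (zpowers_le.2 (mem_centralizer_singleton_iff.2 (mem_centralizer_singleton_iff.1 e).symm)))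
    exact fun x hx y hy => mem_centralizer_singleton_iff.1 (h1 y hy
      (h1 k hkT (mem_centralizer_singleton_iff.2 rfl) hy) hx)
  intro H N hs
  by_contra hbad
  obtain ⟨h1, h2, h3, h5, h6⟩ := h.bad8 h8 hk ht ht2 hy1 uniq hs hbad
  set y := t * t with hy
  have hy2 := h.v2 y ht2
  have hHy : ∀ x ∈ H, ∀ v ∈ V, ⁅x, v⁆ ∈ zpowers y := fun x hx v hv =>
    h3 ⟨hs.comm hx (h1 hv), comm_V_mem hv x⟩
  have hyfix : ∀ s : G, ∀ p ∈ zpowers y, s * p * s⁻¹ = p := fun s p hp => by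
    rcases (mem_zpowers_ord2 hy2).1 hp with rfl | rfl
    · group
    · rw [hyc]; group
  by_cases hyu : y = u
  · obtain ⟨v, hv, hvz⟩ : ∃ v ∈ V, v ∉ zpowers y := SetLike.not_le_iff_exists.1 fun e => by
      have := card_le_of_le e; rw [card_zpowers_two hy2 hy1] at this; omega
    obtain ⟨w, hw, -, hgen⟩ := gen8 h.v2 h8 ht2 hv hy1 hvz
    obtain ⟨inj, h7⟩ := full_act hy2 hy1 hyc hv hw hgen hHy h5
    obtain ⟨x, hx, e1, e2⟩ := h7 _ (hyu ▸ hu3 v hv) _ (hyu ▸ hu3 w hw)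
    refine htV (star t ht ?_)
    rw [show a = x * (x⁻¹ * a) by group, comm_mul_l, commutatorElement_eq_one_iff_mul_comm.2
      (hab _ (inj x a e1 e2) t ht), mul_one, mul_inv_cancel, one_mul, ← hyu]
    exact h3 ⟨hs.comm hx h2, htc x⟩
  obtain ⟨w, hw, hw', hgen⟩ := gen8 h.v2 h8 ht2 huU.1 hy1 (by
    rw [mem_zpowers_ord2 hy2, not_or]; exact ⟨hu1, Ne.symm hyu⟩)
  rw [← kf_eq_sup h.kfU hyU huU hy1 hu1 hyu] at hw'
  obtain ⟨inj, h7⟩ := full_act hy2 hy1 hyc huU.1 hw hgen hHy h5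
  obtain ⟨c, hc, c1, c2⟩ := h7 1 (one_mem _) y (mem_zpowers y)
  obtain ⟨x, hx, x1, x2⟩ := h7 y (mem_zpowers y) 1 (one_mem _)
  have a1 : ⁅a, u⁆ = 1 := mem_c1.1 huU.2
  have a2 : ⁅a, w⁆ = u := hu2 w hw hw'
  have ainv : a⁻¹ = a := inv_eq_of_mul_eq_one_right h.aa
  have hcU : c ∈ CU := hCU hyu c (commutatorElement_eq_one_iff_mul_comm.1 c1)
  have hcT : c ∉ T := fun e => hy1 (c2 ▸ commutatorElement_eq_one_iff_mul_comm.2 (e w hw).symm)
  have hac : ⁅a * c, w⁆ = y * u := by rw [comm_mul_l, c2, a2, hyfix a y (mem_zpowers y)]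
  have hacT : a * c ∉ T := fun e => hyu (by
    rw [commutatorElement_eq_one_iff_mul_comm.2 (e w hw).symm, eq_comm, mul_eq_one_iff_eq_inv,
      inv_eq_of_mul_eq_one_right (h.v2 u huU.1)] at hac
    exact hac)
  have hg : ⁅a, c⁆ ∈ T := by
    have h9 := inj (c * a) (a * c) (by simp only [comm_mul_l, a1, c1]; group) (by
      rw [hac, comm_mul_l, a2, c2, commutatorElement_eq_one_iff_mul_comm.1 c1, mul_inv_cancel_right,
        hyc])
    have := (inferInstance : (T).Normal).conj_mem _ h9 (c * a)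
    convert this using 1; rw [commutatorElement_def]; group
  have hx' : (x * c)⁻¹ * (a * x * a⁻¹) ∈ T := inj _ _ (by
      rw [comm_mul_l, c1, x1, show ⁅a * x * a⁻¹, u⁆ = ⁅a * x * a⁻¹, a * u * a⁻¹⁆ by
        rw [conj_eq_comm a u, a1, one_mul], ← conjugate_commutatorElement, x1,
        hyfix a y (mem_zpowers y)]; group) (by
      rw [comm_mul_l, c2, x2, show ⁅a * x * a⁻¹, w⁆ = ⁅a * x * a⁻¹, a * (u * w) * a⁻¹⁆ by
        rw [← conj_mul (a := u), conj_eq_comm a u, conj_eq_comm a w, a1, a2, one_mul, ← mul_assoc,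
          h.v2 u huU.1, one_mul], ← conjugate_commutatorElement,
        comm_V_r h.v2 huU.1 (comm_V_mem hw x), x1, x2, mul_one, mul_one,
        hyfix a y (mem_zpowers y), hyfix x y (mem_zpowers y)])
  let π := QuotientGroup.mk' V
  have hπ : ∀ x, π x = 1 ↔ x ∈ V := fun x => QuotientGroup.eq_one_iff x
  have hinv' : ∀ s ∈ T, π (a * s * a⁻¹) = (π s)⁻¹ := fun s hs => by
    rw [← mul_eq_one_iff_eq_inv, ← map_mul, hπ]; exact hinv s hs
  have hcc : ∀ s ∈ T, π (c * s * c⁻¹) = π s := fun s hs => by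
    have hTn : (T).Normal := inferInstance
    have e1 := hinv' _ (hTn.conj_mem _ (hTn.conj_mem s hs a) x)
    have e2 := hinv' s hs
    have e3 : a * (x * (a * s * a⁻¹) * x⁻¹) * a⁻¹ = x * (c * s * c⁻¹) * x⁻¹ := by
      have e4 := hab _ hx' s hs
      calc _ = x * c * ((x * c)⁻¹ * (a * x * a⁻¹) * s) * (a * x⁻¹ * a⁻¹) := by
            rw [ainv]; group
        _ = _ := by rw [e4]; group
    rw [e3, map_mul, map_mul, map_mul π _ x⁻¹, map_mul π x, e2] at e1
    simp only [map_inv, mul_inv_rev, inv_inv, mul_assoc, mul_left_cancel_iff] at e1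
    rw [mul_assoc]
    exact mul_right_cancel e1
  have hsq : ∀ s ∈ T, s * s ∈ V ⊔ zpowers (k * k) := fun s hs => by
    obtain ⟨v, hv, _, ⟨i, rfl⟩, rfl⟩ :=
      (PLoc.mem_sup_of_le_normalizer_left le_normalizer_of_normal).1 (hk hs)
    have : v * k ^ i * (v * k ^ i) = (k * k) ^ i := by
      rw [mul_assoc, ← mul_assoc _ v, hab _ (zpow_mem hkT i) _ (h.VT hv), mul_assoc, ← mul_assoc,
        h.v2 v hv, one_mul, sq_zpow, two_mul, zpow_add]
    exact this ▸ mem_sup_right (zpow_mem (mem_zpowers _) i)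
  have hT₁ : (V ⊔ zpowers (k * k)).Normal := sup_zpowers_normal' fun s => by
    rw [← conj_mul]; exact hsq _ ((inferInstance : (T).Normal).conj_mem k hkT s)
  have heven : ∀ v ∈ V, ∀ j : ℤ, v * k ^ (2 * j) ∈ V ⊔ zpowers (k * k) := fun v hv j =>
    mul_mem_sup hv (sq_zpow k j ▸ zpow_mem (mem_zpowers _) j)
  have hg1 : ⁅a, c⁆ ∉ V ⊔ zpowers (k * k) := fun e => by
    obtain ⟨r, h9, h10⟩ := h.CL h8 (sup_le h.VT (zpowers_le.2 (mul_mem hkT hkT))) (fun s hs => by
      have := mul_mem (mem_sup_left (hinv s hs)) (inv_mem (hsq s hs))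
      convert this using 1; rw [commutatorElement_def]; group) hcU hcT hacT e hkT
    have h11 := mul_mem h9 (mem_sup_left h10)
    rw [mul_inv_cancel_left] at h11
    obtain ⟨v, hv, _, ⟨i, rfl⟩, e'⟩ :=
      (PLoc.mem_sup_of_le_normalizer_left le_normalizer_of_normal).1 h11
    refine hTV (hk.trans (sup_le le_rfl (zpowers_le.2 (mem_of_odd_zpow h.p (j := -i) ?_))))
    convert hv using 1
    rw [eq_mul_inv_of_mul_eq e']
    simp only [sq_zpow]; group
  have hc2 : c * c ∈ T := fun v hv => (commutatorElement_eq_one_iff_mul_comm.1 (by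
    rw [comm_mul_l, hyfix c _ (hHy c hc v hv), h.v2 _ (comm_V_mem hv c)])).symm
  obtain ⟨v₁, hv₁, i, e1⟩ := (mem_sup_odd (hk hc2)).resolve_right fun ⟨v, hv, j, e⟩ => h6
    (inf_le_right.trans (hk.trans (sup_le (le_sup_of_le_right (le_inf h1 le_rfl))
      (zpowers_le.2 (mem_of_odd_zpow h.p (j := j) ((mul_mem_cancel_left
        (mem_sup_right (mem_inf.2 ⟨h1 hv, hv⟩))).1 (e ▸ mem_sup_left (hs.sq c hc))))))))
  obtain ⟨v₂, hv₂, j, e2⟩ := (mem_sup_odd (hk hg)).resolve_left fun ⟨v, hv, j, e⟩ =>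
    hg1 (e ▸ heven v hv j)
  set g := ⁅a, c⁆ with hg'
  have e3 : a * (c * c) * a⁻¹ = g * (c * g * c⁻¹) * (c * c) := by
    rw [← conj_mul (a := c) (b := a), conj_eq_comm a c, ← hg']; group
  have hk2 : k * k ∈ V := by
    have e4 := hinv' _ hc2
    rw [e3, map_mul, map_mul, hcc g hg, e1, e2, map_mul, map_mul, (hπ _).2 hv₁, (hπ _).2 hv₂,
      one_mul, one_mul, ← mul_eq_one_iff_eq_inv, ← map_mul, ← map_mul, ← map_mul, hπ] at e4
    refine mem_of_odd_zpow h.p (j := i + j) ?_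
    convert e4 using 1
    rw [sq_zpow]; group
  have hT₁V : V ⊔ zpowers (k * k) ≤ V := sup_le le_rfl (zpowers_le.2 hk2)
  have hgV : g ∉ V := fun e => hg1 (mem_sup_left e)
  have htg := uniq g hg hgV (hT₁V (hsq g hg))
  have hg2 : g * g = y := h.sq_coset ht ht2 htg
  have hgH : g ∈ H := (H.mul_mem_cancel_left h2).1 (h1 htg)
  have e4 : ⁅c, g⁆ = y := by
    rw [hyfix a _ (h3 ⟨hs.sq c hc, hT₁V (e1 ▸ heven v₁ hv₁ i)⟩), eq_comm, mul_eq_right,
      mul_eq_one_iff_inv_eq] at e3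
    rw [commutatorElement_def, ← e3, ← mul_inv_rev, hg2, inv_eq_of_mul_eq_one_right hy2]
  have e5 : ⁅x, g⁆ ∈ zpowers y := h3 ⟨hs.comm hx hgH, by
    have h9 := mul_mem (inv_mem (htc x)) (comm_V_mem htg x)
    rw [comm_mul_r, inv_mul_cancel_left] at h9
    simpa [mul_assoc] using this.conj_mem _ h9 t⁻¹⟩
  have e6 : ⁅a * x * a⁻¹, g⁆ = ⁅x, g⁆ := by
    have e7 : g = a * (g * y) * a⁻¹ := by
      rw [← conj_mul, inv_comm h.aa, hyfix a y (mem_zpowers y), ← hg2, inv_mul_cancel_left]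
    conv_lhs => rw [e7]
    rw [← conjugate_commutatorElement, comm_mul_r, commutatorElement_eq_one_iff_mul_comm.2 (hyc x),
      mul_one, mul_inv_cancel, mul_one, hyfix a _ e5]
  rw [show a * x * a⁻¹ = x * c * ((x * c)⁻¹ * (a * x * a⁻¹)) by group, comm_mul_l,
    commutatorElement_eq_one_iff_mul_comm.2 (hab _ hx' g hg), mul_one, mul_inv_cancel, one_mul,
    comm_mul_l, e4, hyfix x y (mem_zpowers y), mul_eq_right] at e6
  exact hy1 e6

end HI

theorem HA.main [Finite G] {A V : Subgroup G} (h : HA A V) : SR 16 G := by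
  have := h.nV
  have h8 := h.a8
  have hV8 := h.v8
  obtain ⟨z, hz, hz1, hzc⟩ := h.exists_z
  have h1 : Nat.card (A ⊓ centralizer (V : Set G) : Subgroup G) ≤ 8 :=
    h8 ▸ card_le_of_le inf_le_left
  have h2 : zpowers z ≤ A ⊓ centralizer (V : Set G) :=
    zpowers_le.2 (mem_inf.2 ⟨h.central_mem hzc, h.VT hz⟩)
  have h3 := card_zpowers_two (h.v2 z hz) hz1
  by_cases h4 : Nat.card (A ⊓ centralizer (V : Set G) : Subgroup G) ≤ 2
  · exact h.II hz hz1 hzc fun c hc hcT =>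
      (eq_of_le_of_card_ge h2 (by omega)).ge (mem_inf.2 ⟨hc, hcT⟩)
  by_cases h5 : A ≤ centralizer (V : Set G)
  · have h6 : V = A := eq_of_le_of_card_ge ((le_centralizer_iff.1 h5).trans h.cA) (by omega)
    exact h.fin8 (h6 ▸ h8) (h6 ▸ h.cA)
  obtain ⟨a, ha, haT⟩ := SetLike.not_le_iff_exists.1 h5
  have h6 : Nat.card (A ⊓ centralizer (V : Set G) : Subgroup G) = 4 := by
    have h7 := card_cases h.p (A ⊓ centralizer (V : Set G))
    have h9 : Nat.card (A ⊓ centralizer (V : Set G) : Subgroup G) < 8 :=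
      h8 ▸ card_lt_of_lt (lt_of_le_of_ne inf_le_left fun e => h5 (e ▸ inf_le_right))
    omega
  have h7 : V ⊓ centralizer {a} ≤ A ⊓ centralizer (V : Set G) := fun x hx =>
    ⟨h.cA (mem_cent_of_gen (le_of_le_two (relIndex_le_two_of_card inf_le_left (by omega)) ha
      (fun e => haT e.2) (fun c hc => mem_centralizer_singleton_iff.2 (hc.2 x hx.1).symm)
      (mem_centralizer_singleton_iff.2 (mem_centralizer_singleton_iff.1 hx.2).symm))), h.VT hx.1⟩
  have h9 := card_le_of_le h7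
  have h10 := card_le_sq (h.a2 a ha) h.v2 fun x hx => this.conj_mem x hx a
  have h11 : Nat.card (V ⊓ centralizer {a} : Subgroup G) = 4 := by
    rcases card_cases h.p (V ⊓ centralizer {a}) with e | e | e | e | e
    · rw [e] at h10; omega
    · rw [e] at h10; omega
    all_goals omega
  have hI : HI A V a := ⟨h, ha, haT, h11, h7.trans inf_le_left⟩
  rw [h11] at h10
  have h12 := card_cases h.p V
  by_cases h13 : Nat.card V = 8
  · exact hI.I8 h13
  · exact hI.I16 (by omega)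

theorem SR_of_E8 [Finite G] (hG : IsPGroup 2 G) {A : Subgroup G} (h2 : ∀ a ∈ A, a * a = 1)
    (h8 : Nat.card A = 8) (hC : centralizer (A : Set G) ≤ A) : SR 16 G := by
  by_cases h : ∀ A : Subgroup G, A.Normal → (∀ a ∈ A, a * a = 1) → Nat.card A ≤ 4
  · exact SR_of_no_E8 hG h
  push Not at h
  obtain ⟨B, h1, h3, h4⟩ := h
  obtain ⟨V, hBV, ⟨hVn, hV2⟩, hmax⟩ := Core.exists_maximal_ge
    (P := fun W : Subgroup G => W.Normal ∧ ∀ a ∈ W, a * a = 1) (H := B) ⟨h1, h3⟩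
  have h5 := card_le_of_le hBV
  have h6 := card_cases hG V
  exact HA.main ⟨hG, h2, h8, hC, hVn, hV2, by omega, fun x hx e h7 =>
    (hmax _ ⟨sup_zpowers_normal h7, elem_sup hV2 hx e⟩ le_sup_left).le
      (mem_sup_right (mem_zpowers x))⟩

theorem s1232 {S : Type*} [Group S] [Finite S] (hS : IsPGroup 2 S) (A : Subgroup S)
    (hA : Cfsg.IsElementaryAbelian 2 A) (hA8 : Nat.card A = 8)
    (hC : Subgroup.centralizer (A : Set S) = A) : Cfsg.SectionalPRankLE 2 4 S :=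
  sec_of_SR (SR_of_E8 hS (fun a ha => (pow_two a).symm.trans (hA.2 a ha)) hA8 hC.le)

end Cfsg.Agent.Dih
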