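import Cfsg.Agent.Dih.Sec4

/-! Applications of the self-centralizing `E₈` theorem. -/

set_option autoImplicit false
set_option linter.unusedVariables false
set_option linter.unusedSectionVars false

namespace Cfsg.Agent.Dih

open Cfsg.Agent.PLoc Cfsg.Agent.Inv Subgroup
open scoped commutatorElement

variable {G : Type*} [Group G]

theorem mem_sup_invol' {V : Subgroup G} {x a : G} (hn : x ∈ normalizer (V : Set G))
    (hx : x * x ∈ V) (ha : a ∈ V ⊔ zpowers x) : a ∈ V ∨ ∃ v ∈ V, a = v * x := by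
  obtain ⟨v, hv, _, ⟨i, rfl⟩, rfl⟩ :=
    (PLoc.mem_sup_of_le_normalizer_left (zpowers_le.2 hn)).1 ha
  rcases Int.even_or_odd' i with ⟨j, rfl | rfl⟩
  · exact Or.inl (mul_mem hv (by simpa only [sq_zpow] using zpow_mem hx j))
  · exact Or.inr ⟨v * (x * x) ^ j, mul_mem hv (zpow_mem hx j), by rw [sq_zpow]; group⟩

theorem card_sup_invol [Finite G] {V : Subgroup G} {x : G} (hn : x ∈ normalizer (V : Set G))
    (hx : x * x = 1) (h : x ∉ V) : Nat.card (V ⊔ zpowers x : Subgroup G) = 2 * Nat.card V := by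
  rw [sup_comm, PLoc.card_sup_of_disjoint (zpowers_le.2 hn),
    card_zpowers_two hx fun e => h (e ▸ one_mem V)]
  rw [eq_bot_iff]
  rintro y ⟨h1, h2⟩
  rcases (mem_zpowers_ord2 hx).1 h1 with rfl | rfl
  · exact one_mem _
  · exact (h h2).elim

theorem elem_sup' {V : Subgroup G} (hV : ∀ v ∈ V, v * v = 1) {x : G}
    (hc : x ∈ centralizer (V : Set G)) (hx : x * x = 1) : ∀ a ∈ V ⊔ zpowers x, a * a = 1 :=
  fun a ha => by
  rcases mem_sup_invol' (centralizer_le_normalizer _ hc) (hx ▸ one_mem V) ha with h | ⟨v, hv, rfl⟩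
  · exact hV a h
  · rw [mul_assoc, ← mul_assoc x, ← hc v hv, mul_assoc, hx, mul_one, hV v hv]

theorem s1234 {S : Type*} [Group S] [Finite S] (hS : IsPGroup 2 S) (Q E : Subgroup S) (hEQ : E ≤ Q)
    (hE : Cfsg.IsElementaryAbelian 2 E) (hE16 : Nat.card E = 16) (hQ32 : Nat.card Q = 32) (s : S)
    (hsQ : s ∈ Q) (hsE : s ∉ E) (hs : orderOf s = 2)
    (hfix : Nat.card ↥(E ⊓ Subgroup.centralizer ({s} : Set S)) = 4)
    (hC : Subgroup.centralizer (((Subgroup.center Q).map Q.subtype : Subgroup S) : Set S) = Q) :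
    Cfsg.SectionalPRankLE 2 4 S := by
  have hE2 : ∀ a ∈ E, a * a = 1 := fun a ha => (pow_two a).symm.trans (hE.2 a ha)
  have hs2 := sq_of_ord2 hs
  have hsC : s ∈ centralizer ((E ⊓ centralizer {s} : Subgroup S) : Set S) := fun u hu =>
    mem_centralizer_singleton_iff.1 hu.2
  have hi := relIndex_le_two_of_card hEQ (by omega)
  have key : ∀ x ∈ Q, s * x = x * s → x ∈ E ⊓ centralizer {s} ⊔ zpowers s := fun x hx e => by
    by_cases hxE : x ∈ E
    · exact mem_sup_left ⟨hxE, mem_centralizer_singleton_iff.2 e.symm⟩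
    · have h1 : s⁻¹ * x ∈ E ⊓ centralizer {s} := ⟨inv_mul_mem_of_le_two hi hsQ hx hsE hxE,
        mem_centralizer_singleton_iff.2 (by rw [mul_assoc, ← e]; group)⟩
      simpa using mul_mem (mem_sup_right (mem_zpowers s)) (mem_sup_left h1)
  refine sec_of_SR (SR_of_E8 hS (A := E ⊓ centralizer {s} ⊔ zpowers s)
    (elem_sup' (fun v hv => hE2 v (mem_inf.1 hv).1) hsC hs2)
    (by rw [card_sup_invol (centralizer_le_normalizer _ hsC) hs2 fun e => hsE e.1, hfix])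
    fun x hx => key x ?_ (hx s (mem_sup_right (mem_zpowers s))))
  rw [← hC]
  rintro _ ⟨z, hz, rfl⟩
  exact hx _ (key _ z.2 (congrArg Subtype.val (mem_center_iff.1 hz ⟨s, hsQ⟩)))

structure QQ (Q₁ Q₂ : Subgroup G) (z : G) : Prop where
  q1 : Q8 Q₁ z
  q2 : Q8 Q₂ z
  comm : ∀ a ∈ Q₁, ∀ b ∈ Q₂, a * b = b * a
  inf : ∀ a ∈ Q₁, a ∈ Q₂ → a ∈ zpowers z

structure QP (Q : Subgroup G) (z i j : G) : Prop where
  hi : i ∈ Q
  hj : j ∈ Q
  i2 : i * i = z
  j2 : j * j = z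
  n1 : j ≠ i
  n2 : j ≠ i⁻¹

theorem QP.symm {Q : Subgroup G} {z i j : G} (h : QP Q z i j) : QP Q z j i :=
  ⟨h.hj, h.hi, h.j2, h.i2, h.n1.symm, fun e => h.n2 (by rw [e, inv_inv])⟩

theorem Q8_le {Q K : Subgroup G} {z i j : G} (h : Q8 Q z) (p : QP Q z i j) (hi : i ∈ K)
    (hj : j ∈ K) : Q ≤ K := fun x hx => by
  rcases h.all i p.hi j p.hj p.i2 p.j2 p.n1 p.n2 x hx with
    rfl | rfl | rfl | rfl | rfl | rfl | rfl | rfl
  · exact one_mem _
  · exact p.i2 ▸ mul_mem hi hi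
  · exact hi
  · exact inv_mem hi
  · exact hj
  · exact inv_mem hj
  · exact mul_mem hi hj
  · exact inv_mem (mul_mem hi hj)

theorem Q8_inv_eq {Q : Subgroup G} {z i : G} (h : Q8 Q z) (e : i * i = z) : i⁻¹ = z * i := by
  rw [inv_eq_iff_mul_eq_one, ← e, ← mul_assoc, ← mul_assoc, mul_assoc (i * i), e,
    sq_of_ord2 h.zord]

namespace QQ

variable [Finite G] {Q₁ Q₂ : Subgroup G} {z : G}

theorem symm (h : QQ Q₁ Q₂ z) : QQ Q₂ Q₁ z :=
  ⟨h.q2, h.q1, fun a ha b hb => (h.comm b hb a ha).symm, fun a ha hb => h.inf a hb ha⟩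

theorem z2 (h : QQ Q₁ Q₂ z) : z * z = 1 := sq_of_ord2 h.q1.zord

theorem z1 (h : QQ Q₁ Q₂ z) : z ≠ 1 := ne_one_of_ord2 h.q1.zord

theorem norm (h : QQ Q₁ Q₂ z) : Q₁ ≤ normalizer (Q₂ : Set G) :=
  fun a ha => centralizer_le_normalizer _ fun b hb => (h.comm a ha b hb).symm

theorem mem (h : QQ Q₁ Q₂ z) {x : G} (hx : x ∈ Q₁ ⊔ Q₂) : ∃ a ∈ Q₁, ∃ b ∈ Q₂, a * b = x :=
  (PLoc.mem_sup_of_le_normalizer_right h.norm).1 hx

theorem zc (h : QQ Q₁ Q₂ z) : Q₁ ⊔ Q₂ ≤ centralizer {z} :=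
  sup_le (fun a ha => mem_centralizer_singleton_iff.2 (h.q1.zcomm a ha))
    fun a ha => mem_centralizer_singleton_iff.2 (h.q2.zcomm a ha)

theorem not_mem (h : QQ Q₁ Q₂ z) {a : G} (ha : a ∈ Q₁) (e : a * a = z) : a ∉ Q₂ := fun hb => by
  rcases (mem_zpowers_ord2 h.z2).1 (h.inf a ha hb) with rfl | rfl
  · exact h.z1 (by rw [← e, mul_one])
  · exact h.z1 (by rw [← e, h.z2])

theorem ord4 (h : QQ Q₁ Q₂ z) {x : G} (hx : x ∈ Q₁ ⊔ Q₂) (e : x * x = z) : x ∈ Q₁ ∨ x ∈ Q₂ := by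
  obtain ⟨a, ha, b, hb, rfl⟩ := h.mem hx
  rcases h.q1.cases a ha with rfl | rfl | e1
  · exact Or.inr (by simpa using hb)
  · exact Or.inr (mul_mem h.q2.zmem hb)
  rcases h.q2.cases b hb with rfl | rfl | e2
  · exact Or.inl (by simpa using ha)
  · exact Or.inl (mul_mem ha h.q1.zmem)
  refine (h.z1 ?_).elim
  rw [← e, mul_assoc, ← mul_assoc b, ← h.comm a ha b hb, mul_assoc, ← mul_assoc, e1, e2, h.z2]

theorem split (h : QQ Q₁ Q₂ z) {a a' b b' : G} (ha : a ∈ Q₁) (ha' : a' ∈ Q₂) (e1 : a * a = z)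
    (e2 : a' * a' = z) (hb : b ∈ Q₁) (hb' : b' ∈ Q₁ ∨ b' ∈ Q₂) (e : b * b' = a * a') :
    ∃ ε ∈ zpowers z, b = ε * a ∧ b' = ε * a' := by
  rcases hb' with hb' | hb'
  · refine (h.symm.not_mem ha' e2 ?_).elim
    rw [← inv_mul_eq_iff_eq_mul] at e
    exact e ▸ mul_mem (inv_mem ha) (mul_mem hb hb')
  have e3 : a⁻¹ * b = a' * b'⁻¹ := by
    rw [inv_mul_eq_iff_eq_mul, ← mul_assoc, ← e]; group
  have h1 := h.inf _ (mul_mem (inv_mem ha) hb) (e3 ▸ mul_mem ha' (inv_mem hb'))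
  refine ⟨_, h1, ?_, ?_⟩
  · rw [← h.comm a ha _ (e3 ▸ mul_mem ha' (inv_mem hb'))]; group
  · rcases (mem_zpowers_ord2 h.z2).1 h1 with e4 | e4 <;> rw [e4] at e3 ⊢
    · rw [one_mul]; exact (mul_inv_eq_one.1 e3.symm).symm
    · rw [eq_mul_inv_iff_mul_eq] at e3
      rw [← e3, ← mul_assoc, h.z2, one_mul]

theorem types (h : QQ Q₁ Q₂ z) {a a' σ : G} (ha : a ∈ Q₁) (ha' : a' ∈ Q₂) (e1 : a * a = z)
    (e2 : a' * a' = z) (hσ : σ ∈ normalizer ((Q₁ ⊔ Q₂ : Subgroup G) : Set G))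
    (hz : σ * z * σ⁻¹ = z) (e : σ * (a * a') * σ⁻¹ = a * a') :
    (∃ ε ∈ zpowers z, σ * a * σ⁻¹ = ε * a ∧ σ * a' * σ⁻¹ = ε * a') ∨
      ∃ ε ∈ zpowers z, σ * a * σ⁻¹ = ε * a' ∧ σ * a' * σ⁻¹ = ε * a := by
  have h1 := h.ord4 ((mem_normalizer_iff.1 hσ a).1 (mem_sup_left ha)) (by rw [conj_mul, e1, hz])
  have h2 := h.ord4 ((mem_normalizer_iff.1 hσ a').1 (mem_sup_right ha')) (by rw [conj_mul, e2, hz])
  rw [← conj_mul] at e
  rcases h1 with h1 | h1
  · exact Or.inl (h.split ha ha' e1 e2 h1 h2 e)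
  · exact Or.inr (h.symm.split ha' ha e2 e1 h1 h2.symm (e.trans (h.comm a ha a' ha')))

theorem inner (h : QQ Q₁ Q₂ z) {i j i' j' ε : G} (p : QP Q₁ z i j) (p' : QP Q₂ z i' j')
    (hε : ε ∈ zpowers z) : ∃ q ∈ Q₁ ⊔ Q₂, q * i * q⁻¹ = ε * i ∧ q * i' * q⁻¹ = ε * i' ∧
      q * j * q⁻¹ = j ∧ q * j' * q⁻¹ = j' := by
  rcases (mem_zpowers_ord2 h.z2).1 hε with rfl | rfl
  · exact ⟨1, one_mem _, by simp⟩
  have e1 := h.q1.inv i p.hi j p.hj p.i2 p.j2 p.n1 p.n2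
  have e2 := h.q2.inv i' p'.hi j' p'.hj p'.i2 p'.j2 p'.n1 p'.n2
  refine ⟨j * j', mul_mem_sup p.hj p'.hj, ?_, ?_, ?_, ?_⟩
  · calc _ = j * (j' * i) * j'⁻¹ * j⁻¹ := by group
      _ = j * i * j⁻¹ := by rw [← h.comm i p.hi j' p'.hj]; group
      _ = _ := by rw [e1, Q8_inv_eq h.q1 p.i2]
  · calc _ = j * (j' * i' * j'⁻¹) * j⁻¹ := by group
      _ = _ := by rw [e2, h.comm j p.hj _ (inv_mem p'.hi), Q8_inv_eq h.q2 p'.i2]; group
  · calc _ = j * (j' * j) * j'⁻¹ * j⁻¹ := by group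
      _ = _ := by rw [← h.comm j p.hj j' p'.hj]; group
  · rw [h.comm j p.hj j' p'.hj, mul_assoc j', h.comm j p.hj j' p'.hj]; group

theorem step (h : QQ Q₁ Q₂ z) (hG : IsPGroup 2 G)
    (hC : centralizer ((Q₁ ⊔ Q₂ : Subgroup G) : Set G) ≤ Q₁ ⊔ Q₂) {i j i' j' : G}
    (p : QP Q₁ z i j) (p' : QP Q₂ z i' j') (hn : ¬ SR 16 G) :
    ∃ σ : G, σ * i * σ⁻¹ ∈ zpowers i' ∧ σ * j * σ⁻¹ ∈ zpowers j' ∧
      σ * i' * σ⁻¹ ∈ zpowers i ∧ σ * j' * σ⁻¹ ∈ zpowers j := by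
  have hsq : ∀ a ∈ Q₁, ∀ b ∈ Q₂, a * a = z → b * b = z → a * b * (a * b) = 1 :=
    fun a ha b hb e1 e2 => by
    rw [mul_assoc, ← mul_assoc b, ← h.comm a ha b hb, mul_assoc, ← mul_assoc, e1, e2, h.z2]
  have hx := mul_mem_sup p.hi p'.hi
  have hy := mul_mem_sup p.hj p'.hj
  have hx2 := hsq i p.hi i' p'.hi p.i2 p'.i2
  have hy2 := hsq j p.hj j' p'.hj p.j2 p'.j2
  have hnz : ∀ a ∈ Q₁, ∀ b ∈ Q₂, a * b ∈ zpowers z → a ∈ zpowers z := fun a ha b hb e =>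
    h.inf a ha ((mul_mem_cancel_right hb).1 (zpowers_le.2 h.q2.zmem e))
  have hx1 : i * i' ∉ zpowers z := fun e =>
    h.not_mem p.hi p.i2 (zpowers_le.2 h.q2.zmem (hnz i p.hi i' p'.hi e))
  have hx1' := hx1
  rw [mem_zpowers_ord2 h.z2, not_or] at hx1'
  have hzx := (mem_centralizer_singleton_iff.1 (h.zc hx)).symm
  have hU := kf_sup h.q1.zord (orderOf_eq_prime (by rw [pow_two, hx2]) hx1'.1) (Ne.symm hx1'.2) hzx
  have hxy : j * j' * (i * i') * (j * j')⁻¹ = i * i' := by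
    have e1 := h.q1.inv i p.hi j p.hj p.i2 p.j2 p.n1 p.n2
    have e2 := h.q2.inv i' p'.hi j' p'.hj p'.i2 p'.j2 p'.n1 p'.n2
    calc _ = j * (j' * i) * i' * j'⁻¹ * j⁻¹ := by group
      _ = j * i * (j' * i' * j'⁻¹ * j⁻¹) := by rw [← h.comm i p.hi j' p'.hj]; group
      _ = j * i * j⁻¹ * i'⁻¹ := by rw [e2, ← h.comm _ (inv_mem p.hj) _ (inv_mem p'.hi)]; group
      _ = _ := by
        rw [e1, ← mul_inv_rev, ← h.comm i p.hi i' p'.hi, inv_eq_of_mul_eq_one_right hx2]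
  have hyC : j * j' ∈ centralizer ((zpowers z ⊔ zpowers (i * i') : Subgroup G) : Set G) :=
    mem_cent_of_gen (sup_le (zpowers_le.2 (mem_centralizer_singleton_iff.2
      (mem_centralizer_singleton_iff.1 (h.zc hy)).symm)) (zpowers_le.2
        (mem_centralizer_singleton_iff.2 (mul_inv_eq_iff_eq_mul.1 hxy).symm)))
  have hy1 : j * j' ∉ zpowers z ⊔ zpowers (i * i') := fun e => by
    rcases mem_sup_invol' (centralizer_le_normalizer _ (by
      rw [PLoc.centralizer_zpowers]; exact h.zc hx)) (hx2 ▸ one_mem _) e with e1 | ⟨v, hv, e1⟩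
    · exact h.not_mem p.hj p.j2 (zpowers_le.2 h.q2.zmem (hnz j p.hj j' p'.hj e1))
    · have e2 : j * i⁻¹ * (j' * i'⁻¹) = v := by
        calc _ = j * (i⁻¹ * (j' * i'⁻¹)) := by group
          _ = j * j' * (i * i')⁻¹ := by
            rw [h.comm _ (inv_mem p.hi) _ (mul_mem p'.hj (inv_mem p'.hi))]; group
          _ = v := by rw [e1]; group
      rcases (mem_zpowers_ord2 h.z2).1 (hnz _ (mul_mem p.hj (inv_mem p.hi)) _
        (mul_mem p'.hj (inv_mem p'.hi)) (e2 ▸ hv)) with e3 | e3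
      · exact p.n1 (mul_inv_eq_one.1 e3)
      · exact p.n2 (by rw [Q8_inv_eq h.q1 p.i2, ← e3]; group)
  set A := zpowers z ⊔ zpowers (i * i') ⊔ zpowers (j * j') with hA
  have hzA : z ∈ A := mem_sup_left (mem_sup_left (mem_zpowers _))
  have hxA : i * i' ∈ A := mem_sup_left (mem_sup_right (mem_zpowers _))
  have hyA : j * j' ∈ A := mem_sup_right (mem_zpowers _)
  have hAQ : A ≤ Q₁ ⊔ Q₂ := sup_le (sup_le (zpowers_le.2 (mem_sup_left h.q1.zmem))
    (zpowers_le.2 hx)) (zpowers_le.2 hy)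
  have hA2 := elem_sup' (fun v hv => kf_sq hU hv) hyC hy2
  have hcomm : ∀ a ∈ Q₁ ⊔ Q₂, ∀ b ∈ Q₁ ⊔ Q₂, a * b * a⁻¹ = b ∨ a * b * a⁻¹ = z * b :=
    fun a ha₀ b hb₀ => by
    obtain ⟨a, ha, a', ha', rfl⟩ := h.mem ha₀
    obtain ⟨b, hb, b', hb', rfl⟩ := h.mem hb₀
    have e : a * a' * (b * b') * (a * a')⁻¹ = a * b * a⁻¹ * (a' * b' * a'⁻¹) := by
      calc _ = a * (a' * b) * b' * a'⁻¹ * a⁻¹ := by group
        _ = a * b * (a' * b' * a'⁻¹ * a⁻¹) := by rw [← h.comm b hb a' ha']; group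
        _ = _ := by
          rw [← h.comm _ (inv_mem ha) _ (mul_mem (mul_mem ha' hb') (inv_mem ha'))]; group
    have k : ∀ {Q : Subgroup G}, Q8 Q z → ∀ a ∈ Q, ∀ b ∈ Q,
        a * b * a⁻¹ = b ∨ a * b * a⁻¹ = z * b := fun {Q} hQ a ha b hb => by
      rcases hQ.cases b hb with rfl | rfl | e
      · simp
      · left; rw [hQ.zcomm a ha]; group
      · rw [← Q8_inv_eq hQ e]; exact hQ.conj b hb a ha
    rw [e]
    rcases k h.q1 a ha b hb with e1 | e1 <;> rcases k h.q2 a' ha' b' hb' with e2 | e2 <;>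
      rw [e1, e2]
    · exact Or.inl rfl
    · right; rw [← mul_assoc, h.q1.zcomm b hb, mul_assoc]
    · right; rw [mul_assoc]
    · left; rw [mul_assoc, ← mul_assoc b, h.q1.zcomm b hb, mul_assoc, ← mul_assoc, h.z2, one_mul]
  have hNA : Q₁ ⊔ Q₂ ≤ normalizer (A : Set G) := fun a ha => mem_normalizer_fintype fun b hb => by
    rcases hcomm a ha b (hAQ hb) with e | e <;> rw [e]
    · exact hb
    · exact mul_mem hzA hb
  have hXQ : ¬ centralizer (A : Set G) ≤ Q₁ ⊔ Q₂ := fun e => hn (SR_of_E8 hG hA2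
    (by rw [card_sup_invol (centralizer_le_normalizer _ hyC) hy2 hy1, kf_card hU])
    fun x hx => by
      have h1 : Q₁ ⊔ Q₂ ≤ A ⊔ Q₂ := sup_le (Q8_le h.q1 p
        ((mul_mem_cancel_right (mem_sup_right p'.hi)).1 (mem_sup_left hxA))
        ((mul_mem_cancel_right (mem_sup_right p'.hj)).1 (mem_sup_left hyA))) le_sup_right
      obtain ⟨a, ha, b, hb, rfl⟩ := (PLoc.mem_sup_of_le_normalizer_right
        (hAQ.trans (sup_le h.norm le_normalizer))).1 (h1 (e hx))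
      have h2 : b ∈ centralizer (A : Set G) := (mul_mem_cancel_left
        (show a ∈ centralizer (A : Set G) from fun c hc => comm_of_sq_one hA2 c hc a ha)).1 hx
      have h3 : ∀ c ∈ Q₁, ∀ c' : G, c * c' ∈ A → Commute c' b := fun c hc c' e => by
        have := h2 _ e
        rw [← mul_assoc, ← h.comm c hc b hb, mul_assoc, mul_assoc] at this
        exact mul_left_cancel this
      have h4 := h.q2.mem_centralizer p'.hi p'.hj p'.i2 p'.j2 p'.n1 p'.n2 (h3 i p.hi i' hxA)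
        (h3 j p.hj j' hyA)
      refine mul_mem ha ?_
      rcases h.q2.cases b hb with rfl | rfl | e1
      · exact one_mem _
      · exact hzA
      · obtain ⟨c, hc, e2, n1, n2⟩ := h.q2.ex b hb
        have h5 := h.q2.inv b hb c hc e1 e2 n1 n2
        rw [h4 c hc, mul_inv_cancel_right] at h5
        exact (h.z1 (e1 ▸ mul_eq_one_iff_eq_inv.2 h5)).elim)
  obtain ⟨x, hx', hxN, hxQ⟩ := exists_mem_normalizer_not_mem
    (hG.to_subgroup (centralizer (A : Set G) ⊔ (Q₁ ⊔ Q₂)))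
    (lt_of_le_of_ne le_sup_right fun e => hXQ (e ▸ le_sup_left))
  obtain ⟨σ, hσ, q, hq, rfl⟩ := (PLoc.mem_sup_of_le_normalizer_left
    (hNA.trans (normalizer_le_normalizer_centralizer _))).1 hx'
  have hσN := (mul_mem_cancel_right (le_normalizer hq)).1 hxN
  have hσQ : σ ∉ Q₁ ⊔ Q₂ := fun e => hxQ (mul_mem e hq)
  have fix : ∀ a ∈ A, σ * a * σ⁻¹ = a := fun a ha => by rw [← hσ a ha]; group
  have mix : ∀ a ∈ Q₁, ∀ b ∈ Q₂, ∀ {c d : G}, QP Q₁ z c d → σ * c * σ⁻¹ = a → σ * d * σ⁻¹ = b →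
      False := fun a ha b hb c d r e1 e2 => by
    have e3 := h.comm a ha b hb
    rw [← e1, ← e2, conj_mul, conj_mul, mul_left_inj, mul_right_inj] at e3
    have e4 := h.q1.inv c r.hi d r.hj r.i2 r.j2 r.n1 r.n2
    rw [← e3, mul_inv_cancel_right] at e4
    exact h.z1 (r.i2 ▸ mul_eq_one_iff_eq_inv.2 e4)
  have z1 := zpowers_le.2 h.q1.zmem
  have z2 := zpowers_le.2 h.q2.zmem
  have zz : ∀ {ε a : G}, ε ∈ zpowers z → a * a = z → ε * a ∈ zpowers a := fun he e =>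
    mul_mem (zpowers_le.2 (e ▸ mul_mem (mem_zpowers _) (mem_zpowers _)) he) (mem_zpowers _)
  rcases h.types p.hi p'.hi p.i2 p'.i2 hσN (fix z hzA) (fix _ hxA) with
    ⟨ε, hε, e1, e2⟩ | ⟨ε, hε, e1, e2⟩ <;>
  rcases h.types p.hj p'.hj p.j2 p'.j2 hσN (fix z hzA) (fix _ hyA) with
    ⟨δ, hδ, e3, e4⟩ | ⟨δ, hδ, e3, e4⟩
  · obtain ⟨q, hq, a1, a2, a3, a4⟩ := h.inner p p' hε
    obtain ⟨r, hr, b1, b2, b3, b4⟩ := h.inner p.symm p'.symm hδ
    have hqδ : q * δ * q⁻¹ = δ := by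
      rcases (mem_zpowers_ord2 h.z2).1 hδ with rfl | rfl
      · simp
      · rw [mem_centralizer_singleton_iff.1 (h.zc hq)]; group
    have k : ∀ c : G, σ * c * σ⁻¹ = q * (r * c * r⁻¹) * q⁻¹ → Commute c ((q * r)⁻¹ * σ) :=
      fun c e => by
      show c * _ = _ * c
      calc _ = (q * r)⁻¹ * (q * (r * c * r⁻¹) * q⁻¹) * σ := by group
        _ = _ := by rw [← e]; group
    have c1 := h.q1.mem_centralizer p.hi p.hj p.i2 p.j2 p.n1 p.n2 (k i (by rw [e1, b3, a1]))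
      (k j (by rw [e3, b1, ← conj_mul, hqδ, a3]))
    have c2 := h.q2.mem_centralizer p'.hi p'.hj p'.i2 p'.j2 p'.n1 p'.n2 (k i' (by rw [e2, b4, a2]))
      (k j' (by rw [e4, b2, ← conj_mul, hqδ, a4]))
    refine (hσQ ((mul_mem_cancel_left (inv_mem (mul_mem hq hr))).1 (hC (mem_cent_of_gen
      (sup_le ?_ ?_))))).elim
    · exact fun a ha => mem_centralizer_singleton_iff.2 (c1 a ha)
    · exact fun a ha => mem_centralizer_singleton_iff.2 (c2 a ha)
  · exact (mix _ (mul_mem (z1 hε) p.hi) _ (mul_mem (z2 hδ) p'.hj) p e1 e3).elim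
  · exact (mix _ (mul_mem (z1 hδ) p.hj) _ (mul_mem (z2 hε) p'.hi) p.symm e3 e1).elim
  · exact ⟨σ, e1 ▸ zz hε p'.i2, e3 ▸ zz hδ p'.j2, e2 ▸ zz hε p.i2, e4 ▸ zz hδ p.j2⟩

end QQ

theorem s1233 {S : Type*} [Group S] [Finite S] (hS : IsPGroup 2 S) (Q Q₁ Q₂ : Subgroup S)
    (e₁ : Q₁ ≃* QuaternionGroup 2) (e₂ : Q₂ ≃* QuaternionGroup 2)
    (hcomm : ∀ a ∈ Q₁, ∀ b ∈ Q₂, a * b = b * a) (hQ : Q₁ ⊔ Q₂ = Q) (hQ32 : Nat.card Q = 32)
    (hC : Subgroup.centralizer (Q : Set S) ≤ Q) : Cfsg.SectionalPRankLE 2 4 S := by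
  subst hQ
  obtain ⟨z, h1⟩ := exists_Q8 e₁
  obtain ⟨z', h2⟩ := exists_Q8 e₂
  have h3 := PLoc.card_sup_mul_card_inf (H := Q₁) (N := Q₂)
    fun a ha => centralizer_le_normalizer _ fun b hb => (hcomm a ha b hb).symm
  rw [hQ32, h1.card, h2.card] at h3
  have h4 : Nat.card (Q₁ ⊓ Q₂ : Subgroup S) = 2 := by omega
  obtain ⟨x, hx⟩ := exists_prime_orderOf_dvd_card' (G := (Q₁ ⊓ Q₂ : Subgroup S)) 2 (by rw [h4])
  rw [← Subgroup.orderOf_coe] at hx
  obtain rfl := h1.eq_z x.2.1 hx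
  obtain rfl := h2.eq_z x.2.2 hx
  have h : QQ Q₁ Q₂ (x : S) := ⟨h1, h2, hcomm, fun a ha hb => (eq_of_le_of_card_ge
    (zpowers_le.2 x.2) (by rw [h4, Nat.card_zpowers, hx])).ge ⟨ha, hb⟩⟩
  refine sec_of_SR (by_contra fun hn => ?_)
  obtain ⟨i, hi, j, hj, a1, a2, a3, a4⟩ := h1.exists_pair
  obtain ⟨i', hi', j', hj', b1, b2, b3, b4⟩ := h2.exists_pair
  have e := h1.inv i hi j hj a1 a2 a3 a4
  have e' : j * (i * j) = i := by
    calc _ = j * i * j⁻¹ * (j * j) := by group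
      _ = i := by rw [e, a2, ← a1]; group
  obtain ⟨σ, c1, c2, -, -⟩ := h.step hS hC ⟨hi, hj, a1, a2, a3, a4⟩ ⟨hi', hj', b1, b2, b3, b4⟩ hn
  obtain ⟨τ, -, -, d1, d2⟩ := h.step hS hC ⟨hj, mul_mem hi hj, a2, h1.mul_sq hi hj a1 a2 a3 a4,
    fun e1 => h.z1 (by rw [← a1, mul_eq_right.1 e1, mul_one]), fun e1 => a4 (by
      rw [e1, mul_inv_cancel] at e'
      exact (h.z1 (by rw [← a1, ← e', mul_one])).elim)⟩ ⟨hi', hj', b1, b2, b3, b4⟩ hn
  have k : ∀ {g a b : S}, g * a * g⁻¹ ∈ zpowers b → cj g (zpowers a) ≤ zpowers b := fun h => by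
    rw [cj_zpowers]; exact zpowers_le.2 h
  have f1 : cj (τ * σ) (zpowers i) ≤ zpowers j := by
    rw [cj_mul]; exact (cj_mono τ (k c1)).trans (k d1)
  have f2 : cj (τ * σ) (zpowers j) ≤ zpowers (i * j) := by
    rw [cj_mul]; exact (cj_mono τ (k c2)).trans (k d2)
  generalize τ * σ = ρ at f1 f2
  have g1 := f1 (conj_mem_cj.2 (mem_zpowers i))
  have g2 := f2 (conj_mem_cj.2 (mem_zpowers j))
  have hz : ρ * x * ρ⁻¹ = x := h1.eq_z (zpowers_le.2 hj (by
    rw [← a1, ← conj_mul]; exact mul_mem g1 g1)) ((Inv.orderOf_conj' _ _).trans hx)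
  have f3 : cj ρ (zpowers (i * j)) ≤ zpowers i := k (by
    have hxi : (x : S) ∈ zpowers i := a1 ▸ mul_mem (mem_zpowers _) (mem_zpowers _)
    have hij := h1.mul_sq hi hj a1 a2 a3 a4
    rw [← conj_mul]
    rcases h1.eq_or_of_mem_zpowers hj a2 (by rw [conj_mul, a1, hz]) g1 with e1 | e1 <;>
    rcases h1.eq_or_of_mem_zpowers (mul_mem hi hj) hij (by rw [conj_mul, a2, hz]) g2 with e2 | e2 <;>
    rw [e1, e2]
    · rw [e']; exact mem_zpowers _
    · rw [Q8_inv_eq h1 hij, ← mul_assoc, h1.zcomm j hj, mul_assoc, e']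
      exact mul_mem hxi (mem_zpowers _)
    · rw [Q8_inv_eq h1 a2, mul_assoc, e']; exact mul_mem hxi (mem_zpowers _)
    · rw [Q8_inv_eq h1 hij, Q8_inv_eq h1 a2, mul_assoc, ← mul_assoc j, h1.zcomm j hj, mul_assoc, e']
      exact mul_mem hxi (mul_mem hxi (mem_zpowers _)))
  have h5 : ρ ∈ normalizer (zpowers i : Set S) := mem_of_odd_zpow hS (j := 1)
    (mem_normalizer_of_cj_le (by
      rw [show 2 * (1 : ℤ) + 1 = 1 + (1 + 1) by norm_num, zpow_add, zpow_add, zpow_one, cj_mul,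
        cj_mul]
      exact (cj_mono ρ ((cj_mono ρ f1).trans f2)).trans f3))
  rw [cj_eq_self_iff.2 h5] at f1
  rcases h1.eq_or_of_mem_zpowers hj a2 a1 (f1 (mem_zpowers i)) with e1 | e1
  · exact a3 e1.symm
  · exact a4 (by rw [e1, inv_inv])

theorem SR_of_sylow [Finite G] {k : ℕ} {S : Subgroup G} (hS : IsSylowOf 2 S ⊤) (h : SR k S) :
    SR k G := fun H N hs => by
  obtain ⟨P, hP⟩ := exists_isSylowOf 2 H
  obtain ⟨g, -, hg⟩ := hS.exists_cj_le hP.isP le_top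
  have h1 : (N ⊔ H ⊓ P).relIndex H = 1 := by
    refine relIndex_eq_one.2 fun x hx => ?_
    have h2 := pow_relIndex_mem' (hs.up P).norm hx
    have h3 : ¬ 2 ∣ (N ⊔ H ⊓ P).relIndex H := fun e => hP.not_dvd (e.trans
      (relIndex_dvd_of_le_left H (le_sup_of_le_right (le_inf hP.le le_rfl))))
    obtain ⟨j, hj⟩ := Nat.odd_iff.2 (Nat.two_dvd_ne_zero.1 h3)
    rw [hj, pow_succ, pow_mul, pow_two] at h2
    exact (mul_mem_cancel_left (pow_mem ((hs.up P).sq x hx) j)).1 h2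
  rw [hs.chain P, h1, mul_one, inf_eq_right.2 hP.le, ← inf_relIndex_right, ← relIndex_cj g,
    ← relIndex_subgroupOf hg]
  refine h _ _ ⟨fun x hx => cj_mono g inf_le_right hx, fun x hx => ?_⟩
  rw [mem_subgroupOf, mem_cj] at hx ⊢
  have := mem_inf.2 ⟨hs.sq _ (hP.le hx), mul_mem hx hx⟩
  convert this using 1
  simp [mul_assoc]

theorem le_or_le_of_mem {E A B : Subgroup G} (h : ∀ x ∈ E, x ∈ A ∨ x ∈ B) : E ≤ A ∨ E ≤ B := by
  by_contra h'
  rw [not_or, SetLike.not_le_iff_exists, SetLike.not_le_iff_exists] at h'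
  obtain ⟨⟨x, hx, hxA⟩, y, hy, hyB⟩ := h'
  rcases h _ (mul_mem hx hy) with e | e
  · exact hxA ((mul_mem_cancel_right ((h y hy).resolve_right hyB)).1 e)
  · exact hyB ((mul_mem_cancel_left ((h x hx).resolve_left hxA)).1 e)

theorem card_fix_le [Finite G] {T B Y Z : Subgroup G} (hB : IsKleinFour B)
    (hC : ∀ b ∈ B, b ≠ 1 → centralizer {b} = T) {n : G} (hn : n ∉ T) (hY : Y ≤ T)
    (hYn : Y ≤ centralizer {n}) (hYZ : Y ≤ Z) (hBZ : B ≤ Z) : Nat.card Y * 4 ≤ Nat.card Z := by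
  rw [← kf_card hB, ← PLoc.card_sup_of_disjoint]
  · exact card_le_of_le (sup_le hYZ hBZ)
  · refine fun y hy => centralizer_le_normalizer _ fun b hb => ?_
    by_cases h1 : b = 1
    · simp [h1]
    · exact (mem_centralizer_singleton_iff.1 (hC b hb h1 ▸ hY hy : y ∈ centralizer {b})).symm
  · rw [eq_bot_iff]
    rintro b ⟨h1, h2⟩
    by_contra h3
    exact hn (hC b h2 h3 ▸ mem_centralizer_singleton_iff.2
      (mem_centralizer_singleton_iff.1 (hYn h1)).symm)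

theorem SR_E16 [Finite G] (hG : IsPGroup 2 G) {T B : Subgroup G} (hB : IsKleinFour B) (hBT : B ≤ T)
    (hC : ∀ b ∈ B, b ≠ 1 → centralizer {b} = T) (h2 : ∀ t ∈ T, t * t = 1)
    (h16 : Nat.card T = 16) : SR 16 G := by
  have hfix : ∀ n ∉ T, ∀ Y ≤ T, Y ≤ centralizer {n} → Nat.card Y ≤ 4 := fun n hn Y h1 h3 => by
    have := card_fix_le hB hC hn h1 h3 h1 hBT; omega
  set M := normalizer (T : Set G) with hM
  have hr : T.relIndex M ≤ 4 := by
    have h1 := PLoc.commutator_lt_of_isPGroup (p := 2) (L := T) (V := M)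
      (fun e => by rw [e] at h16; simp at h16) le_normalizer le_rfl (hG.to_subgroup _)
    have h3 := card_lt_of_lt h1
    have inj : ∀ b ∈ B, b ≠ 1 → ∀ x y : G, ⁅x, b⁆ = ⁅y, b⁆ → x⁻¹ * y ∈ T := fun b hb h1 x y e => by
      rw [← commutatorElement_inv b, ← commutatorElement_inv b, inv_inj] at e
      exact hC b hb h1 ▸ comm_eq_imp e
    have mem : ∀ b ∈ B, ∀ x ∈ M, ⁅x, b⁆ ∈ ⁅T, M⁆ := fun b hb x hx =>
      comm_symm_mem (commutator_mem_commutator (hBT hb) hx)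
    have h4 := card_cases hG ⁅T, M⁆
    have h5 := relIndex_cases hG T M
    by_cases h6 : B ⊓ ⁅T, M⁆ = ⊥
    · obtain ⟨b, hb, hb1, -⟩ := kf_exists_ne hB 1
      refine (relIndex_le_sub _ (mem b hb) fun x _ y _ => inj b hb hb1 x y).trans ?_
      have h7 := PLoc.card_sup_of_disjoint (H := B) (N := ⁅T, M⁆) (fun x hx =>
        centralizer_le_normalizer _ fun y hy => comm_of_sq_one h2 y (h1.le hy) x (hBT hx)) h6
      have h8 := card_le_of_le (sup_le hBT h1.le)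
      rw [kf_card hB] at h7
      omega
    · obtain ⟨⟨b, hb, hb'⟩, hb1⟩ := (ne_bot_iff_exists_ne_one).1 h6
      have hb1' : b ≠ 1 := fun e => hb1 (Subtype.ext e)
      have h7 : T.relIndex M ≤ ((⁅T, M⁆ : Subgroup G) \ {b⁻¹} : Set G).ncard :=
        relIndex_le_ncard (fun x => ⁅x, b⁆) (Set.toFinite _) (fun x hx => ⟨mem b hb x hx, fun e =>
          hb1' (by simpa [commutatorElement_def] using e)⟩) fun x _ y _ => inj b hb hb1' x y
      rw [Set.ncard_sdiff_singleton_of_mem ((⁅T, M⁆ : Subgroup G).inv_mem hb')] at h7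
      change _ ≤ Nat.card (⁅T, M⁆ : Subgroup G) - 1 at h7
      omega
  have hin : ∀ H N : Subgroup G, SqIn H N → H ≤ M → N.relIndex H ≤ 16 := fun H N hs hH => by
    by_cases h1 : H ≤ T
    · exact (relIndex_le_card' _ _).trans (h16 ▸ card_le_of_le h1)
    obtain ⟨m, hm, hmT⟩ := SetLike.not_le_iff_exists.1 h1
    rw [hs.chain T]
    refine Nat.mul_le_mul (n₂ := 4) (m₂ := 4) ((relIndex_le_card_cent (m := m) (X := H ⊓ T)
      fun x hx => ⟨hs.comm hm hx.1, hs.le (hs.comm hm hx.1), T.mul_mem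
        ((mem_normalizer_iff.1 (hH hm) x).1 hx.2) (T.inv_mem hx.2)⟩).trans
      (hfix m hmT _ (inf_le_right.trans inf_le_right) inf_le_left))
      ((relIndex_le_of_inf' le_sup_right).trans
        ((relIndex_le_of_le_right hH (PLoc.relIndex_pos' _ _).ne').trans hr))
  by_cases hMt : M = ⊤
  · exact fun H N hs => hin H N hs (hMt ▸ le_top)
  obtain ⟨m₀, -, hm₀, hm₀'⟩ := exists_mem_normalizer_not_mem (isPGroup_top_iff.2 hG)
    (lt_top_iff_ne_top.2 hMt)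
  have hel : ∀ s : G, ∀ t ∈ cj s T, t * t = 1 := fun s t ht => by
    have := h2 _ (mem_cj.1 ht)
    rwa [show s⁻¹ * t * s * (s⁻¹ * t * s) = s⁻¹ * (t * t) * s⁻¹⁻¹ by group, conj_eq_one_iff] at this
  set T' := cj m₀ T with hT'
  have hT'M : T' ≤ M := cj_le_of_mem_normalizer le_normalizer hm₀
  have hne : T' ≠ T := fun e => hm₀' (cj_eq_self_iff.1 e)
  have h16' : Nat.card T' = 16 := (card_cj _ _).trans h16
  have hZ : ∀ t ∈ T', t ∉ T → T ⊓ T' ≤ centralizer {t} := fun t ht _ x hx =>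
    mem_centralizer_singleton_iff.2 (comm_of_sq_one (hel m₀) x hx.2 t ht)
  obtain ⟨t₀, ht₀, ht₀'⟩ : ∃ t ∈ T', t ∉ T := SetLike.not_le_iff_exists.1 fun e =>
    hne (eq_of_le_of_card_ge e (by omega))
  have e1 := PLoc.card_inf_mul_relIndex T T'
  have e2 := hfix t₀ ht₀' _ inf_le_left (hZ t₀ ht₀ ht₀')
  have e3 : T.relIndex T' ≤ T.relIndex M := relIndex_le_of_le_right hT'M (PLoc.relIndex_pos' _ _).ne'
  have hZ4 : Nat.card (T ⊓ T' : Subgroup G) = 4 := by nlinarith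
  have hTT : ∀ m ∈ M, ∃ t' ∈ T', ∃ t ∈ T, t' * t = m := fun m hm => by
    refine (PLoc.mem_sup_of_le_normalizer_right hT'M).1 ((eq_of_le_of_card_ge
      (sup_le hT'M le_normalizer) ?_).ge hm)
    have e4 := PLoc.card_sup_mul_card_inf hT'M
    have e5 := PLoc.card_mul_relIndex (le_normalizer (H := T))
    rw [inf_comm, hZ4] at e4
    nlinarith
  have hZ' : ∀ t' ∈ T', t' ∉ T → ∀ t ∈ T, t * t' = t' * t → t ∈ T' := fun t' h1 h3 t ht e =>
    ((eq_of_le_of_card_ge (le_inf inf_le_left (hZ t' h1 h3)) ((hfix t' h3 _ inf_le_left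
      inf_le_right).trans hZ4.ge)).ge ⟨ht, mem_centralizer_singleton_iff.2 e⟩).2
  have hinv : ∀ m ∈ M, m * m = 1 → m ∈ T ∨ m ∈ T' := fun m hm e => by
    obtain ⟨t', h1, t, ht, rfl⟩ := hTT m hm
    by_cases h3 : t' ∈ T
    · exact Or.inl (mul_mem h3 ht)
    refine Or.inr (mul_mem h1 (hZ' t' h1 h3 t ht ?_))
    rw [← inv_eq_of_mul_eq_one_right e, mul_inv_rev, inv_eq_of_mul_eq_one_right (h2 t ht),
      inv_eq_of_mul_eq_one_right (hel m₀ t' h1)]
  have hE : ∀ s : G, cj s T ≤ M → cj s T = T ∨ cj s T = T' := fun s hs =>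
    (le_or_le_of_mem fun x hx => hinv x (hs hx) (hel s x hx)).imp
      (fun e => eq_of_le_of_card_ge e (by rw [card_cj]))
      fun e => eq_of_le_of_card_ge e (by rw [card_cj, card_cj])
  set L := normalizer (M : Set G) with hL
  have hsw : ∀ s ∈ L, s ∉ M → cj s T = T' ∧ cj s T' = T := fun s hs hsM => by
    have h1 := (hE s (cj_le_of_mem_normalizer le_normalizer hs)).resolve_left
      fun e => hsM (cj_eq_self_iff.1 e)
    refine ⟨h1, ?_⟩
    rw [hT', ← cj_mul]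
    refine (hE _ (cj_le_of_mem_normalizer le_normalizer (mul_mem hs hm₀))).resolve_right fun e => ?_
    rw [cj_mul, ← h1] at e
    exact hne (cj_injective s e)
  have hML : M.relIndex L ≤ 2 := relIndex_le_two fun x hx y hy h1 h3 => cj_eq_self_iff.1 (by
    rw [cj_mul, (hsw y hy h3).1, ← (hsw x hx h1).1, cj_inv_cj])
  have hsmall : ∀ m ∈ L, m ∉ M → ∀ E ≤ M, (∀ x ∈ E, x * x = 1) → (∀ x ∈ E, m * x * m⁻¹ ∈ E) →
      E ≤ T ⊓ T' := fun m hm hmM E hE hE2 hn => by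
    obtain ⟨h1, h3⟩ := hsw m hm hmM
    have h4 : cj m E = E := cj_eq_self_iff.2 (mem_normalizer_fintype hn)
    rcases le_or_le_of_mem fun x hx => hinv x (hE hx) (hE2 x hx) with e | e
    · exact le_inf e (h4 ▸ h1 ▸ cj_mono m e)
    · exact le_inf (h4 ▸ h3 ▸ cj_mono m e) e
  have hLt : L = ⊤ := by
    by_contra h1
    obtain ⟨s, -, hs, hs'⟩ := exists_mem_normalizer_not_mem (isPGroup_top_iff.2 hG)
      (lt_top_iff_ne_top.2 h1)
    have h3 : cj s T ≤ L := cj_le_of_mem_normalizer (le_normalizer.trans le_normalizer) hs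
    by_cases h4 : cj s T ≤ M
    · rcases hE s h4 with e | e
      · exact hs' (le_normalizer (cj_eq_self_iff.1 e))
      · refine hs' ((mul_mem_cancel_left (inv_mem hm₀)).1 (le_normalizer (cj_eq_self_iff.1 ?_)))
        rw [cj_mul, e, hT', cj_inv_cj]
    obtain ⟨m, hm, hmM⟩ := SetLike.not_le_iff_exists.1 h4
    have h5 := card_le_of_le (hsmall m (h3 hm) hmM (M ⊓ cj s T) inf_le_left
      (fun x hx => hel s x hx.2) fun x hx => by
        rwa [comm_of_sq_one (hel s) m hm x hx.2, mul_inv_cancel_right])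
    have h6 := PLoc.card_inf_mul_relIndex M (cj s T)
    have h7 := (relIndex_le_of_le_right h3 (PLoc.relIndex_pos' _ _).ne').trans hML
    rw [card_cj] at h6
    nlinarith
  have hMn : M.Normal := normalizer_eq_top_iff.1 hLt
  have hMT' : ∀ s ∈ M, cj s T' = T' := fun s hs => by
    rw [hT', ← cj_mul, show s * m₀ = m₀ * (m₀⁻¹ * s * m₀⁻¹⁻¹) by group, cj_mul,
      cj_eq_self_iff.2 (hMn.conj_mem s hs _)]
  have hZn : (T ⊓ T').Normal := normal_of_forall_mem_normalizer fun s => cj_eq_self_iff.1 (by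
    rw [cj_inf]
    by_cases h1 : s ∈ M
    · rw [cj_eq_self_iff.2 h1, hMT' s h1]
    · rw [(hsw s (hLt ▸ mem_top s) h1).1, (hsw s (hLt ▸ mem_top s) h1).2, inf_comm])
  intro H N hs
  by_cases hH : H ≤ M
  · exact hin H N hs hH
  obtain ⟨m, hm, hmM⟩ := SetLike.not_le_iff_exists.1 hH
  have hMi : M.index ≤ 2 := by rwa [hLt, relIndex_top_right] at hML
  by_cases h1 : ∀ x ∈ H ⊓ M, x * x = 1
  · have h3 := card_le_of_le (hsmall m (hLt ▸ mem_top m) hmM _ inf_le_right h1 fun x hx =>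
      ⟨H.mul_mem (H.mul_mem hm hx.1) (H.inv_mem hm), hMn.conj_mem x hx.2 m⟩)
    rw [hs.chain M]
    exact Nat.mul_le_mul (n₂ := 8) (m₂ := 2) ((relIndex_le_card' _ _).trans (by omega))
      ((relIndex_le_of_inf le_sup_right).trans hMi)
  push Not at h1
  obtain ⟨x, hx, hx1⟩ := h1
  have hx2 : x * x ∈ T ⊓ T' := by
    obtain ⟨t', h1, t, ht, rfl⟩ := hTT x hx.2
    refine ⟨?_, ?_⟩
    · have := T.mul_mem ((mem_normalizer_iff.1 (hT'M h1) t).1 ht) ht
      rwa [inv_eq_of_mul_eq_one_right (hel m₀ t' h1), mul_assoc] at this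
    · have := T'.mul_mem h1 (hMT' t (le_normalizer ht) ▸ conj_mem_cj.2 h1)
      rwa [inv_eq_of_mul_eq_one_right (h2 t ht), ← mul_assoc, ← mul_assoc, mul_assoc] at this
  have h3 : N.relIndex (H ⊓ (T ⊓ T')) ≤ 2 := by
    have h4 := relIndex_cases hG N (H ⊓ (T ⊓ T'))
    by_contra h5
    exact hx1 ((gamma_full hs (Y := ⊥) (V := T ⊓ T') bot_le (by rw [card_bot]; omega)).2
      ⟨hs.sq x hx.1, hx2⟩)
  have hs' := hs.up (T ⊓ T')
  rw [hs.chain (T ⊓ T'), hs'.chain M]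
  refine Nat.mul_le_mul (n₂ := 2) (m₂ := 8) h3 (Nat.mul_le_mul (n₂ := 4) (m₂ := 2) ?_
    ((relIndex_le_of_inf le_sup_right).trans hMi))
  refine (relIndex_le_cent (X := H ⊓ M) (Z := T ⊓ T') (D := cmod (T ⊓ T') m) (m := m)
    le_normalizer_of_normal (fun x hx => ⟨hs'.comm hm hx.1, hs'.le (hs'.comm hm hx.1),
      M.mul_mem (hMn.conj_mem x hx.2 m) (M.inv_mem hx.2)⟩)
    (fun x hx => le_sup_right (b := H ⊓ (T ⊓ T')) ⟨hx.2.1, hx.1⟩) fun x _ hx => hx).trans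
    ((relIndex_le_of_inf' (Y := T) fun t ht => mem_inf.2 ⟨ht.2, ?_⟩).trans
      ((relIndex_le_of_le_right (inf_le_right.trans inf_le_right)
        (PLoc.relIndex_pos' _ _).ne').trans hr))
  have h4 : m * t * m⁻¹ ∈ T' := (hsw m (hLt ▸ mem_top m) hmM).1 ▸ conj_mem_cj.2 ht.2
  have h5 := T'.mul_mem (T'.inv_mem (mem_cmod.1 ht.1.1).2) h4
  rwa [conj_eq_comm, inv_mul_cancel_left] at h5

theorem SR_DB [Finite G] (hG : IsPGroup 2 G) {T D B : Subgroup G} (hB : IsKleinFour B)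
    (hprod : IsInternalDirectProduct D B T) (hC : ∀ b ∈ B, b ≠ 1 → centralizer {b} = T)
    {k z : G} (hk : k ∈ D) (hi : (zpowers k).relIndex D ≤ 2) (hz : z * z = 1)
    (hZ : ∀ d ∈ D, (∀ d' ∈ D, d' * d = d * d') → d ∈ zpowers z) : SR 16 G := by
  obtain ⟨hDT, hBT, hc, -, hsup⟩ := hprod
  have hDB : D ≤ normalizer (B : Set G) := fun a ha =>
    centralizer_le_normalizer _ fun b hb => (hc a ha b hb).symm
  have hT : ∀ t ∈ T, ∃ d ∈ D, ∃ b ∈ B, d * b = t := fun t ht =>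
    (PLoc.mem_sup_of_le_normalizer_right hDB).1 (hsup ▸ ht)
  have hBc : ∀ b ∈ B, ∀ t ∈ T, t * b = b * t := fun b hb t ht => by
    by_cases h1 : b = 1
    · simp [h1]
    · exact mem_centralizer_singleton_iff.1 (hC b hb h1 ▸ ht : t ∈ centralizer {b})
  have htop : T = ⊤ := by
    by_contra h1
    obtain ⟨n₀, -, hn₀, hn₀'⟩ := exists_mem_normalizer_not_mem (isPGroup_top_iff.2 hG)
      (lt_top_iff_ne_top.2 h1)
    obtain ⟨i, hn, hn2⟩ := Core.exists_pow_not_mem_pow_mem hG hn₀'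
    have hN := pow_mem hn₀ (2 ^ i)
    generalize n₀ ^ 2 ^ i = n at hn hn2 hN
    set Z := T ⊓ centralizer (T : Set G)
    have hBZ : B ≤ Z := fun b hb => ⟨hBT hb, fun t ht => hBc b hb t ht⟩
    have h3 : ∀ x ∈ Z, ∃ d ∈ zpowers z, d ∈ D ∧ ∃ b ∈ B, d * b = x := fun x hx => by
      obtain ⟨d, hd, b, hb, rfl⟩ := hT x hx.1
      refine ⟨d, hZ d hd fun d' hd' => ?_, hd, b, hb, rfl⟩
      have := hx.2 d' (hDT hd')
      rw [mul_assoc, ← hc d' hd' b hb, ← mul_assoc, ← mul_assoc] at this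
      exact mul_right_cancel this
    have h4 : ∀ x ∈ Z, x * x = 1 := fun x hx => by
      obtain ⟨d, hd, hd', b, hb, rfl⟩ := h3 x hx
      rw [mul_assoc, ← mul_assoc b, ← hc d hd' b hb, mul_assoc, kf_sq hB hb, mul_one]
      rcases (mem_zpowers_ord2 hz).1 hd with rfl | rfl
      · exact mul_one _
      · exact hz
    have h5 : Nat.card Z ≤ 8 := by
      have h6 : B.relIndex Z ≤ 2 := relIndex_le_two fun x hx y hy h6 h7 => by
        obtain ⟨d, hd, -, b, hb, rfl⟩ := h3 x hx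
        obtain ⟨d', hd', -, b', hb', rfl⟩ := h3 y hy
        rcases (mem_zpowers_ord2 hz).1 hd with rfl | rfl
        · exact (h6 (by simpa using hb)).elim
        rcases (mem_zpowers_ord2 hz).1 hd' with rfl | rfl
        · exact (h7 (by simpa using hb')).elim
        simpa [mul_assoc] using mul_mem (inv_mem hb) hb'
      have h7 := PLoc.card_mul_relIndex hBZ
      rw [kf_card hB] at h7
      omega
    have h6 := card_fix_le hB hC hn (Y := Z ⊓ centralizer {n}) (inf_le_left.trans inf_le_left)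
      inf_le_right inf_le_left hBZ
    have h7 := card_fix_le hB hC hn (Y := B ⊓ centralizer {n}) (inf_le_left.trans hBT)
      inf_le_right inf_le_left le_rfl
    have h8 := card_le_comm (X := B) (Y := Z ⊓ centralizer {n}) (a := n) fun b hb => by
      have h9 : ⁅n, b⁆ ∈ Z := Z.mul_mem ⟨(mem_normalizer_iff.1 hN b).1 (hBT hb),
        (mem_normalizer_iff.1 (normalizer_le_normalizer_centralizer _ hN) b).1 (hBZ hb).2⟩
        (Z.inv_mem (hBZ hb))
      refine ⟨h9, mem_centralizer_singleton_iff.2 ?_⟩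
      rw [eq_comm, ← mul_inv_eq_iff_eq_mul]
      refine Eq.trans ?_ (inv_eq_of_mul_eq_one_right (h4 _ h9))
      calc n * ⁅n, b⁆ * n⁻¹ = n ^ 2 * b * (n ^ 2)⁻¹ * (n * b⁻¹ * n⁻¹) := by
            rw [commutatorElement_def, pow_two]; group
        _ = _ := by rw [hBc b hb _ hn2, commutatorElement_def]; group
    rw [kf_card hB] at h7 h8
    nlinarith
  have : B.Normal := ⟨fun b hb g => by rwa [hBc b hb g (htop ▸ mem_top g), mul_inv_cancel_right]⟩
  intro H N hs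
  rw [hs.chain B]
  refine Nat.mul_le_mul (n₂ := 4) (m₂ := 4) ((relIndex_le_card' _ _).trans
    (kf_card hB ▸ card_le_of_le inf_le_right))
    (relIndex_le_four hG (k := k) ?_ (hs.up B) le_sup_right).1
  rw [← relIndex_top_right]
  refine relIndex_le_two fun x _ y _ h1 h2 => ?_
  obtain ⟨d, hd, b, hb, rfl⟩ := hT x (htop ▸ mem_top x)
  obtain ⟨d', hd', b', hb', rfl⟩ := hT y (htop ▸ mem_top y)
  have := inv_mul_mem_of_le_two hi hd hd' (fun e => h1 (mul_mem (mem_sup_right e) (mem_sup_left hb)))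
    fun e => h2 (mul_mem (mem_sup_right e) (mem_sup_left hb'))
  simpa [mul_assoc] using mul_mem (mul_mem (mem_sup_left (inv_mem hb)) (mem_sup_right this))
    (mem_sup_left hb')

theorem SR_DB' [Finite G] (hG : IsPGroup 2 G) {T D B : Subgroup G} (hB : IsKleinFour B)
    (hprod : IsInternalDirectProduct D B T) (hC : ∀ b ∈ B, b ≠ 1 → centralizer {b} = T)
    (hD : (∃ m : ℕ, 2 ≤ m ∧ Nonempty (D ≃* DihedralGroup m)) ∨ IsQuasiDihedral D) : SR 16 G := by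
  rcases hD with ⟨m, hm, ⟨e⟩⟩ | hD
  · obtain ⟨x, y, l, h, -⟩ := exists_DH (hG.to_subgroup D) hm e
    rcases h.l_cases with rfl | ⟨n, rfl⟩
    · obtain ⟨hDT, hBT, hc, hd, hsup⟩ := hprod
      have hDB : D ≤ normalizer (B : Set G) := fun a ha =>
        centralizer_le_normalizer _ fun b hb => (hc a ha b hb).symm
      refine SR_E16 hG hB hBT hC (fun t ht => ?_) (by
        rw [← hsup, PLoc.card_sup_of_disjoint hDB hd, h.card, kf_card hB])
      obtain ⟨d, hd, b, hb, rfl⟩ := (PLoc.mem_sup_of_le_normalizer_right hDB).1 (hsup ▸ ht)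
      have := h.sq_mem_X2 hd
      rw [orderOf_eq_one_iff.1 h.x2ord, zpowers_one_eq_bot, mem_bot] at this
      rw [mul_assoc, ← mul_assoc b, ← hc d hd b hb, mul_assoc, kf_sq hB hb, mul_one, this]
    · refine SR_DB hG hB hprod hC h.x1mem h.relIndex_X.le (sq_of_ord2 h.zord) fun d hd e => ?_
      by_cases h1 : d ∈ zpowers x
      · rcases h.comm_o h1 (e _ (h.omem 0)) with rfl | rfl
        · exact one_mem _
        · exact mem_zpowers _
      · have h2 := h.o_conj' hd h1 (mem_zpowers x)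
        rw [← e x h.x1mem, mul_inv_cancel_right, ← mul_eq_one_iff_eq_inv, ← pow_two,
          ← orderOf_dvd_iff_pow_eq_one, h.ord] at h2
        have := Nat.le_of_dvd two_pos h2
        have := h.lpos
        omega
  · obtain ⟨x, y, l, h⟩ := exists_QD hD
    exact SR_DB hG hB hprod hC h.x1mem h.relIndex_X.le (sq_of_ord2 h.zord)
      fun d hd e => h.center_eq ▸ mem_inf.2 ⟨hd, e⟩

theorem s1235 [Finite G] (T D B : Subgroup G) (hT : IsPGroup 2 T)
    (hprod : IsInternalDirectProduct D B T)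
    (hD : (∃ m : ℕ, 2 ≤ m ∧ Nonempty (D ≃* DihedralGroup m)) ∨ IsQuasiDihedral D)
    (hB : IsKleinFour B) (hTb : ∀ b ∈ B, orderOf b = 2 → T ≤ centralizer ({b} : Set G) ∧
      Odd (T.relIndex (centralizer ({b} : Set G)))) : SectionalPRankLE 2 4 G := by
  obtain ⟨S, hS, hTS⟩ := exists_isSylowOf_ge hT le_top
  obtain ⟨hDT, hBT, hc, hd, hsup⟩ := hprod
  refine sec_of_SR (SR_of_sylow hS (SR_DB' hS.isP (T := T.subgroupOf S) (D := D.subgroupOf S)
    (kf_subgroupOf hB (hBT.trans hTS)) ⟨fun _ h => hDT h, fun _ h => hBT h,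
      fun a ha b hb => Subtype.ext (hc _ ha _ hb), by
        rw [eq_bot_iff]; exact fun x hx => Subtype.ext (hd.le hx),
      by rw [← subgroupOf_sup (hDT.trans hTS) (hBT.trans hTS), hsup]⟩ (fun b hb h1 => ?_) ?_))
  · obtain ⟨h2, h3⟩ := hTb b hb (kf_ord hB hb fun e => h1 (Subtype.ext e))
    have h4 := (IsSylowOf.mk h2 hT (Nat.two_dvd_ne_zero.2 (Nat.odd_iff.1 h3))).eq_of_le
      (Q := S ⊓ centralizer {(b : G)}) (hS.isP.to_inf_left) inf_le_right (le_inf hTS h2)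
    ext x
    rw [mem_subgroupOf, ← h4, mem_centralizer_singleton_iff, mem_inf, mem_centralizer_singleton_iff,
      Subtype.ext_iff]
    simp
  · have e := subgroupOfEquivOfLe (hDT.trans hTS)
    rcases hD with ⟨m, hm, ⟨e'⟩⟩ | hD
    · exact Or.inl ⟨m, hm, ⟨e.trans e'⟩⟩
    · exact Or.inr (isQD_of_equiv e.symm hD)

end Cfsg.Agent.Dih
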